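import Cfsg.Agent.Omega.NO3b.Ineq
import Cfsg.Agent.Omega.NO3b.Gen
import Cfsg.Agent.ZN.ChoiceBase
import Cfsg.Agent.Lib.CoprimeStab

/-!
# THEOREM LOC (helper768, #15138 (C); in the w.c. frame #16346: #18263), part 1: the situation, minimal offenders

`S ≤ P ≤ M`, `S ≤ P₂`, `P` minimal parabolic with `E = O²(P)`, `V` normal in `M` and not FF, `C_V(E) = 1`,
`P₂ ≤ C(Z)`, `R = O²(P₂)`, `|S : Q₂| = 2`, `P₂ = ⟨S, S^g⟩` for `g ∈ P₂ - N(V)` (type `S₃`), `W = ⟨V^{P₂}⟩`,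
`U = ⟨Z^{⟨M, P₂⟩}⟩` elementary abelian. `princ`: every `A ≤ S` with `[V, A] ≠ 1` has an `M`-conjugate in `S` whose
normal closure in `P` contains `E` (trivial for `M = P`).

* `Hyp S M P P₂ Q₂ E R Z V W U` : this situation;
* `MO S U B` : `B ≤ S` is an offender on `U` of minimal order;
* `Hyp.exists_MO` : there is one with `B ≰ Q₂`; `MO.cent` : `B` centralises `V`;
* `Hyp.gen1`, `Hyp.gen2` : `R ≤ ⟨B, Q₁^g⟩`, `R ≤ ⟨Q₁^g, Q₁^h⟩`, `Q₁ = C_S(V)`;
* `Hyp.mem_H` : two different lines of `P₂` meet in `H = C_V(R)`.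
-/

set_option autoImplicit false

namespace Cfsg.Agent.Omega.NO3b.Loc.Base

open Subgroup Cfsg.Agent.ZN Cfsg.Agent.ZN.ChoiceBase Cfsg.Agent.Omega.NO3b.Ineq Cfsg.Agent.Omega.NO3b.Gen
open Cfsg.Agent.Omega.NO3b.CTwo
open scoped commutatorElement

variable {G : Type*} [Group G]

/-- `A` acts on `V` as an elementary abelian 2-group. -/
structure EM (V A : Subgroup G) : Prop where
  sq : ∀ a ∈ A, a ^ 2 ∈ centralizer (V : Set G)
  comm : ∀ a ∈ A, ∀ b ∈ A, a * b * a⁻¹ * b⁻¹ ∈ centralizer (V : Set G)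

/-- `A` is an offender on `U`. -/
structure Off (U A : Subgroup G) : Prop extends EM U A where
  ne : ¬ A ≤ centralizer (U : Set G)
  le : cidx U A ≤ cidx A U

/-- No subgroup of `S` is an offender on `V`. -/
def NF (S V : Subgroup G) : Prop :=
  ∀ A : Subgroup G, A ≤ S → EM V A → ¬ A ≤ centralizer (V : Set G) → cidx A V < cidx V A

/-- `B` is an offender of `S` on `U` of minimal order. -/
structure MO (S U B : Subgroup G) : Prop where
  le : B ≤ S
  off : Off U B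
  min : ∀ A : Subgroup G, A ≤ S → Off U A → Nat.card B ≤ Nat.card A

/-- The situation of THEOREM LOC. -/
structure Hyp (S M P P₂ Q₂ E R Z V W U : Subgroup G) : Prop where
  two : IsPGroup 2 S
  SP : S ≤ P
  PM : P ≤ M
  SP₂ : S ≤ P₂
  sq : ∀ u ∈ U, u * u = 1
  comm : ∀ u ∈ U, ∀ v ∈ U, u * v = v * u
  MU : M ≤ normalizer (U : Set G)
  P₂U : P₂ ≤ normalizer (U : Set G)
  U_gen : ∀ K : Subgroup G, Z ≤ K → M ≤ normalizer (K : Set G) → P₂ ≤ normalizer (K : Set G) → U ≤ K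
  ZV : Z ≤ V
  MV : M ≤ normalizer (V : Set G)
  VW : V ≤ W
  WU : W ≤ U
  P₂W : P₂ ≤ normalizer (W : Set G)
  W_gen : ∀ K : Subgroup G, V ≤ K → P₂ ≤ normalizer (K : Set G) → W ≤ K
  nf : NF S V
  free : ∀ v ∈ V, v ∈ centralizer (E : Set G) → v = 1
  MQ : M ≤ normalizer ((S ⊓ centralizer (V : Set G) : Subgroup G) : Set G)
  EP : E ≤ P
  PE : P ≤ E ⊔ S
  E_odd : E ≤ closure {x | x ∈ E ∧ Odd (orderOf x)}
  E_nor : P ≤ normalizer (E : Set G)
  princ : ∀ A : Subgroup G, A ≤ S → ¬ A ≤ centralizer (V : Set G) → ∃ m ∈ M, cj m A ≤ S ∧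
    ∀ K : Subgroup G, P ≤ normalizer (K : Set G) → cj m A ≤ K → E ≤ K
  max : ∃ M₀ : Subgroup G, M₀ < P ∧ ∀ K : Subgroup G, S ≤ K → K < P → K ≤ M₀
  PZ : P₂ ≤ centralizer (Z : Set G)
  cen : ∀ u ∈ U, u ∈ centralizer (S : Set G) → u ∈ Z
  QS : Q₂ ≤ S
  PQ₂ : P₂ ≤ normalizer (Q₂ : Set G)
  idx : Q₂.relIndex S = 2
  R_le : R ≤ P₂
  PR : P₂ ≤ normalizer (R : Set G)
  RS : P₂ ≤ R ⊔ S
  R_odd : R ≤ closure {x | x ∈ R ∧ Odd (orderOf x)}
  cyc : ∃ ρ ∈ R, Odd (orderOf ρ) ∧ R ≤ zpowers ρ ⊔ Q₂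
  gen : ∀ g ∈ P₂, g ∉ normalizer (V : Set G) → P₂ ≤ S ⊔ cj g S
  nV : ¬ P₂ ≤ normalizer (V : Set G)

/-! ### General lemmas -/

theorem cj_le_of {A B : Subgroup G} (h : A ≤ normalizer (B : Set G)) {a : G} (ha : a ∈ A) {C : Subgroup G}
    (hC : C ≤ B) : cj a C ≤ B := by
  have h1 := cj_mono a hC
  rwa [cj_eq_of_mem_normalizer (h ha)] at h1

theorem cj_eq_of {A B : Subgroup G} (h : A ≤ normalizer (B : Set G)) {a : G} (ha : a ∈ A) : cj a B = B :=
  cj_eq_of_mem_normalizer (h ha)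

theorem cj_cent {g : G} {A B : Subgroup G} (h : A ≤ centralizer (B : Set G)) :
    cj g A ≤ centralizer ((cj g B : Subgroup G) : Set G) := by
  rw [← cj_centralizer]
  exact cj_mono g h

theorem cj_norm {g : G} {A B : Subgroup G} (h : A ≤ normalizer (B : Set G)) :
    cj g A ≤ normalizer ((cj g B : Subgroup G) : Set G) := by
  rw [← cj_normalizer]
  exact cj_mono g h

theorem cent_symm {A B : Subgroup G} (h : A ≤ centralizer (B : Set G)) : B ≤ centralizer (A : Set G) :=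
  Subgroup.le_centralizer_iff.1 h

theorem norm_of_forall {A B : Subgroup G} (h : ∀ a ∈ A, ∀ x ∈ B, a * x * a⁻¹ ∈ B) :
    A ≤ normalizer (B : Set G) := by
  intro a ha
  rw [mem_normalizer_iff]
  refine fun x => ⟨h a ha x, fun hx => ?_⟩
  have h1 := h a⁻¹ (inv_mem ha) _ hx
  have e : a⁻¹ * (a * x * a⁻¹) * a⁻¹⁻¹ = x := by group
  rwa [e] at h1

theorem conj_mem {A B : Subgroup G} (h : A ≤ normalizer (B : Set G)) {a x : G} (ha : a ∈ A) (hx : x ∈ B) :
    a * x * a⁻¹ ∈ B := (mem_normalizer_iff.1 (h ha) x).1 hx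

theorem conj_mem' {A B : Subgroup G} (h : A ≤ normalizer (B : Set G)) {a x : G} (ha : a ∈ A) (hx : x ∈ B) :
    a⁻¹ * x * a ∈ B := by
  have := conj_mem h (inv_mem ha) hx
  rwa [inv_inv] at this

theorem cidx_cj (g : G) (A B : Subgroup G) : cidx (cj g A) (cj g B) = cidx A B := by
  unfold cidx
  rw [← cj_centralizer]
  exact relIndex_map_map_of_injective (centralizer (B : Set G)) A (MulAut.conj g).injective

theorem EM.cj {V A : Subgroup G} (h : EM V A) (g : G) : EM (cj g V) (cj g A) where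
  sq := by
    intro a ha
    rw [← cj_centralizer, mem_cj]
    have h1 := h.sq _ (mem_cj.1 ha)
    have e : g⁻¹ * a ^ 2 * g = (g⁻¹ * a * g) ^ 2 := by rw [pow_two, pow_two]; group
    rwa [e]
  comm := by
    intro a ha b hb
    rw [← cj_centralizer, mem_cj]
    have h1 := h.comm _ (mem_cj.1 ha) _ (mem_cj.1 hb)
    have e : g⁻¹ * (a * b * a⁻¹ * b⁻¹) * g =
        g⁻¹ * a * g * (g⁻¹ * b * g) * (g⁻¹ * a * g)⁻¹ * (g⁻¹ * b * g)⁻¹ := by group
    rwa [e]

theorem EM.mono {V A : Subgroup G} (h : EM V A) {V' A' : Subgroup G} (hV : V' ≤ V) (hA : A' ≤ A) :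
    EM V' A' := by
  have h1 : centralizer (V : Set G) ≤ centralizer (V' : Set G) := Subgroup.centralizer_le hV
  exact ⟨fun a ha => h1 (h.sq a (hA ha)), fun a ha b hb => h1 (h.comm a (hA ha) b (hA hb))⟩

theorem Off.cj {U A : Subgroup G} (h : Off U A) {g : G} (hg : g ∈ normalizer (U : Set G)) :
    Off U (cj g A) := by
  have h0 : ChoiceBase.cj g U = U := cj_eq_of_mem_normalizer hg
  refine ⟨?_, ?_, ?_⟩
  · have h1 := h.toEM.cj g
    rwa [h0] at h1
  · intro h1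
    apply h.ne
    have h2 := cj_cent (g := g⁻¹) h1
    rwa [cj_inv_cj, cj_eq_of_mem_normalizer (inv_mem hg)] at h2
  · have h1 := cidx_cj g U A
    have h2 := cidx_cj g A U
    rw [h0] at h1 h2
    rw [h1, h2]
    exact h.le

theorem cidx_le_of_cent [Finite G] {A B : Subgroup G} (h : A ≤ centralizer (B : Set G)) :
    cidx A B = 1 ∧ cidx B A = 1 := ⟨cidx_eq_one_iff.2 h, cidx_eq_one_iff.2 (cent_symm h)⟩

/-- A minimal offender on `U` is a best offender: it is an offender on every subgroup of `U`. -/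
theorem Off.best [Finite G] {U B Y : Subgroup G} (hB : Off U B) (hmin : ∀ A, A < B → ¬ Off U A) (hY : Y ≤ U) :
    cidx Y B ≤ cidx B Y := by
  by_cases h0 : B ≤ centralizer (Y : Set G)
  · rw [(cidx_le_of_cent h0).1, (cidx_le_of_cent h0).2]
  set E := B ⊓ centralizer (Y : Set G) with hE
  have hEB : E < B := lt_of_le_of_ne inf_le_left fun h => h0 (inf_eq_left.1 h)
  have h1 : cidx E U ≤ cidx U E := by
    by_cases h2 : E ≤ centralizer (U : Set G)
    · rw [(cidx_le_of_cent h2).1, (cidx_le_of_cent h2).2]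
    · by_contra h3
      push Not at h3
      exact hmin E hEB ⟨hB.toEM.mono le_rfl hEB.le, h2, h3.le⟩
  have h2 : cidx B U = cidx B Y * cidx E U := step_left hY
  have h3 : cidx U E * cidx Y B ≤ cidx U B := step_right hY
  have h4 := hB.le
  have h5 : 0 < cidx U E := cidx_pos _ _
  have h6 : cidx U E * cidx Y B ≤ cidx U E * cidx B Y := by
    calc cidx U E * cidx Y B ≤ cidx B Y * cidx E U := by rw [← h2]; exact h3.trans h4
      _ ≤ cidx B Y * cidx U E := Nat.mul_le_mul_left _ h1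
      _ = _ := Nat.mul_comm _ _
  exact Nat.le_of_mul_le_mul_left h6 h5

theorem MO.not_off [Finite G] {S U B : Subgroup G} (h : MO S U B) : ∀ A, A < B → ¬ Off U A := by
  intro A hA h1
  have h2 := h.min A (hA.le.trans h.le) h1
  exact hA.ne (eq_of_le_of_card_ge hA.le h2)

theorem MO.best [Finite G] {S U B Y : Subgroup G} (h : MO S U B) (hY : Y ≤ U) : cidx Y B ≤ cidx B Y :=
  h.off.best h.not_off hY

theorem MO.cj [Finite G] {S U B : Subgroup G} (h : MO S U B) {g : G} (hg : g ∈ normalizer (U : Set G))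
    (hS : cj g B ≤ S) : MO S U (cj g B) :=
  ⟨hS, h.off.cj hg, fun A hA hO => by rw [card_cj]; exact h.min A hA hO⟩

/-- `U` a group of exponent 2 -/
theorem isPGroup_of_sq {U : Subgroup G} (h : ∀ u ∈ U, u * u = 1) : IsPGroup 2 U := fun x =>
  ⟨1, Subtype.ext (by rw [pow_one, pow_two]; exact h x x.2)⟩

/-- A quadratic action is elementary abelian. -/
theorem EM.of_act {V A H : Subgroup G} (hsq : ∀ v ∈ V, v * v = 1) (hcm : ∀ v ∈ V, ∀ w ∈ V, v * w = w * v)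
    (hH : H ≤ V) (hA : A ≤ centralizer (H : Set G)) (hact : ∀ a ∈ A, ∀ v ∈ V, a * v * a⁻¹ * v ∈ H) :
    EM V A := by
  have h1 : ∀ a ∈ A, ∀ v ∈ V, ∃ c ∈ H, a * v * a⁻¹ = c * v := by
    intro a ha v hv
    refine ⟨a * v * a⁻¹ * v, hact a ha v hv, ?_⟩
    rw [mul_assoc (a * v * a⁻¹), hsq v hv, mul_one]
  have h2 : ∀ a ∈ A, ∀ c ∈ H, a * c * a⁻¹ = c := by
    intro a ha c hc
    rw [← mem_centralizer_iff.1 (hA ha) c hc, mul_inv_cancel_right]
  have hAV : ∀ a ∈ A, ∀ v ∈ V, a * v * a⁻¹ ∈ V := by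
    intro a ha v hv
    obtain ⟨c, hc, e⟩ := h1 a ha v hv
    rw [e]
    exact mul_mem (hH hc) hv
  have hcomm : ∀ a ∈ A, ∀ b ∈ A, ∀ v ∈ V, a * b * v * (a * b)⁻¹ = b * a * v * (b * a)⁻¹ := by
    intro a ha b hb v hv
    obtain ⟨c, hc, e⟩ := h1 a ha v hv
    obtain ⟨c', hc', e'⟩ := h1 b hb v hv
    calc a * b * v * (a * b)⁻¹ = a * (b * v * b⁻¹) * a⁻¹ := by group
      _ = a * (c' * v) * a⁻¹ := by rw [e']
      _ = (a * c' * a⁻¹) * (a * v * a⁻¹) := by group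
      _ = c' * (c * v) := by rw [h2 a ha c' hc', e]
      _ = c * (c' * v) := by rw [← mul_assoc, hcm c' (hH hc') c (hH hc), mul_assoc]
      _ = (b * c * b⁻¹) * (b * v * b⁻¹) := by rw [h2 b hb c hc, e']
      _ = b * (c * v) * b⁻¹ := by group
      _ = b * (a * v * a⁻¹) * b⁻¹ := by rw [e]
      _ = _ := by group
  refine ⟨fun a ha => mem_centralizer_iff.2 fun v hv => ?_, fun a ha b hb => mem_centralizer_iff.2 fun v hv => ?_⟩
  · obtain ⟨c, hc, e⟩ := h1 a ha v hv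
    have e2 : a ^ 2 * v * (a ^ 2)⁻¹ = v := by
      calc a ^ 2 * v * (a ^ 2)⁻¹ = a * (a * v * a⁻¹) * a⁻¹ := by rw [pow_two]; group
        _ = a * (c * v) * a⁻¹ := by rw [e]
        _ = (a * c * a⁻¹) * (a * v * a⁻¹) := by group
        _ = c * (c * v) := by rw [h2 a ha c hc, e]
        _ = v := by rw [← mul_assoc, hsq c (hH hc), one_mul]
    exact (mul_inv_eq_iff_eq_mul.1 e2).symm
  · have hv' : (b * a)⁻¹ * v * (b * a) ∈ V := by
      have e : (b * a)⁻¹ * v * (b * a) = a⁻¹ * (b⁻¹ * v * b⁻¹⁻¹) * a⁻¹⁻¹ := by group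
      rw [e]
      exact hAV _ (inv_mem ha) _ (hAV _ (inv_mem hb) _ hv)
    have e2 : (a * b * a⁻¹ * b⁻¹) * v * (a * b * a⁻¹ * b⁻¹)⁻¹ = v := by
      calc (a * b * a⁻¹ * b⁻¹) * v * (a * b * a⁻¹ * b⁻¹)⁻¹
          = a * b * ((b * a)⁻¹ * v * (b * a)) * (a * b)⁻¹ := by group
        _ = b * a * ((b * a)⁻¹ * v * (b * a)) * (b * a)⁻¹ := hcomm a ha b hb _ hv'
        _ = v := by group
    exact (mul_inv_eq_iff_eq_mul.1 e2).symm

/-- The relative index in a 2-group is a power of 2. -/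
theorem exists_pow [Finite G] {A : Subgroup G} (hA : IsPGroup 2 A) (H : Subgroup G) :
    ∃ k, H.relIndex A = 2 ^ k := by
  obtain ⟨n, hn⟩ := IsPGroup.iff_card.1 hA
  have h1 : H.relIndex A ∣ 2 ^ n := hn ▸ relIndex_dvd_card H A
  obtain ⟨k, -, hk⟩ := (Nat.dvd_prime_pow Nat.prime_two).1 h1
  exact ⟨k, hk⟩

theorem two_mul_le [Finite G] {A B : Subgroup G} (hA : IsPGroup 2 A) (hB : IsPGroup 2 B) {H K : Subgroup G}
    (h : H.relIndex A < K.relIndex B) : 2 * H.relIndex A ≤ K.relIndex B := by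
  obtain ⟨i, hi⟩ := exists_pow hA H
  obtain ⟨j, hj⟩ := exists_pow hB K
  rw [hi, hj] at h ⊢
  have h1 : i < j := (Nat.pow_lt_pow_iff_right (by norm_num)).1 h
  calc 2 * 2 ^ i = 2 ^ (i + 1) := by rw [pow_succ]; ring
    _ ≤ 2 ^ j := Nat.pow_le_pow_right (by norm_num) h1

/-! ### The situation -/

namespace Hyp

variable {S M P P₂ Q₂ E R Z V W U : Subgroup G} (h : Hyp S M P P₂ Q₂ E R Z V W U)
include h

theorem SM : S ≤ M := h.SP.trans h.PM

theorem EM : E ≤ M := h.EP.trans h.PM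

theorem PU : P ≤ normalizer (U : Set G) := h.PM.trans h.MU

theorem PV : P ≤ normalizer (V : Set G) := h.PM.trans h.MV

theorem PQ : P ≤ normalizer ((S ⊓ centralizer (V : Set G) : Subgroup G) : Set G) := h.PM.trans h.MQ

theorem VU : V ≤ U := h.VW.trans h.WU

theorem SV : S ≤ normalizer (V : Set G) := h.SP.trans h.PV

theorem isPU : IsPGroup 2 U := isPGroup_of_sq h.sq

theorem isPQ₂ : IsPGroup 2 Q₂ := h.two.to_le h.QS

theorem cj_U {g : G} (hg : g ∈ P₂) : cj g U = U := cj_eq_of h.P₂U hg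

theorem line_le {g : G} (hg : g ∈ P₂) : cj g V ≤ W := cj_le_of h.P₂W hg h.VW

theorem line_le_U {g : G} (hg : g ∈ P₂) : cj g V ≤ U := (h.line_le hg).trans h.WU

/-- `Q₂` normalises every line of `P₂`. -/
theorem Q₂_norm {g : G} (hg : g ∈ P₂) : Q₂ ≤ normalizer ((cj g V : Subgroup G) : Set G) := by
  have h1 := cj_norm (g := g) (h.QS.trans h.SV)
  rwa [cj_eq_of h.PQ₂ hg] at h1

theorem mul_mem_iff {a b : G} (ha : a ∈ S) (hb : b ∈ S) : a * b ∈ Q₂ ↔ (a ∈ Q₂ ↔ b ∈ Q₂) := by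
  have h1 : (Q₂.subgroupOf S).index = 2 := h.idx
  exact Subgroup.mul_mem_iff_of_index_two h1 (a := ⟨a, ha⟩) (b := ⟨b, hb⟩)

/-- `S = ⟨s⟩ Q₂` -/
theorem S_le {s : G} (hs : s ∈ S) (hs2 : s ∉ Q₂) : S ≤ zpowers s ⊔ Q₂ := by
  intro x hx
  by_cases hx2 : x ∈ Q₂
  · exact mem_sup_right hx2
  · have h1 : s⁻¹ * x ∈ Q₂ := by
      rw [h.mul_mem_iff (inv_mem hs) hx, inv_mem_iff]
      exact ⟨fun h2 => absurd h2 hs2, fun h2 => absurd h2 hx2⟩
    have e : x = s * (s⁻¹ * x) := by group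
    rw [e]
    exact mul_mem (mem_sup_left (mem_zpowers s)) (mem_sup_right h1)

theorem S_le_sup {B : Subgroup G} (hB : B ≤ S) (hB2 : ¬ B ≤ Q₂) : S ≤ B ⊔ Q₂ := by
  obtain ⟨s, hs, hs2⟩ := SetLike.not_le_iff_exists.1 hB2
  exact (h.S_le (hB hs) hs2).trans (sup_le_sup_right ((zpowers_le).2 hs) _)

/-- An element of `S - Q₂` moves every line other than `V`. -/
theorem not_norm {s g : G} (hs : s ∈ S) (hs2 : s ∉ Q₂) (hg : g ∈ P₂) (hgV : g ∉ normalizer (V : Set G)) :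
    s ∉ normalizer ((cj g V : Subgroup G) : Set G) := by
  intro h1
  have h2 : S ≤ normalizer ((cj g V : Subgroup G) : Set G) :=
    (h.S_le hs hs2).trans (sup_le ((zpowers_le).2 h1) (h.Q₂_norm hg))
  have h3 : P₂ ≤ normalizer ((cj g V : Subgroup G) : Set G) :=
    (h.gen g hg hgV).trans (sup_le h2 (cj_norm h.SV))
  apply h.nV
  have h4 := cj_norm (g := g⁻¹) h3
  rwa [cj_inv_cj, cj_eq_of le_normalizer (inv_mem hg)] at h4

/-- a conjugate of `V` moved by `P₂` -/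
theorem exists_g : ∃ g ∈ P₂, g ∉ normalizer (V : Set G) := SetLike.not_le_iff_exists.1 h.nV

/-- A subgroup `K` normalised by `P₂` which contains an element of `S - Q₂` contains `R`. -/
theorem R_le_of {K : Subgroup G} (hK : P₂ ≤ normalizer (K : Set G)) {s : G} (hs : s ∈ S) (hsK : s ∈ K)
    (hs2 : s ∉ Q₂) : R ≤ K := by
  have h1 : S ≤ Q₂ ⊔ K := by
    rw [sup_comm]
    exact (h.S_le hs hs2).trans (sup_le_sup_right ((zpowers_le).2 hsK) _)
  have h2 : P₂ ≤ Q₂ ⊔ K := by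
    obtain ⟨g, hg, hgV⟩ := h.exists_g
    refine (h.gen g hg hgV).trans (sup_le h1 ?_)
    have h3 := cj_mono g h1
    have h4 : cj g (Q₂ ⊔ K) = Q₂ ⊔ K := by
      rw [cj, Subgroup.map_sup]
      change cj g Q₂ ⊔ cj g K = _
      rw [cj_eq_of h.PQ₂ hg, cj_eq_of hK hg]
    rwa [h4] at h3
  refine h.R_odd.trans ((closure_le _).2 ?_)
  rintro x ⟨hx, ho⟩
  exact mem_of_odd h.isPQ₂ ((h.QS.trans h.SP₂).trans hK) (h2 (h.R_le hx)) ho

/-- If `s ∈ S - Q₂` centralises `W`, contradiction. -/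
theorem mem_Q₂_of_cent {s : G} (hs : s ∈ S) (hsW : s ∈ centralizer (W : Set G)) : s ∈ Q₂ := by
  by_contra hs2
  obtain ⟨g, hg, hgV⟩ := h.exists_g
  refine h.not_norm hs hs2 hg hgV (centralizer_le_normalizer _ ?_)
  exact Subgroup.centralizer_le (h.line_le hg) hsW

theorem cent_le_Q₂ {B : Subgroup G} (hB : B ≤ S) : B ⊓ centralizer (W : Set G) ≤ Q₂ :=
  fun _ hx => h.mem_Q₂_of_cent (hB hx.1) hx.2

/-! ### `H = C_V(R)` -/

theorem P₂_norm_H : P₂ ≤ normalizer ((V ⊓ centralizer (R : Set G) : Subgroup G) : Set G) := by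
  refine h.RS.trans (sup_le ?_ ?_)
  · refine le_trans ?_ (centralizer_le_normalizer _)
    exact cent_symm inf_le_right
  · exact Sit.norm_inf_cent h.SV (h.SP₂.trans h.PR)

theorem H_le {g : G} (hg : g ∈ P₂) : V ⊓ centralizer (R : Set G) ≤ cj g V := by
  have h1 := cj_mono g (inf_le_left : V ⊓ centralizer (R : Set G) ≤ V)
  rwa [cj_eq_of h.P₂_norm_H hg] at h1

theorem cj_inf {g : G} (hg : g ∈ P₂) : cj g V ⊓ centralizer (R : Set G) = V ⊓ centralizer (R : Set G) := by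
  have h1 : cj g (V ⊓ centralizer (R : Set G)) = V ⊓ centralizer (R : Set G) := cj_eq_of h.P₂_norm_H hg
  rw [ChoiceBase.cj_inf, cj_centralizer, cj_eq_of h.PR hg] at h1
  exact h1

theorem Z_le_H : Z ≤ V ⊓ centralizer (R : Set G) :=
  le_inf h.ZV (cent_symm (h.R_le.trans h.PZ))

end Hyp

end Cfsg.Agent.Omega.NO3b.Loc.Base
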