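import Cfsg.Agent.Omega.NO3b.Loc.Mod

/-!
# THEOREM LOC, part 7: steps (b), (c) of #18263 / #18679

`A = C_S(V) ∩ C(U/V)`, `A₀ = A ∩ Q₂`, `D = B₀^{g⁻¹}`.

* `comm_R` : `[U, R] ≤ W`; `U_le_of` : `U = ⟨W^M⟩`; `cs_le` : `C_S(V) = A`;
* `comm_NW` : `[U, C_S(W)] ≤ H`; `A₀_mem` : `[U, A₀] ≤ H`;
* `D_act`, `D_act'` : `[A, D] ≤ A₀`, `[A₀, D] ≤ C(U)`;
* `E_kill`, `princ_kill` : what is centralised by `E` (by `D^m`) modulo `C(Y)` lies in `C(Y)`;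
* `cent_W` : `C_S(W) ≤ C(U)`; `A₀_card` : `|A₀ : C_A(U)| ≤ |B₀ : C_{B₀}(V^g)|`.
-/

set_option autoImplicit false

namespace Cfsg.Agent.Omega.NO3b.Loc.Cent

open Subgroup Cfsg.Agent.ZN Cfsg.Agent.ZN.ChoiceBase Cfsg.Agent.Omega.NO3b.Ineq Cfsg.Agent.Omega.NO3b.Gen
open Cfsg.Agent.Omega.NO3b.CTwo Cfsg.Agent.Omega.NO3b.Loc.Base Cfsg.Agent.Omega.NO3b.Loc.Off
open Cfsg.Agent.Omega.NO3b.Loc.NotCent Cfsg.Agent.Omega.NO3b.Loc.Line Cfsg.Agent.Omega.NO3b.Loc.Orbit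
open Cfsg.Agent.Omega.NO3b.Loc.Mod
open scoped commutatorElement

variable {G : Type*} [Group G]

/-- `C_P(X / X ∩ C)` -/
def KX (P X C : Subgroup G) (hPX : P ≤ normalizer (X : Set G)) : Subgroup G where
  carrier := {x | x ∈ P ∧ ∀ a ∈ X, a⁻¹ * (x * a * x⁻¹) ∈ C}
  one_mem' := ⟨one_mem _, fun a _ => by
    have e : a⁻¹ * (1 * a * 1⁻¹) = 1 := by group
    rw [e]; exact one_mem _⟩
  mul_mem' := by
    rintro x y ⟨hx, hx2⟩ ⟨hy, hy2⟩
    refine ⟨mul_mem hx hy, fun a ha => ?_⟩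
    have e : a⁻¹ * (x * y * a * (x * y)⁻¹) = a⁻¹ * (y * a * y⁻¹) * ((y * a * y⁻¹)⁻¹ * (x * (y * a * y⁻¹) * x⁻¹)) := by
      group
    rw [e]
    exact mul_mem (hy2 a ha) (hx2 _ (conj_mem hPX hy ha))
  inv_mem' := by
    rintro x ⟨hx, hx2⟩
    refine ⟨inv_mem hx, fun a ha => ?_⟩
    have h1 := inv_mem (hx2 _ (conj_mem' hPX hx ha))
    have e : ((x⁻¹ * a * x)⁻¹ * (x * (x⁻¹ * a * x) * x⁻¹))⁻¹ = a⁻¹ * (x⁻¹ * a * x⁻¹⁻¹) := by group
    rwa [e] at h1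

theorem norm_KX {P X C : Subgroup G} (hPX : P ≤ normalizer (X : Set G)) (hPC : P ≤ normalizer (C : Set G)) :
    P ≤ normalizer (KX P X C hPX : Set G) := by
  refine norm_of_forall fun p hp x hx => ⟨mul_mem (mul_mem hp hx.1) (inv_mem hp), fun a ha => ?_⟩
  have h1 := conj_mem hPC hp (hx.2 _ (conj_mem' hPX hp ha))
  have e : p * ((p⁻¹ * a * p)⁻¹ * (x * (p⁻¹ * a * p) * x⁻¹)) * p⁻¹ = a⁻¹ * (p * x * p⁻¹ * a * (p * x * p⁻¹)⁻¹) := by
    group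
  rwa [e] at h1

theorem norm_cent {A Y : Subgroup G} (hAY : A ≤ normalizer (Y : Set G)) :
    A ≤ normalizer ((centralizer (Y : Set G) : Subgroup G) : Set G) := by
  have h5 := Sit.norm_inf_cent (T := A) (A := ⊤) (B := Y) (fun p _ => by
    rw [mem_normalizer_iff]; intro y; simp) hAY
  rwa [top_inf_eq] at h5

section

variable {S M P P₂ Q₂ E R Z V W U : Subgroup G} (h : Hyp S M P P₂ Q₂ E R Z V W U)
include h

variable {B : Subgroup G} {g : G}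

/-- `[U, R] ≤ W` -/
theorem comm_R [Finite G] (hB : MO S U B) (hB2 : ¬ B ≤ Q₂) : ∀ r ∈ R, ∀ w ∈ U, r * w * r⁻¹ * w ∈ W := by
  obtain ⟨t, ht, ht2⟩ := SetLike.not_le_iff_exists.1 hB2
  have htA := B_le h hB hB2 ht
  have hK : P₂ ≤ normalizer (KV P₂ W U h.sq h.comm h.P₂U : Set G) := by
    refine norm_of_forall fun p hp x hx => ⟨mul_mem (mul_mem hp hx.1) (inv_mem hp), fun w hw => ?_⟩
    have h4 := hx.2 _ (conj_mem' h.P₂U hp hw)
    have h5 := conj_mem h.P₂W hp h4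
    have e : p * (x * (p⁻¹ * w * p) * x⁻¹ * (p⁻¹ * w * p)) * p⁻¹ =
        p * x * p⁻¹ * w * (p * x * p⁻¹)⁻¹ * w := by group
    rwa [e] at h5
  have h1 := h.R_le_of hK (Ag_le_S htA) ⟨h.SP₂ (Ag_le_S htA), fun w hw => h.VW (Ag_mem h htA hw)⟩ ht2
  exact fun r hr => (h1 hr).2

/-- `U = ⟨W^M⟩` -/
theorem U_le_of [Finite G] (hB : MO S U B) (hB2 : ¬ B ≤ Q₂) {K : Subgroup G} (hKU : K ≤ U) (hWK : W ≤ K)
    (hMK : M ≤ normalizer (K : Set G)) : U ≤ K := by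
  refine h.U_gen K ((h.ZV.trans h.VW).trans hWK) hMK (h.RS.trans (sup_le ?_ (h.SM.trans hMK)))
  refine norm_of_forall fun r hr k hk => ?_
  have h1 := mul_mem (hWK (comm_R h hB hB2 r hr k (hKU hk))) hk
  rwa [mul_assoc, h.sq k (hKU hk), mul_one] at h1

/-- `[V^g, C_{Q₂}(V)] ≤ H` -/
theorem comm_Q [Finite G] (hB : MO S U B) (hB2 : ¬ B ≤ Q₂) (hg : g ∈ P₂) (hgV : g ∉ normalizer (V : Set G))
    {c l : G} (hc : c ∈ Q₂) (hcV : c ∈ centralizer (V : Set G)) (hl : l ∈ cj g V) :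
    c * l * c⁻¹ * l ∈ V ⊓ centralizer (R : Set G) := by
  obtain ⟨t, ht, ht2⟩ := SetLike.not_le_iff_exists.1 hB2
  have htA := B_le h hB hB2 ht
  have htS := Ag_le_S htA
  have hQ := not_le_of h hB.le (MO_cent h hB) hB2
  have hg' : g⁻¹ ∈ P₂ := inv_mem hg
  have hgV' : g⁻¹ ∉ normalizer (V : Set G) := fun h1 => hgV (inv_mem_iff.1 h1)
  have hLU : cj g⁻¹ V ≤ U := h.line_le_U hg'
  have he : g⁻¹ * c * g ∈ Q₂ := conj_mem' h.PQ₂ hg hc
  have hv : g⁻¹ * l * g ∈ V := mem_cj.1 hl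
  have heL : g⁻¹ * c * g ∈ centralizer ((cj g⁻¹ V : Subgroup G) : Set G) := by
    rw [← cj_centralizer, mem_cj]
    have e : g⁻¹⁻¹ * (g⁻¹ * c * g) * g⁻¹ = c := by group
    rwa [e]
  set e := g⁻¹ * c * g with he'
  set v := g⁻¹ * l * g with hv'
  obtain ⟨w, hw, hwv⟩ := (exists_w h hB hB2 hg' hgV' htA ht2).2 v hv
  have hwU := hLU hw
  -- `a = t⁻¹ t^e`
  have haA : t⁻¹ * (e * t * e⁻¹) ∈ Ag S V U :=
    mul_mem (inv_mem htA) (conj_mem (M_norm_A h) (h.SM (h.QS he)) htA)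
  have haQ : t⁻¹ * (e * t * e⁻¹) ∈ Q₂ := by
    have h1 := conj_mem' h.PQ₂ (h.SP₂ htS) he
    have e1 : t⁻¹ * (e * t * e⁻¹) = (t⁻¹ * e * t) * e⁻¹ := by group
    rw [e1]
    exact mul_mem h1 (inv_mem he)
  set a := t⁻¹ * (e * t * e⁻¹) with ha
  have haw : a * w * a⁻¹ * w ∈ V ⊓ centralizer (R : Set G) := by
    have h1 : a * w * a⁻¹ * w ∈ cj g⁻¹ V := mul_mem (conj_mem (h.Q₂_norm hg') haQ hw) hw
    have h2 : a * w * a⁻¹ * w ∈ cj 1 V := by rw [cj_one]; exact Ag_mem h haA hwU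
    exact mem_H h hQ (one_mem _) hg' (by rwa [inv_one, one_mul]) h2 h1
  set y := t * w * t⁻¹ * w with hy
  have hyV : y ∈ V := Ag_mem h htA hwU
  have hew : e * w * e⁻¹ = w := by rw [← mem_centralizer_iff.1 heL w hw, mul_inv_cancel_right]
  have hex : e * (y⁻¹ * v) * e⁻¹ = y⁻¹ * v := by
    rw [← mem_centralizer_iff.1 heL _ (h.H_le hg' hwv), mul_inv_cancel_right]
  have hey : e * y * e⁻¹ = y * (a * w * a⁻¹ * w) := by
    have h1 := c_mul h htA haA hwU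
    rw [← h1]
    have e1 : t * a = e * t * e⁻¹ := by rw [ha]; group
    rw [e1]
    calc e * y * e⁻¹ = (e * t * e⁻¹) * (e * w * e⁻¹) * (e * t * e⁻¹)⁻¹ * (e * w * e⁻¹) := by rw [hy]; group
      _ = _ := by rw [hew]
  have hkey : e * v * e⁻¹ * v ∈ V ⊓ centralizer (R : Set G) := by
    have h1 : e * v * e⁻¹ * v = a * w * a⁻¹ * w := by
      have hawU := h.VU haw.1
      calc e * v * e⁻¹ * v = (e * y * e⁻¹) * (e * (y⁻¹ * v) * e⁻¹) * v := by group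
        _ = y * (a * w * a⁻¹ * w) * (y⁻¹ * v) * v := by rw [hey, hex]
        _ = (a * w * a⁻¹ * w) * y * (y⁻¹ * v) * v := by rw [h.comm y (h.VU hyV) _ hawU]
        _ = (a * w * a⁻¹ * w) * (v * v) := by group
        _ = _ := by rw [h.sq v (h.VU hv), mul_one]
    rw [h1]
    exact haw
  have h1 := conj_mem h.P₂_norm_H hg hkey
  have e1 : g * (e * v * e⁻¹ * v) * g⁻¹ = c * l * c⁻¹ * l := by rw [he', hv']; group
  rwa [e1] at h1

/-- **`C_S(V) = A`** -/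
theorem cs_le [Finite G] (hB : MO S U B) (hB2 : ¬ B ≤ Q₂) : S ⊓ centralizer (V : Set G) ≤ Ag S V U := by
  obtain ⟨g, hg, hgV⟩ := h.exists_g
  obtain ⟨t, ht, ht2⟩ := SetLike.not_le_iff_exists.1 hB2
  have htA := B_le h hB hB2 ht
  have htS := Ag_le_S htA
  let K : Subgroup G :=
    { carrier := {w | w ∈ U ∧ ∀ c ∈ S ⊓ centralizer (V : Set G), c * w * c⁻¹ * w ∈ V}
      one_mem' := ⟨one_mem _, fun c _ => by
        have e : c * 1 * c⁻¹ * 1 = 1 := by group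
        rw [e]; exact one_mem _⟩
      mul_mem' := by
        rintro u w ⟨hu, hu2⟩ ⟨hw, hw2⟩
        refine ⟨mul_mem hu hw, fun c hc => ?_⟩
        have hcw : c * w * c⁻¹ ∈ U := conj_mem (h.SM.trans h.MU) hc.1 hw
        have e : c * (u * w) * c⁻¹ * (u * w) = (c * u * c⁻¹ * u) * (c * w * c⁻¹ * w) := by
          have e1 : c * w * c⁻¹ * u = u * (c * w * c⁻¹) := h.comm _ hcw _ hu
          calc c * (u * w) * c⁻¹ * (u * w) = c * u * c⁻¹ * (c * w * c⁻¹ * u) * w := by group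
            _ = c * u * c⁻¹ * (u * (c * w * c⁻¹)) * w := by rw [e1]
            _ = _ := by group
        rw [e]
        exact mul_mem (hu2 c hc) (hw2 c hc)
      inv_mem' := by
        rintro w ⟨hw, hw2⟩
        refine ⟨inv_mem hw, fun c hc => ?_⟩
        rw [inv_U h hw]
        exact hw2 c hc }
  have hKU : K ≤ U := fun w hw => hw.1
  have hMK : M ≤ normalizer (K : Set G) := by
    refine norm_of_forall fun m hm w hw => ⟨conj_mem h.MU hm hw.1, fun c hc => ?_⟩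
    have h1 := conj_mem h.MV hm (hw.2 _ (conj_mem' h.MQ hm hc))
    have e : m * (m⁻¹ * c * m * w * (m⁻¹ * c * m)⁻¹ * w) * m⁻¹ = c * (m * w * m⁻¹) * c⁻¹ * (m * w * m⁻¹) := by
      group
    rwa [e] at h1
  have hWK : W ≤ K := by
    refine (W_le_sup h hB hB2 hg hgV).trans (sup_le (fun v hv => ⟨h.VU hv, fun c hc => ?_⟩)
      (fun l hl => ⟨h.line_le_U hg hl, fun c hc => ?_⟩))
    · rw [← mem_centralizer_iff.1 hc.2 v hv, mul_inv_cancel_right, h.sq v (h.VU hv)]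
      exact one_mem _
    · by_cases hc2 : c ∈ Q₂
      · exact (comm_Q h hB hB2 hg hgV hc2 hc.2 hl).1
      · have hc' : t⁻¹ * c ∈ Q₂ := by
          rw [h.mul_mem_iff (inv_mem htS) hc.1, inv_mem_iff]
          exact ⟨fun h9 => absurd h9 ht2, fun h9 => absurd h9 hc2⟩
        have hcV' : t⁻¹ * c ∈ centralizer (V : Set G) := mul_mem (inv_mem (Ag_le_cent htA)) hc.2
        have h1 := comm_Q h hB hB2 hg hgV hc' hcV' hl
        have hlU := h.line_le_U hg hl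
        set x := t⁻¹ * c * l * (t⁻¹ * c)⁻¹ * l with hx
        have h2 : t⁻¹ * c * l * (t⁻¹ * c)⁻¹ = x * l := by
          rw [hx, mul_assoc (t⁻¹ * c * l * (t⁻¹ * c)⁻¹), h.sq l hlU, mul_one]
        have h3 : t * x * t⁻¹ = x := by
          rw [← mem_centralizer_iff.1 (Ag_le_cent htA) x h1.1, mul_inv_cancel_right]
        have e : c * l * c⁻¹ * l = x * (t * l * t⁻¹ * l) := by
          calc c * l * c⁻¹ * l = t * (t⁻¹ * c * l * (t⁻¹ * c)⁻¹) * t⁻¹ * l := by group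
            _ = t * (x * l) * t⁻¹ * l := by rw [h2]
            _ = (t * x * t⁻¹) * (t * l * t⁻¹ * l) := by group
            _ = _ := by rw [h3]
        rw [e]
        exact mul_mem h1.1 (Ag_mem h htA hlU)
  have hUK := U_le_of h hB hB2 hKU hWK hMK
  exact fun c hc => ⟨hc.1, hc.2, fun w hw => by rw [inv_U h hw]; exact (hUK hw).2 c hc⟩

/-- `[U, C_S(W)] ≤ H` -/
theorem comm_NW [Finite G] (hB : MO S U B) (hB2 : ¬ B ≤ Q₂) {a w : G} (ha : a ∈ S)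
    (haW : a ∈ centralizer (W : Set G)) (hw : w ∈ U) : a * w * a⁻¹ * w ∈ V ⊓ centralizer (R : Set G) := by
  obtain ⟨g, hg, hgV⟩ := h.exists_g
  have hQ := not_le_of h hB.le (MO_cent h hB) hB2
  have haQ := h.mem_Q₂_of_cent ha haW
  have key : ∀ z ∈ P₂, a * w * a⁻¹ * w ∈ cj z V := by
    intro z hz
    have h1 : z⁻¹ * a * z ∈ Ag S V U := by
      refine cs_le h hB hB2 (mem_inf.2 ⟨h.QS (conj_mem' h.PQ₂ hz haQ), ?_⟩)
      exact Subgroup.centralizer_le h.VW (conj_mem' (norm_cent h.P₂W) hz haW)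
    have h2 := Ag_mem h h1 (conj_mem' h.P₂U hz hw)
    rw [mem_cj]
    have e : z⁻¹ * (a * w * a⁻¹ * w) * z = z⁻¹ * a * z * (z⁻¹ * w * z) * (z⁻¹ * a * z)⁻¹ * (z⁻¹ * w * z) := by
      group
    rwa [e]
  exact mem_H h hQ (one_mem _) hg (by rwa [inv_one, one_mul]) (key 1 (one_mem _)) (key g hg)

/-- Not FF: `|A₀ : C_{A₀}(V^g)| ≤ |B₀ : C_{B₀}(V^g)|` -/
theorem A₀_cidx [Finite G] (hB : MO S U B) (hB2 : ¬ B ≤ Q₂) (hg : g ∈ P₂) (hgV : g ∉ normalizer (V : Set G))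
    (hl : Lin U Q₂ V B g) : cidx (Ag S V U ⊓ Q₂) (cj g V) ≤ cidx (B ⊓ Q₂) (cj g V) := by
  set A₀ : Subgroup G := Ag S V U ⊓ Q₂ with hA₀
  have hA₀Q : A₀ ≤ Q₂ := inf_le_right
  have hA₀A : A₀ ≤ Ag S V U := inf_le_left
  have hLU := h.line_le_U hg
  have hBA : B ⊓ Q₂ ≤ A₀ := inf_le_inf_right _ (B_le h hB hB2)
  have hne : ¬ A₀ ≤ centralizer ((cj g V : Subgroup G) : Set G) := fun h1 => hl.ne (hBA.trans h1)
  have hHA : V ⊓ centralizer (R : Set G) ≤ centralizer (A₀ : Set G) :=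
    inf_le_left.trans (cent_symm (hA₀A.trans Ag_le_cent))
  -- not FF
  have hEM : EM (cj g V) A₀ :=
    EM.of_act (fun v hv => h.sq v (hLU hv)) (fun v hv w hw => h.comm v (hLU hv) w (hLU hw)) (h.H_le hg)
      (cent_symm hHA) fun a ha w hw => comm_Q h hB hB2 hg hgV (hA₀Q ha) (Ag_le_cent (hA₀A ha)) hw
  have h1 : cidx A₀ (cj g V) < cidx (cj g V) A₀ := by
    have h3 : cj g⁻¹ A₀ ≤ S := (cj_le_of h.PQ₂ (inv_mem hg) hA₀Q).trans h.QS
    have h4 : EM V (cj g⁻¹ A₀) := by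
      have h5 := hEM.cj g⁻¹
      rwa [cj_inv_cj] at h5
    have h5 : ¬ cj g⁻¹ A₀ ≤ centralizer (V : Set G) := by
      intro h6
      apply hne
      have h7 := cj_cent (g := g) h6
      rwa [cj_cj_inv] at h7
    have h6 := h.nf _ h3 h4 h5
    rw [← cidx_cj g, ← cidx_cj g V, cj_cj_inv] at h6
    exact h6
  have h2 := two_mul_le (h.two.to_le (hA₀Q.trans h.QS)) (h.isPU.to_le hLU) h1
  change 2 * cidx A₀ (cj g V) ≤ cidx (cj g V) A₀ at h2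
  have h3 : cidx (cj g V) A₀ ≤ 2 * cidx (B ⊓ Q₂) (cj g V) := by
    rw [← hl.two, ← relIndex_eq h hB hB2 hg hgV hl, ← relIndex_H h hg]
    exact relIndex_le_of_le_left hHA (rel_ne _ _)
  omega

/-- what centralises `V` and `V^g` centralises `W` -/
theorem cent_W_of [Finite G] (hB : MO S U B) (hB2 : ¬ B ≤ Q₂) (hg : g ∈ P₂) (hgV : g ∉ normalizer (V : Set G))
    {a : G} (haV : a ∈ centralizer (V : Set G)) (hal : a ∈ centralizer ((cj g V : Subgroup G) : Set G)) :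
    a ∈ centralizer (W : Set G) := by
  have h5 : W ≤ centralizer ({a} : Set G) := by
    refine (W_le_sup h hB hB2 hg hgV).trans (sup_le ?_ ?_)
    · intro v hv
      rw [mem_centralizer_singleton_iff]
      exact mem_centralizer_iff.1 haV v hv
    · intro v hv
      rw [mem_centralizer_singleton_iff]
      exact mem_centralizer_iff.1 hal v hv
  exact mem_centralizer_iff.2 fun w hw => mem_centralizer_singleton_iff.1 (h5 hw)

/-- **`[U, A₀] ≤ H`** -/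
theorem A₀_mem [Finite G] (hB : MO S U B) (hB2 : ¬ B ≤ Q₂) {a w : G} (ha : a ∈ Ag S V U ⊓ Q₂) (hw : w ∈ U) :
    a * w * a⁻¹ * w ∈ V ⊓ centralizer (R : Set G) := by
  obtain ⟨g, hg, hgV, hne⟩ := exists_line h hB hB2
  have hl := lin h hB hB2 hg hne
  obtain ⟨b, hb, hba⟩ := surj_of_inj (A := B ⊓ Q₂) (B := Ag S V U ⊓ Q₂)
    (H := centralizer ((cj g V : Subgroup G) : Set G)) (K := centralizer ((cj g V : Subgroup G) : Set G))
    (fun x => x) (fun x hx => inf_le_inf_right _ (B_le h hB hB2) hx) (fun _ _ _ _ h1 => h1)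
    (A₀_cidx h hB hB2 hg hgV hl) a ha
  have hbA : b ∈ Ag S V U := B_le h hB hB2 hb.1
  have hkA : b⁻¹ * a ∈ Ag S V U := mul_mem (inv_mem hbA) ha.1
  have hkW := cent_W_of h hB hB2 hg hgV (Ag_le_cent hkA) hba
  have h1 := c_mul h hbA hkA hw
  rw [mul_inv_cancel_left] at h1
  rw [h1]
  exact mul_mem (comm_mem h hB hB2 hg hgV hl hb hw) (comm_NW h hB hB2 (Ag_le_S hkA) hkW hw)

/-- `[A, D] ≤ A₀` -/
theorem D_act [Finite G] (hB : MO S U B) (hB2 : ¬ B ≤ Q₂) (hg : g ∈ P₂) (hgV : g ∉ normalizer (V : Set G))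
    (hl : Lin U Q₂ V B g) {d a : G} (hd : d ∈ cj g⁻¹ (B ⊓ Q₂)) (ha : a ∈ Ag S V U) :
    a⁻¹ * (d * a * d⁻¹) ∈ Ag S V U ⊓ Q₂ := by
  obtain ⟨hDQ, -, -, -⟩ := conj_facts h hB hB2 hg hgV hl
  have hdQ := hDQ hd
  refine mem_inf.2 ⟨mul_mem (inv_mem ha) (conj_mem (M_norm_A h) (h.SM (h.QS hdQ)) ha), ?_⟩
  have h1 := conj_mem' h.PQ₂ (h.SP₂ (Ag_le_S ha)) hdQ
  have e1 : a⁻¹ * (d * a * d⁻¹) = (a⁻¹ * d * a) * d⁻¹ := by group
  rw [e1]
  exact mul_mem h1 (inv_mem hdQ)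

/-- `[A₀, D] ≤ C(U)` -/
theorem D_act' [Finite G] (hB : MO S U B) (hB2 : ¬ B ≤ Q₂) (hg : g ∈ P₂) (hgV : g ∉ normalizer (V : Set G))
    (hl : Lin U Q₂ V B g) {d a : G} (hd : d ∈ cj g⁻¹ (B ⊓ Q₂)) (ha : a ∈ Ag S V U ⊓ Q₂) :
    a⁻¹ * (d * a * d⁻¹) ∈ centralizer (U : Set G) := by
  obtain ⟨hDQ, -, hDU, hDH⟩ := conj_facts h hB hB2 hg hgV hl
  have hdM := h.SM (h.QS (hDQ hd))
  refine c_inj fun w hw => ?_
  -- `w' = d⁻¹ w d = v w`
  have hw' := conj_mem' h.MU hdM hw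
  have h1 := A₀_mem h hB hB2 ha hw'
  have h2 : d * (a * (d⁻¹ * w * d) * a⁻¹ * (d⁻¹ * w * d)) * d⁻¹ = a * (d⁻¹ * w * d) * a⁻¹ * (d⁻¹ * w * d) := by
    rw [← hDH] at h1
    rw [mem_centralizer_iff.1 h1.2 d hd, mul_inv_cancel_right]
  have h3 : d⁻¹ * w * d * w ∈ V := by
    have h4 := (hDU d⁻¹ (inv_mem hd) w hw).1
    rwa [inv_inv] at h4
  have h5 : a * (d⁻¹ * w * d) * a⁻¹ * (d⁻¹ * w * d) = a * w * a⁻¹ * w := by
    have e : d⁻¹ * w * d = (d⁻¹ * w * d * w) * w := by rw [mul_assoc (d⁻¹ * w * d), h.sq w hw, mul_one]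
    rw [e, c_line h ha.1 h3 hw]
  rw [← h5, ← h2]
  group

/-- **`C_V(E) = 1`, for `A`** -/
theorem E_kill [Finite G] (hB : MO S U B) (hB2 : ¬ B ≤ Q₂) {X Y : Subgroup G} (hX : X ≤ Ag S V U)
    (hY : Y ≤ U) (hE : ∀ e ∈ E, ∀ a ∈ X, a⁻¹ * (e * a * e⁻¹) ∈ centralizer (Y : Set G)) :
    X ≤ centralizer (Y : Set G) := by
  obtain ⟨g, hg, hgV, hne⟩ := exists_line h hB hB2
  have hl := lin h hB hB2 hg hne
  have hEK := E_le_KV h hB hB2 hg hgV hl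
  intro a ha
  refine mem_centralizer_iff.2 fun w hw => ?_
  have hwU := hY hw
  have haA := hX ha
  have hcV := Ag_mem h haA hwU
  have h1 : a * w * a⁻¹ * w = 1 := by
    refine h.free _ hcV (mem_centralizer_iff.2 fun e he => ?_)
    have h2 := (hEK he).2 w hwU
    have h3 : e * w * e⁻¹ = (e * w * e⁻¹ * w) * w := by rw [mul_assoc (e * w * e⁻¹), h.sq w hwU, mul_one]
    have haA' : e * a * e⁻¹ ∈ Ag S V U := conj_mem (M_norm_A h) (h.EM he) haA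
    have h4 := c_congr (hE e he a ha) hw
    have h5 : e * (a * w * a⁻¹ * w) * e⁻¹ = a * w * a⁻¹ * w := by
      calc e * (a * w * a⁻¹ * w) * e⁻¹ = (e * a * e⁻¹) * (e * w * e⁻¹) * (e * a * e⁻¹)⁻¹ * (e * w * e⁻¹) := by
            group
        _ = (e * a * e⁻¹) * w * (e * a * e⁻¹)⁻¹ * w := by rw [h3, c_line h haA' h2 hwU]
        _ = _ := h4
    exact mul_inv_eq_iff_eq_mul.1 h5
  have h2 : a * w * a⁻¹ = w := by
    rw [mul_eq_one_iff_eq_inv, inv_U h hwU] at h1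
    exact h1
  exact (mul_inv_eq_iff_eq_mul.1 h2).symm

theorem princ_kill [Finite G] (hB : MO S U B) (hB2 : ¬ B ≤ Q₂) {D' : Subgroup G} (hD' : D' ≤ P)
    (hpr : ∀ K : Subgroup G, P ≤ normalizer (K : Set G) → D' ≤ K → E ≤ K) {X Y : Subgroup G}
    (hX : X ≤ Ag S V U) (hPX : P ≤ normalizer (X : Set G)) (hY : Y ≤ U) (hPY : P ≤ normalizer (Y : Set G))
    (hD : ∀ d ∈ D', ∀ a ∈ X, a⁻¹ * (d * a * d⁻¹) ∈ centralizer (Y : Set G)) :
    X ≤ centralizer (Y : Set G) := by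
  have h1 := hpr (KX P X (centralizer (Y : Set G)) hPX) (norm_KX hPX (norm_cent hPY))
    fun d hd => ⟨hD' hd, hD d hd⟩
  exact E_kill h hB hB2 hX hY fun e he => (h1 he).2

/-- **(c)** `C_S(W) ≤ C(U)` -/
theorem cent_W [Finite G] (hB : MO S U B) (hB2 : ¬ B ≤ Q₂) :
    S ⊓ centralizer (W : Set G) ≤ centralizer (U : Set G) := by
  obtain ⟨g, hg, hgV, hne⟩ := exists_line h hB hB2
  have hl := lin h hB hB2 hg hne
  obtain ⟨hDQ, hDV, -, -⟩ := conj_facts h hB hB2 hg hgV hl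
  set D : Subgroup G := cj g⁻¹ (B ⊓ Q₂) with hD
  obtain ⟨m, hm, hmS, hpr⟩ := h.princ D (hDQ.trans h.QS) hDV
  have hPKS := P_le_KS h hB hB2 hg hgV hl
  have hPW : P ≤ normalizer (W : Set G) := hPKS.trans (KS_norm_W h)
  have hNA : S ⊓ centralizer (W : Set G) ≤ Ag S V U :=
    (inf_le_inf_left _ (Subgroup.centralizer_le h.VW)).trans (cs_le h hB hB2)
  -- `[A₀^m, D^m] ≤ C(U)`
  have hact' : ∀ d ∈ cj m D, ∀ a ∈ cj m (Ag S V U ⊓ Q₂), a⁻¹ * (d * a * d⁻¹) ∈ centralizer (U : Set G) := by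
    intro d hd a ha
    have h1 := D_act' h hB hB2 hg hgV hl (mem_cj.1 hd) (mem_cj.1 ha)
    have h2 := conj_mem (norm_cent h.MU) hm h1
    have e : m * ((m⁻¹ * a * m)⁻¹ * (m⁻¹ * d * m * (m⁻¹ * a * m) * (m⁻¹ * d * m)⁻¹)) * m⁻¹ =
        a⁻¹ * (d * a * d⁻¹) := by group
    rwa [e] at h2
  by_cases hcase : S ⊓ centralizer (W : Set G) ≤ cj m (Ag S V U ⊓ Q₂)
  · refine princ_kill h hB hB2 (hmS.trans h.SP) hpr hNA ?_ le_rfl h.PU fun d hd a ha => hact' d hd a (hcase ha)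
    have h1 : (S ⊓ centralizer (W : Set G) : Subgroup G) = (S ⊓ centralizer (V : Set G)) ⊓ centralizer (W : Set G) := by
      rw [inf_assoc, inf_eq_right.2 (Subgroup.centralizer_le h.VW)]
    rw [h1]
    exact Sit.norm_inf_cent h.PQ hPW
  · exfalso
    obtain ⟨n, hn, hn2⟩ := SetLike.not_le_iff_exists.1 hcase
    have h1 : Ag S V U ≤ centralizer (W : Set G) := by
      refine princ_kill h hB hB2 (hmS.trans h.SP) hpr le_rfl (P_norm_A h) h.WU hPW fun d hd a ha => ?_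
      by_cases ha2 : a ∈ cj m (Ag S V U ⊓ Q₂)
      · exact Subgroup.centralizer_le h.WU (hact' d hd a ha2)
      · have hnA := hNA hn
        have ha1 : n⁻¹ * a ∈ cj m (Ag S V U ⊓ Q₂) := by
          rw [mem_cj] at ha2 hn2 ⊢
          have hna := conj_mem' (M_norm_A h) hm hnA
          have haa := conj_mem' (M_norm_A h) hm ha
          have e : m⁻¹ * (n⁻¹ * a) * m = (m⁻¹ * n * m)⁻¹ * (m⁻¹ * a * m) := by group
          rw [e]
          refine mem_inf.2 ⟨mul_mem (inv_mem hna) haa, ?_⟩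
          rw [h.mul_mem_iff (inv_mem (Ag_le_S hna)) (Ag_le_S haa), inv_mem_iff]
          exact ⟨fun h9 => absurd (mem_inf.2 ⟨hna, h9⟩) hn2, fun h9 => absurd (mem_inf.2 ⟨haa, h9⟩) ha2⟩
        have hdS := hmS hd
        have h2 : n⁻¹ * (d * n * d⁻¹) ∈ centralizer (W : Set G) :=
          mul_mem (inv_mem hn.2) (conj_mem (norm_cent (h.SP₂.trans h.P₂W)) hdS hn.2)
        have h3 := conj_mem' (norm_cent (h.SP₂.trans h.P₂W))
          (mul_mem (inv_mem (Ag_le_S hnA)) (Ag_le_S ha)) h2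
        have h4 := Subgroup.centralizer_le h.WU (hact' d hd _ ha1)
        have e : a⁻¹ * (d * a * d⁻¹) = (n⁻¹ * a)⁻¹ * (n⁻¹ * (d * n * d⁻¹)) * (n⁻¹ * a) *
            ((n⁻¹ * a)⁻¹ * (d * (n⁻¹ * a) * d⁻¹)) := by group
        rw [e]
        exact mul_mem h3 h4
    exact not_le_cent h hB hB2 ((inf_le_left.trans (B_le h hB hB2)).trans h1)

/-- an element of `C_S(V)` which centralises a second line centralises `U` -/
theorem cent_of_line [Finite G] (hB : MO S U B) (hB2 : ¬ B ≤ Q₂) (hg : g ∈ P₂)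
    (hgV : g ∉ normalizer (V : Set G)) {a : G} (haS : a ∈ S) (haV : a ∈ centralizer (V : Set G))
    (hal : a ∈ centralizer ((cj g V : Subgroup G) : Set G)) : a ∈ centralizer (U : Set G) :=
  cent_W h hB hB2 ⟨haS, cent_W_of h hB hB2 hg hgV haV hal⟩

/-- `|A₀ : C_A(U)| ≤ |B₀ : C_{B₀}(V^g)|` -/
theorem A₀_card [Finite G] (hB : MO S U B) (hB2 : ¬ B ≤ Q₂) (hg : g ∈ P₂)
    (hgV : g ∉ normalizer (V : Set G)) (hl : Lin U Q₂ V B g) :
    (Ag S V U ⊓ centralizer (U : Set G)).relIndex (Ag S V U ⊓ Q₂) ≤ cidx (B ⊓ Q₂) (cj g V) := by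
  refine le_trans ?_ (A₀_cidx h hB hB2 hg hgV hl)
  rw [← cidx_inf]
  refine relIndex_le_of_le_left (fun a ha => ⟨ha.1.1, ?_⟩) (rel_ne _ _)
  exact cent_of_line h hB hB2 hg hgV (Ag_le_S ha.1.1) (Ag_le_cent ha.1.1) ha.2

end

end Cfsg.Agent.Omega.NO3b.Loc.Cent
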