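import Cfsg.Agent.Omega.NO3b.Loc.NotCent

/-!
# THEOREM LOC (helper768, #15138 (C)), part 4: steps (1), (2)

`B ≰ Q₂` a minimal offender on `U`, `B₀ = B ∩ Q₂`, `H = C_V(R)`.

* `exists_line` : `[V^g, B₀] ≠ 1` for some `g ∈ P₂ - N(V)`;
* `Lin S U Q₂ V B g` : the conclusions of (1): `C_{B₀}(V^g) ≤ C(U)`, `C_U(B₀) = C_U(B)`, `U = V^g C_U(B₀)`,
  `|V^g : C_{V^g}(B₀)| = |B : C_B(U)| = 2 |B₀ : C_{B₀}(V^g)|`; `lin`;
* `comm_mem` : `[U, B₀] ≤ H`; `inf_eq` : `C_{V^g}(B₀) = H`; `relIndex_eq` : `|V : H| = |B : C_B(U)|`;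
* `KV` : `K_V = C_M(U / V)`; `E_le_KV`, `KS_norm_W` : `E ≤ K_V`, `K_V S` normalises `W`.
-/

set_option autoImplicit false

namespace Cfsg.Agent.Omega.NO3b.Loc.Line

open Subgroup Cfsg.Agent.ZN Cfsg.Agent.ZN.ChoiceBase Cfsg.Agent.Omega.NO3b.Ineq Cfsg.Agent.Omega.NO3b.Gen
open Cfsg.Agent.Omega.NO3b.CTwo Cfsg.Agent.Omega.NO3b.Loc.Base Cfsg.Agent.Omega.NO3b.Loc.Off
open Cfsg.Agent.Omega.NO3b.Loc.NotCent
open scoped commutatorElement

variable {G : Type*} [Group G]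

theorem eq_of_relIndex [Finite G] {A B C : Subgroup G} (h1 : A ≤ B) (h2 : B ≤ C)
    (h3 : A.relIndex C ≤ B.relIndex C) : B ≤ A := by
  have h4 := relIndex_mul_relIndex A B C h1 h2
  have h5 : 0 < B.relIndex C := Nat.pos_of_ne_zero (rel_ne _ _)
  have h6 : 0 < A.relIndex B := Nat.pos_of_ne_zero (rel_ne _ _)
  rw [← relIndex_eq_one]
  rw [← h4] at h3
  have h7 : A.relIndex B * B.relIndex C ≤ 1 * B.relIndex C := by rwa [one_mul]
  have h8 := Nat.le_of_mul_le_mul_right h7 h5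
  omega

/-- The conclusions of (1). -/
structure Lin (U Q₂ V B : Subgroup G) (g : G) : Prop where
  ne : ¬ B ⊓ Q₂ ≤ centralizer ((cj g V : Subgroup G) : Set G)
  cent : B ⊓ Q₂ ⊓ centralizer ((cj g V : Subgroup G) : Set G) ≤ centralizer (U : Set G)
  fix : U ⊓ centralizer ((B ⊓ Q₂ : Subgroup G) : Set G) ≤ centralizer (B : Set G)
  sup : U ≤ cj g V ⊔ (U ⊓ centralizer ((B ⊓ Q₂ : Subgroup G) : Set G))
  card : cidx (cj g V) (B ⊓ Q₂) = cidx B U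
  two : cidx B U = 2 * cidx (B ⊓ Q₂) (cj g V)
  eq : cidx U B = cidx B U

section

variable {S M P P₂ Q₂ E R Z V W U : Subgroup G} (h : Hyp S M P P₂ Q₂ E R Z V W U)
include h

/-- `W` is generated by the lines of `P₂`. -/
theorem W_le {K : Subgroup G} (hK : ∀ g ∈ P₂, cj g V ≤ K) : W ≤ K := by
  let s : Set (Subgroup G) := {A | ∃ g ∈ P₂, A = cj g V}
  have h1 : W ≤ sSup s := by
    refine h.W_gen _ (le_sSup ⟨1, one_mem _, (cj_one V).symm⟩) (norm_sSup ?_)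
    rintro a ha _ ⟨g, hg, rfl⟩
    exact ⟨a * g, mul_mem ha hg, cj_cj a g V⟩
  refine h1.trans (sSup_le ?_)
  rintro _ ⟨g, hg, rfl⟩
  exact hK g hg

theorem exists_line [Finite G] {B : Subgroup G} (hB : MO S U B) (hB2 : ¬ B ≤ Q₂) :
    ∃ g ∈ P₂, g ∉ normalizer (V : Set G) ∧ ¬ B ⊓ Q₂ ≤ centralizer ((cj g V : Subgroup G) : Set G) := by
  by_contra hcon
  push Not at hcon
  apply not_le_cent h hB hB2
  refine cent_symm (W_le h fun g hg => ?_)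
  by_cases hgV : g ∈ normalizer (V : Set G)
  · rw [cj_eq_of_mem_normalizer hgV]
    exact cent_symm (inf_le_left.trans (MO_cent h hB))
  · exact cent_symm (hcon g hg hgV)

theorem lin [Finite G] {B : Subgroup G} (hB : MO S U B) (hB2 : ¬ B ≤ Q₂) {g : G} (hg : g ∈ P₂)
    (hne : ¬ B ⊓ Q₂ ≤ centralizer ((cj g V : Subgroup G) : Set G)) : Lin U Q₂ V B g := by
  set B₀ : Subgroup G := B ⊓ Q₂ with hB₀
  have hB₀B : B₀ ≤ B := inf_le_left
  have hB₀Q : B₀ ≤ Q₂ := inf_le_right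
  have hLU : cj g V ≤ U := h.line_le_U hg
  have hpB₀ : IsPGroup 2 B₀ := h.two.to_le (hB₀Q.trans h.QS)
  -- `|B : C_B(U)| = 2 |B₀ : C_{B₀}(U)|`
  have h1 : cidx B U = 2 * cidx B₀ U := by
    have h2 : B ⊓ centralizer (U : Set G) ≤ B₀ := by
      refine le_inf inf_le_left ?_
      refine le_trans ?_ (h.cent_le_Q₂ hB.le)
      exact inf_le_inf_left _ (Subgroup.centralizer_le h.WU)
    have h3 := cidx_chain (A := B) (B := U) (E := B₀) hB₀B h2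
    have h4 : B₀.relIndex B = 2 := by
      rw [hB₀, inf_relIndex_left]; exact relIndex_two h hB.le hB2
    rwa [h4] at h3
  -- `V^g` is not FF
  have h2 : 2 * cidx B₀ (cj g V) ≤ cidx (cj g V) B₀ := by
    have h3 : cj g⁻¹ B₀ ≤ S := (cj_le_of h.PQ₂ (inv_mem hg) hB₀Q).trans h.QS
    have h4 : EM V (cj g⁻¹ B₀) := by
      have h5 := (hB.off.toEM.mono hLU hB₀B).cj g⁻¹
      rwa [cj_inv_cj] at h5
    have h5 : ¬ cj g⁻¹ B₀ ≤ centralizer (V : Set G) := by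
      intro h6
      apply hne
      have h7 := cj_cent (g := g) h6
      rwa [cj_cj_inv] at h7
    have h6 := h.nf _ h3 h4 h5
    rw [← cidx_cj g, ← cidx_cj g V, cj_cj_inv] at h6
    exact two_mul_le hpB₀ (h.isPU.to_le hLU) h6
  have h3 : cidx U (B₀ ⊓ centralizer ((cj g V : Subgroup G) : Set G)) * cidx (cj g V) B₀ ≤ cidx U B₀ :=
    step_right hLU
  have h4 : cidx B₀ U = cidx B₀ (cj g V) * cidx (B₀ ⊓ centralizer ((cj g V : Subgroup G) : Set G)) U :=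
    step_left hLU
  have h5 : cidx U B₀ ≤ cidx U B := relIndex_le_of_le_left (Subgroup.centralizer_le hB₀B) (rel_ne _ _)
  have h6 := hB.off.le
  have hE1 : B₀ ⊓ centralizer ((cj g V : Subgroup G) : Set G) ≤ centralizer (U : Set G) := by
    by_contra hc
    have h7 : B₀ ⊓ centralizer ((cj g V : Subgroup G) : Set G) < B := by
      refine lt_of_le_of_ne (inf_le_left.trans hB₀B) fun h8 => hB2 ?_
      rw [← h8]
      exact inf_le_left.trans hB₀Q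
    have h8 : cidx (B₀ ⊓ centralizer ((cj g V : Subgroup G) : Set G)) U <
        cidx U (B₀ ⊓ centralizer ((cj g V : Subgroup G) : Set G)) := by
      by_contra h9
      push Not at h9
      exact hB.not_off _ h7 ⟨hB.off.toEM.mono le_rfl h7.le, hc, h9⟩
    have h9 := two_mul_le (hpB₀.to_le inf_le_left) h.isPU h8
    change 2 * cidx (B₀ ⊓ centralizer ((cj g V : Subgroup G) : Set G)) U ≤
      cidx U (B₀ ⊓ centralizer ((cj g V : Subgroup G) : Set G)) at h9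
    have h10 := Nat.mul_le_mul h9 h2
    have h11 : 0 < cidx B U := cidx_pos _ _
    have h12 : 2 * cidx (B₀ ⊓ centralizer ((cj g V : Subgroup G) : Set G)) U * (2 * cidx B₀ (cj g V)) =
        2 * cidx B U := by rw [h1, h4]; ring
    omega
  have hE2 := cidx_le_of_cent hE1
  rw [hE2.2, one_mul] at h3
  rw [hE2.1, mul_one] at h4
  have h7 : cidx (cj g V) B₀ = cidx B U := by omega
  have h8 : cidx U B₀ = cidx U B := by omega
  have h9 : cidx U B = cidx B U := by omega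
  refine ⟨hne, hE1, ?_, ?_, h7, h1.trans (by rw [h4]), h9⟩
  · have h10 : U ⊓ centralizer (B : Set G) ≤ U ⊓ centralizer (B₀ : Set G) :=
      inf_le_inf_left _ (Subgroup.centralizer_le hB₀B)
    have h11 := eq_of_relIndex h10 inf_le_left (by
      rw [cidx_inf, cidx_inf, h8])
    exact h11.trans inf_le_right
  · have h10 : U ⊓ centralizer (B₀ : Set G) ≤ cj g V ⊔ (U ⊓ centralizer (B₀ : Set G)) := le_sup_right
    have h11 : cj g V ⊔ (U ⊓ centralizer (B₀ : Set G)) ≤ U := sup_le hLU inf_le_left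
    have h12 := relIndex_mul_relIndex _ _ _ h10 h11
    rw [cidx_inf] at h12
    have h13 : cidx (cj g V) B₀ ≤ (U ⊓ centralizer (B₀ : Set G)).relIndex
        (cj g V ⊔ (U ⊓ centralizer (B₀ : Set G))) := by
      have h14 : cidx (cj g V) B₀ = (U ⊓ centralizer (B₀ : Set G)).relIndex (cj g V) := by
        rw [cidx, ← Subgroup.inf_relIndex_right (centralizer (B₀ : Set G)) (cj g V),
          ← Subgroup.inf_relIndex_right (U ⊓ centralizer (B₀ : Set G)) (cj g V)]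
        congr 1
        ext x
        simp only [Subgroup.mem_inf]
        exact ⟨fun hx => ⟨⟨hLU hx.2, hx.1⟩, hx.2⟩, fun hx => ⟨hx.1.2, hx.2⟩⟩
      rw [h14]
      exact relIndex_le_of_le_right le_sup_left (rel_ne _ _)
    have h14 : 0 < (cj g V ⊔ (U ⊓ centralizer (B₀ : Set G)) : Subgroup G).relIndex U :=
      Nat.pos_of_ne_zero (rel_ne _ _)
    have h15 : 0 < cidx (cj g V) B₀ := cidx_pos _ _
    have h16 : cidx (cj g V) B₀ * (cj g V ⊔ (U ⊓ centralizer (B₀ : Set G)) : Subgroup G).relIndex U ≤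
        cidx (cj g V) B₀ * 1 := by
      rw [mul_one]
      calc _ ≤ _ := Nat.mul_le_mul_right _ h13
        _ = cidx U B₀ := h12
        _ ≤ cidx (cj g V) B₀ := (h8.trans (h9.trans h7.symm)).le
    have h17 := Nat.le_of_mul_le_mul_left h16 h15
    have h18 : (cj g V ⊔ (U ⊓ centralizer (B₀ : Set G)) : Subgroup G).relIndex U = 1 := le_antisymm h17 h14
    exact relIndex_eq_one.1 h18

variable {B : Subgroup G} {g : G}

/-- `[U, B₀] ≤ V^g` -/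
theorem comm_line (hg : g ∈ P₂) (hl : Lin U Q₂ V B g) {β : G} (hβ : β ∈ B ⊓ Q₂) {w : G} (hw : w ∈ U) :
    β * w * β⁻¹ * w ∈ cj g V := by
  have hLU : cj g V ≤ U := h.line_le_U hg
  have hn : cj g V ≤ normalizer ((U ⊓ centralizer ((B ⊓ Q₂ : Subgroup G) : Set G) : Subgroup G) : Set G) := by
    refine norm_of_forall fun a ha x hx => ?_
    rw [h.comm a (hLU ha) x hx.1, mul_inv_cancel_right]
    exact hx
  obtain ⟨v, hv, c, hc, rfl⟩ := mem_sup_of_le_norm hn (hl.sup hw)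
  have h1 : β * v * β⁻¹ ∈ cj g V := conj_mem ((inf_le_right : B ⊓ Q₂ ≤ Q₂).trans (h.Q₂_norm hg)) hβ hv
  have h2 : β * c * β⁻¹ = c := by
    rw [mem_centralizer_iff.1 hc.2 β hβ, mul_inv_cancel_right]
  have h3 : c * v = v * c := h.comm c hc.1 v (hLU hv)
  have h4 : c * c = 1 := h.sq c hc.1
  have e : β * (v * c) * β⁻¹ * (v * c) = β * v * β⁻¹ * v := by
    calc β * (v * c) * β⁻¹ * (v * c) = (β * v * β⁻¹) * (β * c * β⁻¹) * (v * c) := by group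
      _ = (β * v * β⁻¹) * (c * v) * c := by rw [h2]; group
      _ = (β * v * β⁻¹) * v * (c * c) := by rw [h3]; group
      _ = _ := by rw [h4, mul_one]
  rw [e]
  exact mul_mem h1 hv

/-- `[U, B₀] ≤ H` -/
theorem comm_mem [Finite G] (hB : MO S U B) (hB2 : ¬ B ≤ Q₂) (hg : g ∈ P₂) (hgV : g ∉ normalizer (V : Set G))
    (hl : Lin U Q₂ V B g) {β : G} (hβ : β ∈ B ⊓ Q₂) {w : G} (hw : w ∈ U) :
    β * w * β⁻¹ * w ∈ V ⊓ centralizer (R : Set G) := by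
  obtain ⟨t, ht, ht2⟩ := SetLike.not_le_iff_exists.1 hB2
  have htS := hB.le ht
  have htP := h.SP₂ htS
  have hQ := not_le_of h hB.le (MO_cent h hB) hB2
  have h1 := comm_line h hg hl hβ hw
  have hw' : t⁻¹ * w * t ∈ U := conj_mem' h.P₂U htP hw
  have h2 := comm_line h hg hl hβ hw'
  -- `κ = t⁻¹ β t β⁻¹` centralises `U`
  have h3 := hB.off.comm t⁻¹ (inv_mem ht) β hβ.1
  rw [inv_inv] at h3
  have hβU : β * (t⁻¹ * w * t) * β⁻¹ ∈ U := conj_mem ((inf_le_right : B ⊓ Q₂ ≤ Q₂).trans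
    ((h.QS.trans h.SP₂).trans h.P₂U)) hβ hw'
  have h4 := mem_centralizer_iff.1 h3 _ hβU
  have h5 : t⁻¹ * (β * w * β⁻¹ * w) * t = β * (t⁻¹ * w * t) * β⁻¹ * (t⁻¹ * w * t) := by
    calc t⁻¹ * (β * w * β⁻¹ * w) * t
        = (t⁻¹ * β * t * β⁻¹) * (β * (t⁻¹ * w * t) * β⁻¹) * (t⁻¹ * β * t * β⁻¹)⁻¹ * (t⁻¹ * w * t) := by group
      _ = (β * (t⁻¹ * w * t) * β⁻¹) * (t⁻¹ * β * t * β⁻¹) * (t⁻¹ * β * t * β⁻¹)⁻¹ * (t⁻¹ * w * t) := by
          rw [← h4]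
      _ = _ := by group
  have h6 : β * w * β⁻¹ * w ∈ cj (t * g) V := by
    rw [← cj_cj, mem_cj, h5]
    exact h2
  have h7 : g⁻¹ * (t * g) ∉ normalizer (V : Set G) := by
    intro h8
    apply h.not_norm htS ht2 hg hgV
    rw [← cj_normalizer, mem_cj]
    have e : g⁻¹ * t * g = g⁻¹ * (t * g) := by group
    rwa [e]
  exact mem_H h hQ hg (mul_mem htP hg) h7 h1 h6

/-- `C_{V^g}(B₀) = H` -/
theorem inf_eq [Finite G] (hB : MO S U B) (hB2 : ¬ B ≤ Q₂) (hg : g ∈ P₂) (hgV : g ∉ normalizer (V : Set G))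
    (hl : Lin U Q₂ V B g) : cj g V ⊓ centralizer ((B ⊓ Q₂ : Subgroup G) : Set G) =
      V ⊓ centralizer (R : Set G) := by
  have hBV := MO_cent h hB
  apply le_antisymm
  · rintro x ⟨hx1, hx2⟩
    exact mem_H_of_cent h hB.le hBV hB2 hg hgV hx1 (hl.fix ⟨h.line_le_U hg hx1, hx2⟩)
  · refine le_inf (h.H_le hg) (inf_le_left.trans (cent_symm (inf_le_left.trans hBV)))

theorem relIndex_eq [Finite G] (hB : MO S U B) (hB2 : ¬ B ≤ Q₂) (hg : g ∈ P₂)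
    (hgV : g ∉ normalizer (V : Set G)) (hl : Lin U Q₂ V B g) :
    (V ⊓ centralizer (R : Set G)).relIndex V = cidx B U := by
  rw [← relIndex_H h hg, ← inf_eq h hB hB2 hg hgV hl, cidx_inf, hl.card]

/-- `D = B₀^{g⁻¹} ≤ Q₂`, `[U, D] ≤ H`, `C_V(D) = H`. -/
theorem conj_facts [Finite G] (hB : MO S U B) (hB2 : ¬ B ≤ Q₂) (hg : g ∈ P₂)
    (hgV : g ∉ normalizer (V : Set G)) (hl : Lin U Q₂ V B g) :
    cj g⁻¹ (B ⊓ Q₂) ≤ Q₂ ∧ ¬ cj g⁻¹ (B ⊓ Q₂) ≤ centralizer (V : Set G) ∧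
    (∀ d ∈ cj g⁻¹ (B ⊓ Q₂), ∀ w ∈ U, d * w * d⁻¹ * w ∈ V ⊓ centralizer (R : Set G)) ∧
    V ⊓ centralizer ((cj g⁻¹ (B ⊓ Q₂) : Subgroup G) : Set G) = V ⊓ centralizer (R : Set G) := by
  refine ⟨cj_le_of h.PQ₂ (inv_mem hg) inf_le_right, ?_, ?_, ?_⟩
  · intro h1
    apply hl.ne
    have h2 := cj_cent (g := g) h1
    rwa [cj_cj_inv] at h2
  · intro d hd w hw
    have hd' := mem_cj.1 hd
    rw [inv_inv] at hd'
    have h1 := comm_mem h hB hB2 hg hgV hl hd' (conj_mem h.P₂U hg hw)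
    have h2 := conj_mem' h.P₂_norm_H hg h1
    have e : g⁻¹ * (g * d * g⁻¹ * (g * w * g⁻¹) * (g * d * g⁻¹)⁻¹ * (g * w * g⁻¹)) * g =
        d * w * d⁻¹ * w := by group
    rwa [e] at h2
  · have h1 := inf_eq h hB hB2 hg hgV hl
    have h2 := congrArg (cj g⁻¹) h1
    rw [ChoiceBase.cj_inf, cj_inv_cj, cj_centralizer, cj_eq_of h.P₂_norm_H (inv_mem hg)] at h2
    exact h2

end

/-! ### `K_V = C_M(U / V)` -/

/-- `C_M(U / V)`, for `U` of exponent 2 -/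
def KV (M V U : Subgroup G) (hsq : ∀ u ∈ U, u * u = 1) (hcm : ∀ u ∈ U, ∀ v ∈ U, u * v = v * u)
    (hMU : M ≤ normalizer (U : Set G)) : Subgroup G where
  carrier := {x | x ∈ M ∧ ∀ w ∈ U, x * w * x⁻¹ * w ∈ V}
  one_mem' := ⟨one_mem _, fun w hw => by
    have e : (1 : G) * w * 1⁻¹ * w = w * w := by group
    rw [e, hsq w hw]; exact one_mem _⟩
  mul_mem' := by
    rintro x y ⟨hx, hx2⟩ ⟨hy, hy2⟩
    refine ⟨mul_mem hx hy, fun w hw => ?_⟩
    have hyw : y * w * y⁻¹ ∈ U := conj_mem hMU hy hw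
    have e : x * y * w * (x * y)⁻¹ * w = (x * (y * w * y⁻¹) * x⁻¹ * (y * w * y⁻¹)) *
        (y * w * y⁻¹ * w) := by
      have e1 : y * w * y⁻¹ * (y * w * y⁻¹) = 1 := hsq _ hyw
      calc x * y * w * (x * y)⁻¹ * w = x * (y * w * y⁻¹) * x⁻¹ * w := by group
        _ = x * (y * w * y⁻¹) * x⁻¹ * (y * w * y⁻¹ * (y * w * y⁻¹)) * w := by rw [e1, mul_one]
        _ = _ := by group
    rw [e]
    exact mul_mem (hx2 _ hyw) (hy2 w hw)
  inv_mem' := by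
    rintro x ⟨hx, hx2⟩
    refine ⟨inv_mem hx, fun w hw => ?_⟩
    have hxw : x⁻¹ * w * x ∈ U := conj_mem' hMU hx hw
    have h4 := hx2 _ hxw
    have e : x⁻¹ * w * x⁻¹⁻¹ * w = (x * (x⁻¹ * w * x) * x⁻¹ * (x⁻¹ * w * x)) := by
      have e1 : x * (x⁻¹ * w * x) * x⁻¹ = w := by group
      rw [e1, inv_inv, hcm _ hxw w hw]
    change x⁻¹ * w * x⁻¹⁻¹ * w ∈ V
    rw [e]
    exact h4

section

variable {S M P P₂ Q₂ E R Z V W U : Subgroup G} (h : Hyp S M P P₂ Q₂ E R Z V W U)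
include h

theorem mem_KV {x : G} : x ∈ KV M V U h.sq h.comm h.MU ↔ x ∈ M ∧ ∀ w ∈ U, x * w * x⁻¹ * w ∈ V := Iff.rfl

theorem KV_le : KV M V U h.sq h.comm h.MU ≤ M := fun _ hx => hx.1

theorem M_norm_KV : M ≤ normalizer (KV M V U h.sq h.comm h.MU : Set G) := by
  refine norm_of_forall fun p hp x hx => ⟨mul_mem (mul_mem hp hx.1) (inv_mem hp), fun w hw => ?_⟩
  have h4 := hx.2 _ (conj_mem' h.MU hp hw)
  have h5 := conj_mem h.MV hp h4
  have e : p * (x * (p⁻¹ * w * p) * x⁻¹ * (p⁻¹ * w * p)) * p⁻¹ =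
      p * x * p⁻¹ * w * (p * x * p⁻¹)⁻¹ * w := by group
  rwa [e] at h5

/-- `K_V` normalises everything between `V` and `U`. -/
theorem KV_norm {Y : Subgroup G} (hVY : V ≤ Y) (hYU : Y ≤ U) :
    KV M V U h.sq h.comm h.MU ≤ normalizer (Y : Set G) := by
  refine norm_of_forall fun x hx w hw => ?_
  have h5 := mul_mem (hVY (hx.2 w (hYU hw))) hw
  rwa [mul_assoc, h.sq w (hYU hw), mul_one] at h5

variable {B : Subgroup G} {g : G}

theorem D_le_KV [Finite G] (hB : MO S U B) (hB2 : ¬ B ≤ Q₂) (hg : g ∈ P₂) (hgV : g ∉ normalizer (V : Set G))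
    (hl : Lin U Q₂ V B g) : cj g⁻¹ (B ⊓ Q₂) ≤ KV M V U h.sq h.comm h.MU := by
  obtain ⟨h1, h2, h3, -⟩ := conj_facts h hB hB2 hg hgV hl
  exact fun d hd => ⟨h.SM (h.QS (h1 hd)), fun w hw => (h3 d hd w hw).1⟩

theorem E_le_KV [Finite G] (hB : MO S U B) (hB2 : ¬ B ≤ Q₂) (hg : g ∈ P₂) (hgV : g ∉ normalizer (V : Set G))
    (hl : Lin U Q₂ V B g) : E ≤ KV M V U h.sq h.comm h.MU := by
  obtain ⟨h1, h2, h3, -⟩ := conj_facts h hB hB2 hg hgV hl
  obtain ⟨m, hm, -, hE⟩ := h.princ _ (h1.trans h.QS) h2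
  exact hE _ (h.PM.trans (M_norm_KV h)) (cj_le_of (M_norm_KV h) hm (D_le_KV h hB hB2 hg hgV hl))

/-- `K_V S` normalises `W`. -/
theorem KS_norm_W : KV M V U h.sq h.comm h.MU ⊔ S ≤ normalizer (W : Set G) :=
  sup_le (KV_norm h h.VW h.WU) (h.SP₂.trans h.P₂W)

theorem KS_le : KV M V U h.sq h.comm h.MU ⊔ S ≤ M := sup_le (KV_le h) h.SM

theorem P_le_KS [Finite G] (hB : MO S U B) (hB2 : ¬ B ≤ Q₂) (hg : g ∈ P₂) (hgV : g ∉ normalizer (V : Set G))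
    (hl : Lin U Q₂ V B g) : P ≤ KV M V U h.sq h.comm h.MU ⊔ S :=
  h.PE.trans (sup_le_sup_right (E_le_KV h hB hB2 hg hgV hl) _)

end

end Cfsg.Agent.Omega.NO3b.Loc.Line
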