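import Cfsg.Agent.Omega.NO3b.Loc.Base
import Cfsg.Agent.PLocal.OffenderStep

/-!
# THEOREM LOC (helper768, #15138 (C)), part 5: the transvection lemma

`P` acts on `A / N`, `λ : A / N → F₂` the form with kernel `A₀ / N`; for every `a ∈ A₀` some `d ∈ D ≤ S` acts on
`A / N` as the transvection `m ↦ m + λ(m) a`. `S` lies in a unique maximal subgroup of `P`, `P` moves `A₀`; the
elements of `D` which fix all forms `λ^x`, `x ∈ P`, are trivial on `A / N`. Then `|A₀ / N| = 2` and `λ^P` consists of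
three forms.

* `lm A₀ x m` : the value `λ^x(m) ∈ F₂`;
* `Tv S P A A₀ N D` : the hypotheses;
* `Tv.main` : a form `μ = λ^x` such that every `λ^y` is `λ`, `μ` or `λ + μ`, and `λ(m) = μ(m) = 0` implies `m ∈ N`.
-/

set_option autoImplicit false

namespace Cfsg.Agent.Omega.NO3b.Loc.Tv

open Subgroup Cfsg.Agent.Omega.NO3b.Loc.Base

variable {G : Type*} [Group G]

open Classical in
/-- The form `λ^x`. -/
noncomputable def lm (A₀ : Subgroup G) (x m : G) : ZMod 2 := if x⁻¹ * m * x ∈ A₀ then 0 else 1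

theorem lm_eq_zero {A₀ : Subgroup G} {x m : G} : lm A₀ x m = 0 ↔ x⁻¹ * m * x ∈ A₀ := by
  unfold lm
  split_ifs with h
  · exact ⟨fun _ => h, fun _ => rfl⟩
  · exact ⟨fun h1 => absurd h1 (by decide), fun h1 => absurd h1 h⟩

theorem z2 (c : ZMod 2) : c = 0 ∨ c = 1 := by
  revert c
  decide

theorem eq_of_zero_iff {c d : ZMod 2} (h : c = 0 ↔ d = 0) : c = d := by
  rcases z2 c with h1 | h1 <;> rcases z2 d with h2 | h2 <;> rw [h1, h2] <;> rw [h1, h2] at h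
  · exact absurd (h.1 rfl) (by decide)
  · exact absurd (h.2 rfl) (by decide)

/-- linear algebra over `F₂`, two forms -/
theorem two_forms {C : G → Prop} (hC : ∀ a b, C a → C b → C (a * b)) {f g : G → ZMod 2}
    (hf : ∀ a b, C a → C b → f (a * b) = f a + f b) (hg : ∀ a b, C a → C b → g (a * b) = g a + g b)
    (h0 : ∃ a, C a ∧ g a ≠ 0) (h1 : ∃ a, C a ∧ g a ≠ f a) : ∃ a, C a ∧ f a = 0 ∧ g a = 1 := by
  obtain ⟨a, ha, ha0⟩ := h0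
  obtain ⟨b, hb, hb1⟩ := h1
  have hga : g a = 1 := (z2 (g a)).resolve_left ha0
  rcases z2 (f a) with hfa | hfa
  · exact ⟨a, ha, hfa, hga⟩
  rcases z2 (f b) with hfb | hfb
  · exact ⟨b, hb, hfb, (z2 (g b)).resolve_left fun h => hb1 (by rw [h, hfb])⟩
  · refine ⟨a * b, hC a b ha hb, ?_, ?_⟩
    · rw [hf a b ha hb, hfa, hfb]; decide
    · have hgb : g b = 0 := (z2 (g b)).resolve_right fun h => hb1 (by rw [h, hfb])
      rw [hg a b ha hb, hga, hgb, add_zero]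

/-- linear algebra over `F₂`, three forms -/
theorem three_forms {C : G → Prop} (hC : ∀ a b, C a → C b → C (a * b)) {f₁ f₂ f₃ : G → ZMod 2}
    (h1 : ∀ a b, C a → C b → f₁ (a * b) = f₁ a + f₁ b) (h2 : ∀ a b, C a → C b → f₂ (a * b) = f₂ a + f₂ b)
    (h3 : ∀ a b, C a → C b → f₃ (a * b) = f₃ a + f₃ b) (e0 : ∃ a, C a ∧ f₃ a ≠ 0)
    (e1 : ∃ a, C a ∧ f₃ a ≠ f₁ a) (e2 : ∃ a, C a ∧ f₃ a ≠ f₂ a) (e3 : ∃ a, C a ∧ f₃ a ≠ f₁ a + f₂ a) :
    ∃ a, C a ∧ f₁ a = 0 ∧ f₂ a = 0 ∧ f₃ a = 1 := by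
  let C' : G → Prop := fun a => C a ∧ f₁ a = 0
  have hC' : ∀ a b, C' a → C' b → C' (a * b) := fun a b ha hb =>
    ⟨hC a b ha.1 hb.1, by rw [h1 a b ha.1 hb.1, ha.2, hb.2, add_zero]⟩
  have hd : ∀ c d : ZMod 2, c ≠ d → d + c ≠ 0 := by decide
  have hd2 : ∀ c d e : ZMod 2, c ≠ d + e → e + c ≠ d := by decide
  have hd3 : ∀ c d : ZMod 2, c + d = 1 → d ≠ c := by decide
  obtain ⟨a, ha, ha1, ha3⟩ := two_forms hC h1 h3 e0 e1
  obtain ⟨b, hb, hb1, hb3⟩ := two_forms (g := fun x => f₂ x + f₃ x) hC h1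
    (fun x y hx hy => by rw [h2 x y hx hy, h3 x y hx hy]; ring)
    (by obtain ⟨x, hx, hx2⟩ := e2; exact ⟨x, hx, hd _ _ hx2⟩)
    (by obtain ⟨x, hx, hx3⟩ := e3; exact ⟨x, hx, hd2 _ _ _ hx3⟩)
  obtain ⟨c, hc, hc2, hc3⟩ := two_forms (C := C') hC' (fun x y hx hy => h2 x y hx.1 hy.1)
    (fun x y hx hy => h3 x y hx.1 hy.1) ⟨a, ⟨ha, ha1⟩, by rw [ha3]; decide⟩ ⟨b, ⟨hb, hb1⟩, hd3 _ _ hb3⟩
  exact ⟨c, hc.1, hc.2, hc2, hc3⟩

/-- The hypotheses of the transvection lemma. -/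
structure Tv (S P A A₀ N D : Subgroup G) : Prop where
  two : IsPGroup 2 S
  SP : S ≤ P
  AS : A ≤ S
  A₀A : A₀ ≤ A
  NA₀ : N ≤ A₀
  PA : P ≤ normalizer (A : Set G)
  PN : P ≤ normalizer (N : Set G)
  SA₀ : S ≤ normalizer (A₀ : Set G)
  DS : D ≤ S
  mul : ∀ a ∈ A, ∀ b ∈ A, (a * b ∈ A₀ ↔ (a ∈ A₀ ↔ b ∈ A₀))
  ne : ∃ a ∈ A, a ∉ A₀
  ne' : ∃ a ∈ A₀, a ∉ N
  tv : ∀ a ∈ A₀, ∃ d ∈ D, ∀ m ∈ A, (m ∈ A₀ → m⁻¹ * (d * m * d⁻¹) ∈ N) ∧
    (m ∉ A₀ → (m * a)⁻¹ * (d * m * d⁻¹) ∈ N)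
  ker : ∀ d ∈ D, (∀ x ∈ P, ∀ m ∈ A, lm A₀ x (d * m * d⁻¹) = lm A₀ x m) →
    ∀ m ∈ A, m⁻¹ * (d * m * d⁻¹) ∈ N
  max : ∃ M : Subgroup G, M < P ∧ ∀ K : Subgroup G, S ≤ K → K < P → K ≤ M
  mv : ¬ P ≤ normalizer (A₀ : Set G)

namespace Tv

variable {S P A A₀ N D : Subgroup G} (h : Tv S P A A₀ N D)
include h

theorem conjA {x m : G} (hx : x ∈ P) (hm : m ∈ A) : x⁻¹ * m * x ∈ A := Base.conj_mem' h.PA hx hm

theorem conjA' {x m : G} (hx : x ∈ P) (hm : m ∈ A) : x * m * x⁻¹ ∈ A := Base.conj_mem h.PA hx hm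

theorem lm_mul {x : G} (hx : x ∈ P) {a b : G} (ha : a ∈ A) (hb : b ∈ A) :
    lm A₀ x (a * b) = lm A₀ x a + lm A₀ x b := by
  have h1 := h.mul _ (h.conjA hx ha) _ (h.conjA hx hb)
  have e : x⁻¹ * a * x * (x⁻¹ * b * x) = x⁻¹ * (a * b) * x := by group
  rw [e, ← lm_eq_zero, ← lm_eq_zero, ← lm_eq_zero] at h1
  rcases z2 (lm A₀ x a) with h2 | h2 <;> rcases z2 (lm A₀ x b) with h3 | h3 <;> rw [h2, h3] at h1 ⊢
  · rw [add_zero]; exact h1.2 (by simp)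
  · rw [zero_add]
    exact (z2 _).resolve_left fun h4 => absurd ((h1.1 h4).1 rfl) (by decide)
  · rw [add_zero]
    exact (z2 _).resolve_left fun h4 => absurd ((h1.1 h4).2 rfl) (by decide)
  · have : (1 : ZMod 2) + 1 = 0 := by decide
    rw [this]
    exact h1.2 (by simp)

theorem lm_N {x : G} (hx : x ∈ P) {n : G} (hn : n ∈ N) : lm A₀ x n = 0 :=
  lm_eq_zero.2 (h.NA₀ (Base.conj_mem' h.PN hx hn))

/-- congruent elements have the same value -/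
theorem lm_congr {x : G} (hx : x ∈ P) {a b : G} (ha : a ∈ A) (hb : b ∈ A) (hab : a⁻¹ * b ∈ N) :
    lm A₀ x b = lm A₀ x a := by
  have h1 := h.lm_mul hx ha (mul_mem (inv_mem ha) hb)
  rw [mul_inv_cancel_left, h.lm_N hx hab, add_zero] at h1
  exact h1

omit h in
theorem lm_conj (x e m : G) : lm A₀ (e⁻¹ * x) m = lm A₀ x (e * m * e⁻¹) := by
  unfold lm
  have e1 : (e⁻¹ * x)⁻¹ * m * (e⁻¹ * x) = x⁻¹ * (e * m * e⁻¹) * x := by group
  rw [e1]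

omit h in
theorem lm_one (m : G) : lm A₀ 1 m = 0 ↔ m ∈ A₀ := by
  rw [lm_eq_zero, inv_one, one_mul, mul_one]

theorem lm_S {s : G} (hs : s ∈ S) (m : G) : lm A₀ 1 (s * m * s⁻¹) = lm A₀ 1 m := by
  apply eq_of_zero_iff
  rw [lm_one, lm_one]
  exact ((mem_normalizer_iff.1 (h.SA₀ hs)) m).symm

/-- every form takes the value 1 -/
theorem exists_one {x : G} (hx : x ∈ P) : ∃ m ∈ A, lm A₀ x m = 1 := by
  obtain ⟨a, ha, ha0⟩ := h.ne
  refine ⟨x * a * x⁻¹, h.conjA' hx ha, (z2 _).resolve_left fun h1 => ha0 ?_⟩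
  rw [lm_eq_zero] at h1
  have e : x⁻¹ * (x * a * x⁻¹) * x = a := by group
  rwa [e] at h1

/-- If `λ^x = λ^y` on `A` then `x⁻¹ y` normalises `A₀`. -/
theorem mem_norm {x y : G} (hx : x ∈ P) (hy : y ∈ P) (hxy : ∀ m ∈ A, lm A₀ x m = lm A₀ y m) :
    x⁻¹ * y ∈ normalizer (A₀ : Set G) := by
  rw [mem_normalizer_iff]
  intro a
  constructor
  · intro ha
    have h1 : lm A₀ x (y * a * y⁻¹) = 0 := by
      rw [hxy _ (h.conjA' hy (h.A₀A ha)), lm_eq_zero]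
      have e : y⁻¹ * (y * a * y⁻¹) * y = a := by group
      rwa [e]
    rw [lm_eq_zero] at h1
    have e : x⁻¹ * (y * a * y⁻¹) * x = x⁻¹ * y * a * (x⁻¹ * y)⁻¹ := by group
    rwa [e] at h1
  · intro ha
    have ha' : a ∈ A := by
      have h1 := h.conjA (mul_mem (inv_mem hx) hy) (h.A₀A ha)
      have e : (x⁻¹ * y)⁻¹ * (x⁻¹ * y * a * (x⁻¹ * y)⁻¹) * (x⁻¹ * y) = a := by group
      rwa [e] at h1
    have h1 : lm A₀ x (y * a * y⁻¹) = 0 := by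
      rw [lm_eq_zero]
      have e : x⁻¹ * (y * a * y⁻¹) * x = x⁻¹ * y * a * (x⁻¹ * y)⁻¹ := by group
      rwa [e]
    rw [hxy _ (h.conjA' hy ha'), lm_eq_zero] at h1
    have e : y⁻¹ * (y * a * y⁻¹) * y = a := by group
    rwa [e] at h1

/-- transvections for the form `λ^x` -/
theorem tvx {x : G} (hx : x ∈ P) {a : G} (ha : a ∈ A) (hxa : lm A₀ x a = 0) : ∃ e ∈ P, ∀ m ∈ A,
    (lm A₀ x m = 0 → m⁻¹ * (e * m * e⁻¹) ∈ N) ∧ (lm A₀ x m = 1 → (m * a)⁻¹ * (e * m * e⁻¹) ∈ N) := by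
  obtain ⟨d, hd, htv⟩ := h.tv _ (lm_eq_zero.1 hxa)
  refine ⟨x * d * x⁻¹, mul_mem (mul_mem hx (h.SP (h.DS hd))) (inv_mem hx), fun m hm => ?_⟩
  obtain ⟨h1, h2⟩ := htv _ (h.conjA hx hm)
  constructor
  · intro h3
    have h4 := Base.conj_mem h.PN hx (h1 (lm_eq_zero.1 h3))
    have e : x * ((x⁻¹ * m * x)⁻¹ * (d * (x⁻¹ * m * x) * d⁻¹)) * x⁻¹ =
        m⁻¹ * (x * d * x⁻¹ * m * (x * d * x⁻¹)⁻¹) := by group
    rwa [e] at h4
  · intro h3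
    have h5 : x⁻¹ * m * x ∉ A₀ := by
      rw [← lm_eq_zero, h3]; decide
    have h4 := Base.conj_mem h.PN hx (h2 h5)
    have e : x * ((x⁻¹ * m * x * (x⁻¹ * a * x))⁻¹ * (d * (x⁻¹ * m * x) * d⁻¹)) * x⁻¹ =
        (m * a)⁻¹ * (x * d * x⁻¹ * m * (x * d * x⁻¹)⁻¹) := by group
    rwa [e] at h4

/-- the effect of a transvection on the forms: `λ^y ↦ λ^y + λ^y(a) λ^x` -/
theorem tv_lm {x y e a : G} (hy : y ∈ P) (he : e ∈ P) (ha : a ∈ A)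
    (htv : ∀ m ∈ A, (lm A₀ x m = 0 → m⁻¹ * (e * m * e⁻¹) ∈ N) ∧
      (lm A₀ x m = 1 → (m * a)⁻¹ * (e * m * e⁻¹) ∈ N)) {m : G} (hm : m ∈ A) :
    lm A₀ y (e * m * e⁻¹) = lm A₀ y m + lm A₀ x m * lm A₀ y a := by
  have hem := h.conjA' he hm
  rcases z2 (lm A₀ x m) with h1 | h1
  · rw [h.lm_congr hy hm hem ((htv m hm).1 h1), h1, zero_mul, add_zero]
  · rw [h.lm_congr hy (mul_mem hm ha) hem ((htv m hm).2 h1), h.lm_mul hy hm ha, h1, one_mul]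

/-- the sum of two different forms is a form -/
theorem add {x y : G} (hx : x ∈ P) (hy : y ∈ P) (hne : ∃ m ∈ A, lm A₀ x m ≠ lm A₀ y m) :
    ∃ z ∈ P, ∀ m ∈ A, lm A₀ z m = lm A₀ x m + lm A₀ y m := by
  obtain ⟨a, ha, ha1, ha2⟩ := two_forms (C := fun m => m ∈ A) (f := lm A₀ x) (g := lm A₀ y)
    (fun a b => mul_mem) (fun a b => h.lm_mul hx) (fun a b => h.lm_mul hy)
    (by obtain ⟨m, hm, hm1⟩ := h.exists_one hy; exact ⟨m, hm, by rw [hm1]; decide⟩)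
    (by obtain ⟨m, hm, hm1⟩ := hne; exact ⟨m, hm, Ne.symm hm1⟩)
  obtain ⟨e, he, htv⟩ := h.tvx hx ha ha1
  refine ⟨e⁻¹ * y, mul_mem (inv_mem he) hy, fun m hm => ?_⟩
  rw [lm_conj, h.tv_lm hy he ha htv hm, ha2, mul_one, add_comm]

/-- `z₀` -/
theorem exists_z [Finite G] : ∃ z ∈ A, z ∉ N ∧ ∀ s ∈ S, z⁻¹ * (s * z * s⁻¹) ∈ N := by
  classical
  have : Fact (Nat.Prime 2) := ⟨Nat.prime_two⟩
  -- the quotient `S / N`
  have hSN : S ≤ normalizer (N : Set G) := h.SP.trans h.PN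
  have hNS : N ≤ S := h.NA₀.trans (h.A₀A.trans h.AS)
  have hnorm : (N.subgroupOf S).Normal := normal_subgroupOf_of_le_normalizer hSN
  let π := QuotientGroup.mk' (N.subgroupOf S)
  have hπ : ∀ s (hs : s ∈ S), π ⟨s, hs⟩ = 1 ↔ s ∈ N := fun s hs => by
    rw [QuotientGroup.mk'_apply, QuotientGroup.eq_one_iff]; rfl
  set W : Subgroup (S ⧸ N.subgroupOf S) := (A.subgroupOf S).map π with hW
  have hWn : ∀ q : S ⧸ N.subgroupOf S, q ∈ normalizer (W : Set (S ⧸ N.subgroupOf S)) := by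
    have h0 : (A.subgroupOf S).Normal := normal_subgroupOf_of_le_normalizer (h.SP.trans h.PA)
    have h1 : W.Normal := h0.map π (QuotientGroup.mk'_surjective _)
    intro q
    rw [normalizer_eq_top_iff.2 h1]
    exact mem_top q
  have hne : W ≠ ⊥ := by
    obtain ⟨a, ha, ha0⟩ := h.ne
    intro h0
    have h1 : π ⟨a, h.AS ha⟩ ∈ W := mem_map_of_mem π (mem_subgroupOf.2 ha)
    rw [h0, mem_bot, hπ] at h1
    exact ha0 (h.NA₀ h1)
  have h1 : IsPGroup 2 (⊤ : Subgroup (S ⧸ N.subgroupOf S)) :=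
    (h.two.to_quotient _).of_equiv (topEquiv (G := S ⧸ N.subgroupOf S)).symm
  have h2 : IsPGroup 2 W := (h.two.to_quotient _).to_subgroup W
  have h3 := Cfsg.Agent.PLocal.OffenderStep.inf_centralizer_ne_bot (p := 2) W ⊤ h2 h1 (fun q _ => hWn q) hne
  obtain ⟨q, hq⟩ := Subgroup.ne_bot_iff_exists_ne_one.1 h3
  obtain ⟨⟨z, hz⟩, hzA, hzq⟩ := q.2.1
  have hzA' : z ∈ A := hzA
  refine ⟨z, hzA', fun h4 => hq ?_, fun s hs => ?_⟩
  · apply Subtype.ext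
    rw [← hzq]
    exact (hπ z hz).2 h4
  · have h4 := mem_centralizer_iff.1 q.2.2 (π ⟨s, hs⟩) (mem_top _)
    rw [← hzq] at h4
    have h5 : π (⟨z, hz⟩⁻¹ * (⟨s, hs⟩ * ⟨z, hz⟩ * ⟨s, hs⟩⁻¹)) = 1 := by
      rw [map_mul, map_mul, map_mul, map_inv, map_inv, h4]
      group
    exact (hπ _ (mul_mem (inv_mem hz) (mul_mem (mul_mem hs hz) (inv_mem hs)))).1 h5

/-- the forms fixed by an element: `K_∞` -/
theorem ker' {a : G} (ha : a ∈ A₀) (h0 : ∀ x ∈ P, lm A₀ x a = 0) : a ∈ N := by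
  obtain ⟨d, hd, htv⟩ := h.tv a ha
  have haA := h.A₀A ha
  have htv' : ∀ m ∈ A, (lm A₀ 1 m = 0 → m⁻¹ * (d * m * d⁻¹) ∈ N) ∧
      (lm A₀ 1 m = 1 → (m * a)⁻¹ * (d * m * d⁻¹) ∈ N) := fun m hm =>
    ⟨fun h1 => (htv m hm).1 ((lm_one m).1 h1), fun h1 => (htv m hm).2 fun h2 => by
      rw [← lm_one (A₀ := A₀), h1] at h2; exact absurd h2 (by decide)⟩
  have hk := h.ker d hd fun x hx m hm => by
    rw [h.tv_lm hx (h.SP (h.DS hd)) haA htv' hm, h0 x hx, mul_zero, add_zero]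
  obtain ⟨m, hm, hm0⟩ := h.ne
  have h1 := hk m hm
  have h2 := (htv m hm).2 hm0
  have h3 := mul_mem h1 (inv_mem h2)
  have e : m⁻¹ * (d * m * d⁻¹) * ((m * a)⁻¹ * (d * m * d⁻¹))⁻¹ = a := by group
  rwa [e] at h3

/-- **The transvection lemma.** -/
theorem main [Finite G] : ∃ M : Subgroup G, M < P ∧ S ≤ M ∧ (∀ K : Subgroup G, S ≤ K → K < P → K ≤ M) ∧
    (∀ y ∈ M, ∀ m ∈ A, lm A₀ y m = lm A₀ 1 m) ∧ (∀ y ∈ P, (∀ m ∈ A, lm A₀ y m = lm A₀ 1 m) → y ∈ M) ∧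
    ∃ x ∈ P, x ∉ M ∧ (∃ m ∈ A, lm A₀ x m ≠ lm A₀ 1 m) ∧
    (∀ y ∈ P, (∀ m ∈ A, lm A₀ y m = lm A₀ 1 m) ∨ (∀ m ∈ A, lm A₀ y m = lm A₀ x m) ∨
      (∀ m ∈ A, lm A₀ y m = lm A₀ 1 m + lm A₀ x m)) ∧
    (∀ m ∈ A, lm A₀ 1 m = 0 → lm A₀ x m = 0 → m ∈ N) := by
  obtain ⟨M, hM, hmax⟩ := h.max
  have h1P : (1 : G) ∈ P := one_mem P
  -- `N_P(A₀) ≤ M`
  have hN : ∀ y ∈ P, y ∈ normalizer (A₀ : Set G) → y ∈ M := by
    have h1 : P ⊓ normalizer (A₀ : Set G) < P := lt_of_le_of_ne inf_le_left fun h2 => h.mv (inf_eq_left.1 h2)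
    exact fun y hy hy2 => hmax _ (le_inf h.SP h.SA₀) h1 ⟨hy, hy2⟩
  have hSM : S ≤ M := hmax S le_rfl (lt_of_le_of_ne h.SP fun h1 => h.mv (by rw [← h1]; exact h.SA₀))
  have hDM : D ≤ M := h.DS.trans hSM
  -- forms
  have hmem : ∀ x ∈ P, ∀ y ∈ M, (∀ m ∈ A, lm A₀ x m = lm A₀ y m) → x ∈ M := by
    intro x hx y hy hxy
    have h1 := h.mem_norm (hM.le hy) hx fun m hm => (hxy m hm).symm
    have h2 := hN _ (mul_mem (inv_mem (hM.le hy)) hx) h1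
    have h3 := mul_mem hy h2
    rwa [mul_inv_cancel_left] at h3
  have hadd : ∀ {x y : G} (hx : x ∈ P) (hy : y ∈ P), (∃ m ∈ A, lm A₀ x m ≠ lm A₀ y m) →
      ∃ z ∈ P, ∀ m ∈ A, lm A₀ z m = lm A₀ x m + lm A₀ y m := fun hx hy hne => h.add hx hy hne
  -- the sum of `λ` and a form of `M` is a form of `M`
  have haddM : ∀ y ∈ M, (∃ m ∈ A, lm A₀ y m ≠ lm A₀ 1 m) →
      ∃ z ∈ M, ∀ m ∈ A, lm A₀ z m = lm A₀ 1 m + lm A₀ y m := by
    intro y hy hne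
    obtain ⟨a, ha, ha1, ha2⟩ := two_forms (C := fun m => m ∈ A) (f := lm A₀ 1) (g := lm A₀ y)
      (fun a b => mul_mem) (fun a b => h.lm_mul h1P) (fun a b => h.lm_mul (hM.le hy))
      (by obtain ⟨m, hm, hm1⟩ := h.exists_one (hM.le hy); exact ⟨m, hm, by rw [hm1]; decide⟩) hne
    obtain ⟨d, hd, htv⟩ := h.tv a ((lm_one a).1 ha1)
    have htv' : ∀ m ∈ A, (lm A₀ 1 m = 0 → m⁻¹ * (d * m * d⁻¹) ∈ N) ∧
        (lm A₀ 1 m = 1 → (m * a)⁻¹ * (d * m * d⁻¹) ∈ N) := fun m hm =>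
      ⟨fun h1 => (htv m hm).1 ((lm_one m).1 h1), fun h1 => (htv m hm).2 fun h2 => by
        rw [← lm_one (A₀ := A₀), h1] at h2; exact absurd h2 (by decide)⟩
    refine ⟨d⁻¹ * y, mul_mem (inv_mem (hDM hd)) hy, fun m hm => ?_⟩
    rw [lm_conj, h.tv_lm (hM.le hy) (h.SP (h.DS hd)) ha htv' hm, ha2, mul_one, add_comm]
  -- Argument 1: `M` normalises `A₀`
  have hMl : ∀ y ∈ M, ∀ m ∈ A, lm A₀ y m = lm A₀ 1 m := by
    by_contra hcon
    push Not at hcon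
    obtain ⟨y, hy, hne⟩ := hcon
    have hyP := hM.le hy
    obtain ⟨x, hx, hxM⟩ := SetLike.exists_of_lt hM
    have hxy : ∃ m ∈ A, lm A₀ x m ≠ lm A₀ y m := by
      by_contra hc
      push Not at hc
      exact hxM (hmem x hx y hy hc)
    have hx1 : ∃ m ∈ A, lm A₀ x m ≠ lm A₀ 1 m := by
      by_contra hc
      push Not at hc
      exact hxM (hmem x hx 1 (one_mem _) hc)
    obtain ⟨z, hz, hzy⟩ := haddM y hy hne
    have hxz : ∃ m ∈ A, lm A₀ x m ≠ lm A₀ 1 m + lm A₀ y m := by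
      by_contra hc
      push Not at hc
      exact hxM (hmem x hx z hz fun m hm => (hc m hm).trans (hzy m hm).symm)
    obtain ⟨k, hk, hkxy⟩ := hadd hx hyP hxy
    -- `a` with `λ(a) = 0`, `λ^k(a) = 0`, `λ^y(a) = 1`
    have hd1 : ∀ a b c : ZMod 2, b ≠ a + c → a + b ≠ c := by decide
    have hd2 : ∀ a b c : ZMod 2, c = a + b → c = 0 → b = 1 → a = 1 := by decide
    obtain ⟨a, ha, ha1, hak, hay⟩ := three_forms (C := fun m => m ∈ A) (f₁ := lm A₀ 1) (f₂ := lm A₀ k)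
      (f₃ := lm A₀ y) (fun a b => mul_mem) (fun a b => h.lm_mul h1P) (fun a b => h.lm_mul hk)
      (fun a b => h.lm_mul hyP)
      (by obtain ⟨m, hm, hm1⟩ := h.exists_one hyP; exact ⟨m, hm, by rw [hm1]; decide⟩) hne
      (by
        -- `λ^y ≠ λ^k` since `λ^x ≠ 0`
        obtain ⟨m, hm, hm1⟩ := h.exists_one hx
        refine ⟨m, hm, ?_⟩
        rw [hkxy m hm, hm1]
        have : ∀ c : ZMod 2, c ≠ 1 + c := by decide
        exact this _)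
      (by
        obtain ⟨m, hm, hm1⟩ := hx1
        refine ⟨m, hm, ?_⟩
        rw [hkxy m hm]
        have : ∀ a b c : ZMod 2, a ≠ b → c ≠ b + (a + c) := by decide
        exact this _ _ _ hm1)
    obtain ⟨e, he, htv⟩ := h.tvx hk ha hak
    -- `e` fixes `λ`
    have he1 : ∀ m ∈ A, lm A₀ 1 (e * m * e⁻¹) = lm A₀ 1 m := fun m hm => by
      rw [h.tv_lm h1P he ha htv hm, ha1, mul_zero, add_zero]
    have he1' : ∀ m ∈ A, lm A₀ e⁻¹ m = lm A₀ 1 m := fun m hm => by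
      rw [← he1 m hm, ← lm_conj, mul_one]
    have heM : e ∈ M := by
      have h2 := hmem e⁻¹ (inv_mem he) 1 (one_mem _) he1'
      exact (inv_mem_iff (x := e)).1 h2
    -- and maps `λ^y` to `λ^x`
    apply hxM
    refine hmem x hx (e⁻¹ * y) (mul_mem (inv_mem heM) hy) fun m hm => ?_
    rw [lm_conj, h.tv_lm hyP he ha htv hm, hay, mul_one, hkxy m hm]
    have : ∀ a b : ZMod 2, a = b + (a + b) := by decide
    exact this _ _
  -- Argument 2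
  obtain ⟨z, hzA, hzN, hzS⟩ := h.exists_z
  have hz1 : lm A₀ 1 z = 0 := by
    by_contra hc
    have hzA₀ : z ∉ A₀ := fun h2 => hc ((lm_one z).2 h2)
    obtain ⟨a, ha, haN⟩ := h.ne'
    obtain ⟨d, hd, htv⟩ := h.tv a ha
    have h2 := (htv z hzA).2 hzA₀
    have h3 := hzS d (h.DS hd)
    have h4 := mul_mem h3 (inv_mem h2)
    have e : z⁻¹ * (d * z * d⁻¹) * ((z * a)⁻¹ * (d * z * d⁻¹))⁻¹ = a := by group
    rw [e] at h4
    exact haN h4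
  -- `C_P(z)`
  let C : Subgroup G :=
    { carrier := {p | p ∈ P ∧ z⁻¹ * (p * z * p⁻¹) ∈ N}
      one_mem' := ⟨one_mem _, by
        have e : z⁻¹ * (1 * z * 1⁻¹) = 1 := by group
        rw [e]; exact one_mem _⟩
      mul_mem' := by
        rintro p q ⟨hp, hp2⟩ ⟨hq, hq2⟩
        refine ⟨mul_mem hp hq, ?_⟩
        have h2 := Base.conj_mem h.PN hp hq2
        have e : z⁻¹ * (p * q * z * (p * q)⁻¹) = z⁻¹ * (p * z * p⁻¹) * (p * (z⁻¹ * (q * z * q⁻¹)) * p⁻¹) := by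
          group
        rw [e]
        exact mul_mem hp2 h2
      inv_mem' := by
        rintro p ⟨hp, hp2⟩
        refine ⟨inv_mem hp, ?_⟩
        have h2 := Base.conj_mem' h.PN hp (inv_mem hp2)
        have e : p⁻¹ * (z⁻¹ * (p * z * p⁻¹))⁻¹ * p = z⁻¹ * (p⁻¹ * z * p⁻¹⁻¹) := by group
        rwa [e] at h2 }
  have hCM : ∀ p ∈ P, z⁻¹ * (p * z * p⁻¹) ∈ N → p ∈ M := by
    have h2 : C < P := by
      refine lt_of_le_of_ne (fun p hp => hp.1) fun h3 => ?_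
      apply hzN
      refine h.ker' ((lm_one z).1 hz1) fun x hx => ?_
      have h4 : x⁻¹ ∈ C := by rw [h3]; exact inv_mem hx
      have h5 := h.lm_congr h1P hzA (h.conjA' (inv_mem hx) hzA) h4.2
      rw [hz1, ← lm_conj, inv_inv, mul_one] at h5
      exact h5
    exact fun p hp hp2 => hmax C (fun s hs => ⟨h.SP hs, hzS s hs⟩) h2 ⟨hp, hp2⟩
  have hzx : ∀ x ∈ P, x ∉ M → lm A₀ x z = 1 := by
    intro x hx hxM
    refine (z2 _).resolve_left fun hx0 => hxM ?_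
    have hx1 : ∃ m ∈ A, lm A₀ x m ≠ lm A₀ 1 m := by
      by_contra hc
      push Not at hc
      exact hxM (hmem x hx 1 (one_mem _) hc)
    obtain ⟨k, hk, hkx⟩ := hadd hx h1P hx1
    obtain ⟨a, ha, hak, ha1⟩ := two_forms (C := fun m => m ∈ A) (f := lm A₀ k) (g := lm A₀ 1)
      (fun a b => mul_mem) (fun a b => h.lm_mul hk) (fun a b => h.lm_mul h1P)
      (by obtain ⟨m, hm, hm1⟩ := h.exists_one h1P; exact ⟨m, hm, by rw [hm1]; decide⟩)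
      (by
        obtain ⟨m, hm, hm1⟩ := h.exists_one hx
        refine ⟨m, hm, ?_⟩
        rw [hkx m hm, hm1]
        have : ∀ c : ZMod 2, c ≠ 1 + c := by decide
        exact this _)
    obtain ⟨e, he, htv⟩ := h.tvx hk ha hak
    have hkz : lm A₀ k z = 0 := by rw [hkx z hzA, hx0, hz1, add_zero]
    have heM : e ∈ M := hCM e he ((htv z hzA).1 hkz)
    refine hmem x hx e⁻¹ (inv_mem heM) fun m hm => ?_
    have h2 : lm A₀ e⁻¹ m = lm A₀ 1 (e * m * e⁻¹) := by rw [← lm_conj, mul_one]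
    rw [h2, h.tv_lm h1P he ha htv hm, ha1, mul_one, hkx m hm]
    have : ∀ a b : ZMod 2, a = b + (a + b) := by decide
    exact this _ _
  obtain ⟨x, hx, hxM⟩ := SetLike.exists_of_lt hM
  have hx1 : ∃ m ∈ A, lm A₀ x m ≠ lm A₀ 1 m := by
    by_contra hc
    push Not at hc
    exact hxM (hmem x hx 1 (one_mem _) hc)
  have hall : ∀ y ∈ P, (∀ m ∈ A, lm A₀ y m = lm A₀ 1 m) ∨ (∀ m ∈ A, lm A₀ y m = lm A₀ x m) ∨
      (∀ m ∈ A, lm A₀ y m = lm A₀ 1 m + lm A₀ x m) := by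
    intro y hy
    by_cases hyM : y ∈ M
    · exact Or.inl (hMl y hyM)
    by_cases hyx : ∀ m ∈ A, lm A₀ y m = lm A₀ x m
    · exact Or.inr (Or.inl hyx)
    · push Not at hyx
      obtain ⟨k, hk, hkyx⟩ := hadd hy hx hyx
      have hkM : k ∈ M := by
        by_contra hkM
        have h2 := hzx k hk hkM
        rw [hkyx z hzA, hzx y hy hyM, hzx x hx hxM] at h2
        exact absurd h2 (by decide)
      refine Or.inr (Or.inr fun m hm => ?_)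
      have h2 := hMl k hkM m hm
      rw [hkyx m hm] at h2
      have : ∀ a b c : ZMod 2, a + b = c → a = c + b := by decide
      exact this _ _ _ h2
  refine ⟨M, hM, hSM, hmax, hMl, fun y hy hy1 => hmem y hy 1 (one_mem _) hy1, x, hx, hxM, hx1, hall,
    fun m hm h2 h3 => ?_⟩
  refine h.ker' ((lm_one m).1 h2) fun y hy => ?_
  rcases hall y hy with h4 | h4 | h4
  · rw [h4 m hm, h2]
  · rw [h4 m hm, h3]
  · rw [h4 m hm, h2, h3, add_zero]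

/-- A form fixed by `S` is `λ`. -/
theorem fix [Finite G] {y : G} (hy : y ∈ P) (hS : ∀ s ∈ S, ∀ m ∈ A, lm A₀ y (s * m * s⁻¹) = lm A₀ y m) :
    ∀ m ∈ A, lm A₀ y m = lm A₀ 1 m := by
  obtain ⟨M, -, -, -, -, -, x, hx, -, -, hall, hker⟩ := h.main
  obtain ⟨a, ha, haN⟩ := h.ne'
  have haA := h.A₀A ha
  have ha1 : lm A₀ 1 a = 0 := (lm_one a).2 ha
  have hxa : lm A₀ x a = 1 := (z2 _).resolve_left fun h1 => haN (hker a haA ha1 h1)
  obtain ⟨d, hd, htv⟩ := h.tv a ha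
  have htv' : ∀ m ∈ A, (lm A₀ 1 m = 0 → m⁻¹ * (d * m * d⁻¹) ∈ N) ∧
      (lm A₀ 1 m = 1 → (m * a)⁻¹ * (d * m * d⁻¹) ∈ N) := fun m hm =>
    ⟨fun h1 => (htv m hm).1 ((lm_one m).1 h1), fun h1 => (htv m hm).2 fun h2 => by
      rw [← lm_one (A₀ := A₀), h1] at h2; exact absurd h2 (by decide)⟩
  obtain ⟨m, hm, hm1⟩ := h.exists_one (one_mem P)
  have h1 := h.tv_lm hy (h.SP (h.DS hd)) haA htv' hm
  rw [hS d (h.DS hd) m hm, hm1, one_mul] at h1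
  have hya : lm A₀ y a = 0 := by
    revert h1
    generalize lm A₀ y m = c
    generalize lm A₀ y a = e
    revert c e
    decide
  rcases hall y hy with h2 | h2 | h2
  · exact h2
  · rw [h2 a haA, hxa] at hya
    exact absurd hya (by decide)
  · rw [h2 a haA, hxa, ha1] at hya
    exact absurd hya (by decide)

/-- `P = ⟨S, S^x⟩` for `x ∉ M`. -/
theorem gen [Finite G] {M : Subgroup G} (hmax : ∀ K : Subgroup G, S ≤ K → K < P → K ≤ M)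
    (hMl : ∀ y ∈ M, ∀ m ∈ A, lm A₀ y m = lm A₀ 1 m)
    (hlM : ∀ y ∈ P, (∀ m ∈ A, lm A₀ y m = lm A₀ 1 m) → y ∈ M) {x : G} (hx : x ∈ P) (hxM : x ∉ M) :
    P ≤ S ⊔ S.map (MulAut.conj x).toMonoidHom := by
  by_contra hcon
  have h1 : S.map (MulAut.conj x).toMonoidHom ≤ P := by
    rintro _ ⟨s, hs, rfl⟩
    exact mul_mem (mul_mem hx (h.SP hs)) (inv_mem hx)
  have h2 : S ⊔ S.map (MulAut.conj x).toMonoidHom < P :=
    lt_of_le_of_ne (sup_le h.SP h1) fun h3 => hcon h3.ge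
  have h3 := hmax _ le_sup_left h2
  apply hxM
  rw [← inv_mem_iff]
  refine hlM _ (inv_mem hx) (h.fix (inv_mem hx) fun s hs m hm => ?_)
  have h4 : x * s * x⁻¹ ∈ M := h3 (mem_sup_right ⟨s, hs, rfl⟩)
  have h5 := hMl _ (inv_mem h4) (x * m * x⁻¹) (h.conjA' hx hm)
  have e1 : lm A₀ (x * s * x⁻¹)⁻¹ (x * m * x⁻¹) = lm A₀ x⁻¹ (s * m * s⁻¹) := by
    unfold lm
    have e : (x * s * x⁻¹)⁻¹⁻¹ * (x * m * x⁻¹) * (x * s * x⁻¹)⁻¹ = x⁻¹⁻¹ * (s * m * s⁻¹) * x⁻¹ := by group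
    rw [e]
  have e2 : lm A₀ 1 (x * m * x⁻¹) = lm A₀ x⁻¹ m := by
    unfold lm
    have e : (1 : G)⁻¹ * (x * m * x⁻¹) * 1 = x⁻¹⁻¹ * m * x⁻¹ := by group
    rw [e]
  rw [e1, e2] at h5
  exact h5

end Tv

end Cfsg.Agent.Omega.NO3b.Loc.Tv
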