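import Cfsg.Agent.Omega.NO3b.Loc.Cent
import Cfsg.Agent.Omega.NO3b.Loc.Tv

/-!
# THEOREM LOC, part 8: the end ((d), (e) of #18263)

`A = C_S(V)`, `A₀ = A ∩ Q₂`, `N = C_A(U)`, `D = B₀^{g⁻¹}`: the group `D` acts on `A / N` as the group of all
transvections with axis `A₀ / N` (`tv`), so `Tv` applies to `P`.

* `Concl` : `U = W`, `|V| = 16`, `|Z| = 4`, `C_V(S) = C_V(R) = Z`, `|S : C_S(V)| = 2`, `P = ⟨S, S^x⟩`,
  `Z ∩ Z^x = 1`, `C_U(a) = V` for `a ∈ C_S(V) - C(U)`, `|C_S(V) : C_S(U)| ≤ |U : V|`;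
* `loc` : **THEOREM LOC**.
-/

set_option autoImplicit false

namespace Cfsg.Agent.Omega.NO3b.Loc.Main

open Subgroup Cfsg.Agent.ZN Cfsg.Agent.ZN.ChoiceBase Cfsg.Agent.Omega.NO3b.Ineq Cfsg.Agent.Omega.NO3b.Gen
open Cfsg.Agent.Omega.NO3b.CTwo Cfsg.Agent.Omega.NO3b.Loc.Base Cfsg.Agent.Omega.NO3b.Loc.Off
open Cfsg.Agent.Omega.NO3b.Loc.NotCent Cfsg.Agent.Omega.NO3b.Loc.Line Cfsg.Agent.Omega.NO3b.Loc.Mod
open Cfsg.Agent.Omega.NO3b.Loc.Cent Cfsg.Agent.Omega.NO3b.Loc.Tv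
open scoped commutatorElement

variable {G : Type*} [Group G]

theorem relIndex_eq_two_of {A K : Subgroup G} (h1 : ∃ a ∈ A, a ∉ K)
    (h2 : ∀ a ∈ A, ∀ b ∈ A, a ∉ K → b ∉ K → a⁻¹ * b ∈ K) : K.relIndex A = 2 := by
  obtain ⟨s, hs, hs2⟩ := h1
  change (K.subgroupOf A).index = 2
  rw [Subgroup.index_eq_two_iff]
  refine ⟨⟨s, hs⟩, fun b => ?_⟩
  rw [mem_subgroupOf, mem_subgroupOf]
  change Xor' ((b : G) * s ∈ K) ((b : G) ∈ K)
  by_cases hb : (b : G) ∈ K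
  · exact Or.inr ⟨hb, fun h3 => hs2 ((K.mul_mem_cancel_left hb).1 h3)⟩
  · refine Or.inl ⟨?_, hb⟩
    have h3 := h2 _ (inv_mem b.2) s hs (fun h4 => hb (inv_mem_iff.1 h4)) hs2
    rwa [inv_inv] at h3

/-- An injective map `A/H → B/K`. -/
theorem relIndex_le_of_inj [Finite G] {A B H K : Subgroup G} (φ : G → G) (hφ : ∀ a ∈ A, φ a ∈ B)
    (hinj : ∀ a ∈ A, ∀ a' ∈ A, (φ a)⁻¹ * φ a' ∈ K → a⁻¹ * a' ∈ H) : H.relIndex A ≤ K.relIndex B := by
  classical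
  let F : (A ⧸ H.subgroupOf A) → (B ⧸ K.subgroupOf B) := fun q =>
    QuotientGroup.mk ⟨φ (q.out : A), hφ _ (q.out : A).2⟩
  have hF : Function.Injective F := by
    intro q q' hqq
    have h1 := QuotientGroup.eq.1 hqq
    have h2 : (φ (q.out : A))⁻¹ * φ (q'.out : A) ∈ K := h1
    have h3 := hinj _ (q.out : A).2 _ (q'.out : A).2 h2
    have h4 : (QuotientGroup.mk (q.out : A) : A ⧸ H.subgroupOf A) = QuotientGroup.mk (q'.out : A) :=
      QuotientGroup.eq.2 h3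
    rwa [QuotientGroup.out_eq', QuotientGroup.out_eq'] at h4
  exact Nat.card_le_card_of_injective F hF

section

variable {S M P P₂ Q₂ E R Z V W U : Subgroup G} (h : Hyp S M P P₂ Q₂ E R Z V W U)
include h

/-- **The transvections.** -/
theorem tv [Finite G] {B : Subgroup G} (hB : MO S U B) (hB2 : ¬ B ≤ Q₂) {g : G} (hg : g ∈ P₂)
    (hgV : g ∉ normalizer (V : Set G)) (hl : Lin U Q₂ V B g) :
    ∀ a ∈ Ag S V U ⊓ Q₂, ∃ d ∈ cj g⁻¹ (B ⊓ Q₂), ∀ m ∈ Ag S V U,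
      (m ∈ Ag S V U ⊓ Q₂ → m⁻¹ * (d * m * d⁻¹) ∈ Ag S V U ⊓ centralizer (U : Set G)) ∧
      (m ∉ Ag S V U ⊓ Q₂ → (m * a)⁻¹ * (d * m * d⁻¹) ∈ Ag S V U ⊓ centralizer (U : Set G)) := by
  obtain ⟨hDQ, hDV, hDU, hDH⟩ := conj_facts h hB hB2 hg hgV hl
  have hBV := MO_cent h hB
  set D : Subgroup G := cj g⁻¹ (B ⊓ Q₂) with hD
  have hg' : g⁻¹ ∈ P₂ := inv_mem hg
  have hgV' : g⁻¹ ∉ normalizer (V : Set G) := fun h1 => hgV (inv_mem_iff.1 h1)
  have hLU : cj g⁻¹ V ≤ U := h.line_le_U hg'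
  have hDP : D ≤ P := (hDQ.trans h.QS).trans h.SP
  -- `D` centralises `L = V^{g⁻¹}`
  have hDL : D ≤ centralizer ((cj g⁻¹ V : Subgroup G) : Set G) := cj_cent (inf_le_left.trans hBV)
  have hDA : ∀ d ∈ D, ∀ m ∈ Ag S V U, d * m * d⁻¹ ∈ Ag S V U := fun d hd m hm =>
    conj_mem (P_norm_A h) (hDP hd) hm
  -- the action of `d m d⁻¹` on `L`
  have hact : ∀ d ∈ D, ∀ m : G, ∀ w ∈ cj g⁻¹ V,
      d * m * d⁻¹ * w * (d * m * d⁻¹)⁻¹ * w = d * (m * w * m⁻¹ * w) * d⁻¹ := by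
    intro d hd m w hw
    have h1 : d⁻¹ * w * d = w := by
      rw [mul_assoc, mem_centralizer_iff.1 (hDL hd) w hw, inv_mul_cancel_left]
    calc d * m * d⁻¹ * w * (d * m * d⁻¹)⁻¹ * w
        = d * (m * (d⁻¹ * w * d) * m⁻¹ * (d⁻¹ * w * d)) * d⁻¹ := by group
      _ = _ := by rw [h1]
  -- elements of `A` with the same action on `L`
  have hmem : ∀ a ∈ Ag S V U, ∀ b ∈ Ag S V U, (∀ w ∈ cj g⁻¹ V, a * w * a⁻¹ * w = b * w * b⁻¹ * w) →
      a⁻¹ * b ∈ Ag S V U ⊓ centralizer (U : Set G) := by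
    intro a ha b hb hab
    have hA := mul_mem (inv_mem ha) hb
    exact mem_inf.2 ⟨hA, cent_of_line h hB hB2 hg' hgV' (Ag_le_S hA) (Ag_le_cent hA) (c_inj hab)⟩
  have hH : ∀ d ∈ D, ∀ x ∈ V ⊓ centralizer (R : Set G), d * x * d⁻¹ = x := by
    intro d hd x hx
    rw [← hDH] at hx
    rw [mem_centralizer_iff.1 hx.2 d hd, mul_inv_cancel_right]
  -- `m ∈ A₀`
  have h1 : ∀ d ∈ D, ∀ m ∈ Ag S V U ⊓ Q₂, m⁻¹ * (d * m * d⁻¹) ∈ Ag S V U ⊓ centralizer (U : Set G) := by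
    intro d hd m hm
    refine hmem m hm.1 _ (hDA d hd m hm.1) fun w hw => ?_
    rw [hact d hd m w hw, hH d hd _ (A₀_mem h hB hB2 hm (hLU hw))]
  obtain ⟨m₀, hm₀, hm₀2⟩ := SetLike.not_le_iff_exists.1 hB2
  have hm₀A : m₀ ∈ Ag S V U := B_le h hB hB2 hm₀
  have hm₀S : m₀ ∈ S := hB.le hm₀
  -- surjectivity
  have h2 : ∀ a ∈ Ag S V U ⊓ Q₂, ∃ d ∈ D,
      (m₀⁻¹ * (d * m₀ * d⁻¹))⁻¹ * a ∈ Ag S V U ⊓ centralizer (U : Set G) := by
    refine surj_of_inj (H := centralizer (V : Set G)) (fun d => m₀⁻¹ * (d * m₀ * d⁻¹)) ?_ ?_ ?_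
    · intro d hd
      refine mem_inf.2 ⟨mul_mem (inv_mem hm₀A) (hDA d hd m₀ hm₀A), ?_⟩
      have h3 : m₀⁻¹ * d * m₀ ∈ Q₂ := conj_mem' h.PQ₂ (h.SP₂ hm₀S) (hDQ hd)
      have e : m₀⁻¹ * (d * m₀ * d⁻¹) = m₀⁻¹ * d * m₀ * d⁻¹ := by group
      rw [e]
      exact mul_mem h3 (inv_mem (hDQ hd))
    · intro d hd d' hd' h3
      have h4 : ∀ w ∈ cj g⁻¹ V, d' * (m₀ * w * m₀⁻¹ * w) * d'⁻¹ = d * (m₀ * w * m₀⁻¹ * w) * d⁻¹ := by
        intro w hw
        have h5 : (d * m₀ * d⁻¹)⁻¹ * (d' * m₀ * d'⁻¹) ∈ centralizer (U : Set G) := by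
          have e : (d * m₀ * d⁻¹)⁻¹ * (d' * m₀ * d'⁻¹) =
              (m₀⁻¹ * (d * m₀ * d⁻¹))⁻¹ * (m₀⁻¹ * (d' * m₀ * d'⁻¹)) := by group
          rw [e]
          exact h3.2
        have h6 := c_congr h5 (hLU hw)
        rwa [hact d' hd' m₀ w hw, hact d hd m₀ w hw] at h6
      refine mem_centralizer_iff.2 fun v hv => ?_
      obtain ⟨w, hw, hwv⟩ := (exists_w h hB hB2 hg' hgV' hm₀A hm₀2).2 v hv
      set y := m₀ * w * m₀⁻¹ * w with hy
      have h5 := h4 w hw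
      have h6 : d * v * d⁻¹ = d' * v * d'⁻¹ := by
        have e : v = y * (y⁻¹ * v) := by group
        calc d * v * d⁻¹ = (d * y * d⁻¹) * (d * (y⁻¹ * v) * d⁻¹) := by group
          _ = (d' * y * d'⁻¹) * (d' * (y⁻¹ * v) * d'⁻¹) := by
              rw [← h5, hH d hd _ hwv, hH d' hd' _ hwv]
          _ = _ := by group
      have h7 : d⁻¹ * d' * v * (d⁻¹ * d')⁻¹ = v := by
        calc d⁻¹ * d' * v * (d⁻¹ * d')⁻¹ = d⁻¹ * (d' * v * d'⁻¹) * d := by group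
          _ = d⁻¹ * (d * v * d⁻¹) * d := by rw [h6]
          _ = v := by group
      exact (mul_inv_eq_iff_eq_mul.1 h7).symm
    · have h3 := A₀_card h hB hB2 hg hgV hl
      refine h3.trans ?_
      have h4 := cidx_cj g⁻¹ (B ⊓ Q₂) (cj g V)
      rw [cj_inv_cj] at h4
      exact h4.ge
  intro a ha
  obtain ⟨d, hd, hda⟩ := h2 a ha
  refine ⟨d, hd, fun m hm => ⟨fun hm0 => h1 d hd m hm0, fun hm0 => ?_⟩⟩
  have hm2 : m ∉ Q₂ := fun h3 => hm0 (mem_inf.2 ⟨hm, h3⟩)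
  -- `m = m₀ m₁`
  have hm1 : m₀⁻¹ * m ∈ Ag S V U ⊓ Q₂ := by
    refine mem_inf.2 ⟨mul_mem (inv_mem hm₀A) hm, ?_⟩
    rw [h.mul_mem_iff (inv_mem hm₀S) (Ag_le_S hm), inv_mem_iff]
    exact ⟨fun h3 => absurd h3 hm₀2, fun h3 => absurd h3 hm2⟩
  have had : m₀⁻¹ * (d * m₀ * d⁻¹) ∈ Ag S V U := mul_mem (inv_mem hm₀A) (hDA d hd m₀ hm₀A)
  refine hmem _ (mul_mem hm ha.1) _ (hDA d hd m hm) fun w hw => ?_
  have hwU := hLU hw
  -- `[w, d m d⁻¹] = [w, d m₀ d⁻¹] [w, d m₁ d⁻¹]`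
  have e1 : d * m * d⁻¹ = (d * m₀ * d⁻¹) * (d * (m₀⁻¹ * m) * d⁻¹) := by group
  have e2 : m * a = m₀ * (m₀⁻¹ * m) * a := by group
  have e3 : d * m₀ * d⁻¹ = m₀ * (m₀⁻¹ * (d * m₀ * d⁻¹)) := by group
  have h3 := c_congr (mem_inf.1 (h1 d hd _ hm1)).2 hwU
  have h4 := c_congr (mem_inf.1 hda).2 hwU
  rw [e1, c_mul h (hDA d hd m₀ hm₀A) (hDA d hd _ hm1.1) hwU, h3, e3, c_mul h hm₀A had hwU, ← h4, e2,
    c_mul h (mul_mem hm₀A hm1.1) ha.1 hwU, c_mul h hm₀A hm1.1 hwU]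
  have hc1 := h.VU (Ag_mem h hm₀A hwU)
  have hc2 := h.VU (Ag_mem h hm1.1 hwU)
  have hc3 := h.VU (Ag_mem h ha.1 hwU)
  rw [mul_assoc (m₀ * w * m₀⁻¹ * w), mul_assoc (m₀ * w * m₀⁻¹ * w), h.comm _ hc2 _ hc3]

/-- `[A₀^m, D^m] ≤ C(U)` -/
theorem D_actm [Finite G] {B : Subgroup G} (hB : MO S U B) (hB2 : ¬ B ≤ Q₂) {g : G} (hg : g ∈ P₂)
    (hgV : g ∉ normalizer (V : Set G)) (hl : Lin U Q₂ V B g) {m : G} (hm : m ∈ M) {d a : G}
    (hd : d ∈ cj m (cj g⁻¹ (B ⊓ Q₂))) (ha : a ∈ cj m (Ag S V U ⊓ Q₂)) :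
    a⁻¹ * (d * a * d⁻¹) ∈ centralizer (U : Set G) := by
  have h1 := D_act' h hB hB2 hg hgV hl (mem_cj.1 hd) (mem_cj.1 ha)
  have h2 := conj_mem (norm_cent h.MU) hm h1
  have e : m * ((m⁻¹ * a * m)⁻¹ * (m⁻¹ * d * m * (m⁻¹ * a * m) * (m⁻¹ * d * m)⁻¹)) * m⁻¹ =
      a⁻¹ * (d * a * d⁻¹) := by group
  rwa [e] at h2

theorem S_norm_A₀ : S ≤ normalizer ((Ag S V U ⊓ Q₂ : Subgroup G) : Set G) :=
  norm_of_forall fun _ hs _ ha => mem_inf.2 ⟨conj_mem (P_norm_A h) (h.SP hs) ha.1,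
    conj_mem h.PQ₂ (h.SP₂ hs) ha.2⟩

/-- `D^m ≤ S` implies `A₀^m = A₀`. -/
theorem axis [Finite G] {B : Subgroup G} (hB : MO S U B) (hB2 : ¬ B ≤ Q₂) {g : G} (hg : g ∈ P₂)
    (hgV : g ∉ normalizer (V : Set G)) (hl : Lin U Q₂ V B g) {m : G} (hm : m ∈ M)
    (hmS : cj m (cj g⁻¹ (B ⊓ Q₂)) ≤ S) : cj m (Ag S V U ⊓ Q₂) = Ag S V U ⊓ Q₂ := by
  have hmA : cj m (Ag S V U ⊓ Q₂) ≤ Ag S V U := cj_le_of (M_norm_A h) hm inf_le_left
  have key : Ag S V U ⊓ Q₂ ≤ cj m (Ag S V U ⊓ Q₂) := by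
    by_contra hcon
    obtain ⟨a, ha, ha2⟩ := SetLike.not_le_iff_exists.1 hcon
    have h1 : cj m (Ag S V U ⊓ Q₂) ≤ Ag S V U ⊓ Q₂ := by
      intro c hc
      obtain ⟨d, hd, htv⟩ := tv h hB hB2 hg hgV hl _ (mem_cj.1 hc)
      have hx : m⁻¹ * a * m ∈ Ag S V U := conj_mem' (M_norm_A h) hm ha.1
      have h2 := (htv _ hx).2 fun h3 => ha2 (mem_cj.2 h3)
      have h3 := conj_mem (norm_cent h.MU) hm (mem_inf.1 h2).2
      have hdm : m * d * m⁻¹ ∈ cj m (cj g⁻¹ (B ⊓ Q₂)) := by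
        rw [mem_cj]
        have e : m⁻¹ * (m * d * m⁻¹) * m = d := by group
        rwa [e]
      have h4 : (m * d * m⁻¹) * a * (m * d * m⁻¹)⁻¹ ∈ Ag S V U ⊓ Q₂ := conj_mem (S_norm_A₀ h) (hmS hdm) ha
      have e : m * ((m⁻¹ * a * m * (m⁻¹ * c * m))⁻¹ * (d * (m⁻¹ * a * m) * d⁻¹)) * m⁻¹ =
          (a * c)⁻¹ * ((m * d * m⁻¹) * a * (m * d * m⁻¹)⁻¹) := by group
      rw [e] at h3
      set y := (m * d * m⁻¹) * a * (m * d * m⁻¹)⁻¹ with hy
      have hcA := hmA hc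
      have h5 : (a * c)⁻¹ * y ∈ Ag S V U ⊓ Q₂ := by
        have h6 : (a * c)⁻¹ * y ∈ Ag S V U := mul_mem (inv_mem (mul_mem ha.1 hcA)) h4.1
        exact mem_inf.2 ⟨h6, h.mem_Q₂_of_cent (Ag_le_S h6) (Subgroup.centralizer_le h.WU h3)⟩
      have h6 := mul_mem (mul_mem (inv_mem ha) h4) (inv_mem h5)
      have e2 : a⁻¹ * y * ((a * c)⁻¹ * y)⁻¹ = c := by group
      rwa [e2] at h6
    exact ha2 ((Subgroup.eq_of_le_of_card_ge h1 (card_cj m _).ge).ge ha)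
  exact (Subgroup.eq_of_le_of_card_ge key (card_cj m _).le).symm

/-- `⋂ A₀^x`, `x ∈ P`, centralises `U`. -/
theorem ker_le [Finite G] {B : Subgroup G} (hB : MO S U B) (hB2 : ¬ B ≤ Q₂) {g : G} (hg : g ∈ P₂)
    (hgV : g ∉ normalizer (V : Set G)) (hl : Lin U Q₂ V B g) {a : G} (haA : a ∈ Ag S V U)
    (ha : ∀ x ∈ P, x⁻¹ * a * x ∈ Ag S V U ⊓ Q₂) : a ∈ centralizer (U : Set G) := by
  obtain ⟨hDQ, hDV, -, -⟩ := conj_facts h hB hB2 hg hgV hl
  obtain ⟨m, hm, hmS, hpr⟩ := h.princ _ (hDQ.trans h.QS) hDV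
  let K : Subgroup G :=
    { carrier := {a | a ∈ Ag S V U ∧ ∀ x ∈ P, x⁻¹ * a * x ∈ Ag S V U ⊓ Q₂}
      one_mem' := ⟨one_mem _, fun x _ => by rw [mul_one, inv_mul_cancel]; exact one_mem _⟩
      mul_mem' := by
        rintro u v ⟨hu, hu2⟩ ⟨hv, hv2⟩
        refine ⟨mul_mem hu hv, fun x hx => ?_⟩
        have e : x⁻¹ * (u * v) * x = (x⁻¹ * u * x) * (x⁻¹ * v * x) := by group
        rw [e]; exact mul_mem (hu2 x hx) (hv2 x hx)
      inv_mem' := by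
        rintro v ⟨hv, hv2⟩
        refine ⟨inv_mem hv, fun x hx => ?_⟩
        have e : x⁻¹ * v⁻¹ * x = (x⁻¹ * v * x)⁻¹ := by group
        rw [e]; exact inv_mem (hv2 x hx) }
  have hPK : P ≤ normalizer (K : Set G) := by
    refine norm_of_forall fun p hp v hv => ⟨conj_mem (P_norm_A h) hp hv.1, fun x hx => ?_⟩
    have h5 := hv.2 _ (mul_mem (inv_mem hp) hx)
    have e : (p⁻¹ * x)⁻¹ * v * (p⁻¹ * x) = x⁻¹ * (p * v * p⁻¹) * x := by group
    rwa [e] at h5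
  have hKA : K ≤ Ag S V U ⊓ Q₂ := fun v hv => by
    have := hv.2 1 (one_mem _)
    rwa [inv_one, mul_one, one_mul] at this
  have h1 : K ≤ centralizer (U : Set G) :=
    princ_kill h hB hB2 (hmS.trans h.SP) hpr (hKA.trans inf_le_left) hPK le_rfl h.PU fun d hd a ha =>
      D_actm h hB hB2 hg hgV hl hm hd (by rw [axis h hB hB2 hg hgV hl hm hmS]; exact hKA ha)
  exact h1 ⟨haA, ha⟩

/-- `P` does not normalise `A₀`. -/
theorem not_norm_A₀ [Finite G] {B : Subgroup G} (hB : MO S U B) (hB2 : ¬ B ≤ Q₂) {g : G} (hg : g ∈ P₂)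
    (hgV : g ∉ normalizer (V : Set G)) (hl : Lin U Q₂ V B g) :
    ¬ P ≤ normalizer ((Ag S V U ⊓ Q₂ : Subgroup G) : Set G) := by
  intro h1
  apply hl.ne
  intro b hb
  have hbA : b ∈ Ag S V U ⊓ Q₂ := mem_inf.2 ⟨B_le h hB hB2 hb.1, hb.2⟩
  exact Subgroup.centralizer_le (h.line_le_U hg) (ker_le h hB hB2 hg hgV hl hbA.1 fun x hx => conj_mem' h1 hx hbA)

/-- `S ∩ C(A / N) ≤ C(V)` -/
theorem mem_cent_of_act [Finite G] {B : Subgroup G} (hB : MO S U B) (hB2 : ¬ B ≤ Q₂) {s : G} (hs : s ∈ S)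
    (hs2 : ∀ m ∈ Ag S V U, m⁻¹ * (s * m * s⁻¹) ∈ centralizer (U : Set G)) : s ∈ centralizer (V : Set G) := by
  by_contra hsV
  have hM : M ≤ normalizer (KX M (Ag S V U) (centralizer (U : Set G)) (M_norm_A h) : Set G) :=
    norm_KX (M_norm_A h) (norm_cent h.MU)
  obtain ⟨m, hm, -, hpr⟩ := h.princ (S ⊓ KX M (Ag S V U) (centralizer (U : Set G)) (M_norm_A h)) inf_le_left
    fun h1 => hsV (h1 ⟨hs, h.SM hs, hs2⟩)
  have hE := hpr _ (h.PM.trans hM) (cj_le_of hM hm inf_le_right)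
  obtain ⟨g, hg, hgV, hne⟩ := exists_line h hB hB2
  apply hne
  exact (inf_le_left.trans (B_le h hB hB2)).trans ((E_kill h hB hB2 le_rfl le_rfl fun e he => (hE he).2).trans
    (Subgroup.centralizer_le (h.line_le_U hg)))

/-- the elements of `S` which fix all forms -/
theorem mem_cent_of_fix [Finite G] {B : Subgroup G} (hB : MO S U B) (hB2 : ¬ B ≤ Q₂) {g : G} (hg : g ∈ P₂)
    (hgV : g ∉ normalizer (V : Set G)) (hl : Lin U Q₂ V B g) {s : G} (hs : s ∈ S)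
    (hfix : ∀ x ∈ P, ∀ m ∈ Ag S V U, lm (Ag S V U ⊓ Q₂) x (s * m * s⁻¹) = lm (Ag S V U ⊓ Q₂) x m) :
    s ∈ centralizer (V : Set G) := by
  refine mem_cent_of_act h hB hB2 hs fun m hm => ?_
  have hsm : s * m * s⁻¹ ∈ Ag S V U := conj_mem (P_norm_A h) (h.SP hs) hm
  refine ker_le h hB hB2 hg hgV hl (mul_mem (inv_mem hm) hsm) fun x hx => ?_
  have h1 := hfix x hx m hm
  have hxm : x⁻¹ * m * x ∈ Ag S V U := conj_mem' (P_norm_A h) hx hm
  have hxs : x⁻¹ * (s * m * s⁻¹) * x ∈ Ag S V U := conj_mem' (P_norm_A h) hx hsm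
  have h2 : x⁻¹ * (s * m * s⁻¹) * x ∈ Ag S V U ⊓ Q₂ ↔ x⁻¹ * m * x ∈ Ag S V U ⊓ Q₂ := by
    rw [← lm_eq_zero, ← lm_eq_zero, h1]
  rw [mem_inf, mem_inf] at h2
  have e : x⁻¹ * (m⁻¹ * (s * m * s⁻¹)) * x = (x⁻¹ * m * x)⁻¹ * (x⁻¹ * (s * m * s⁻¹) * x) := by group
  rw [e]
  refine mem_inf.2 ⟨mul_mem (inv_mem hxm) hxs, ?_⟩
  rw [h.mul_mem_iff (inv_mem (Ag_le_S hxm)) (Ag_le_S hxs), inv_mem_iff]
  exact ⟨fun h3 => (h2.2 ⟨hxm, h3⟩).2, fun h3 => (h2.1 ⟨hxs, h3⟩).2⟩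

/-- The hypotheses of the transvection lemma hold. -/
theorem tvInst [Finite G] {B : Subgroup G} (hB : MO S U B) (hB2 : ¬ B ≤ Q₂) {g : G} (hg : g ∈ P₂)
    (hgV : g ∉ normalizer (V : Set G)) (hl : Lin U Q₂ V B g) :
    Tv.Tv S P (Ag S V U) (Ag S V U ⊓ Q₂) (Ag S V U ⊓ centralizer (U : Set G)) (cj g⁻¹ (B ⊓ Q₂)) := by
  obtain ⟨hDQ, hDV, hDU, hDH⟩ := conj_facts h hB hB2 hg hgV hl
  have hBV := MO_cent h hB
  have hg' : g⁻¹ ∈ P₂ := inv_mem hg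
  have hgV' : g⁻¹ ∉ normalizer (V : Set G) := fun h1 => hgV (inv_mem_iff.1 h1)
  have hBA := B_le h hB hB2
  exact
  { two := h.two
    SP := h.SP
    AS := Ag_le_S
    A₀A := inf_le_left
    NA₀ := fun a ha => mem_inf.2 ⟨(mem_inf.1 ha).1, h.mem_Q₂_of_cent (Ag_le_S (mem_inf.1 ha).1)
      (Subgroup.centralizer_le h.WU (mem_inf.1 ha).2)⟩
    PA := P_norm_A h
    PN := Sit.norm_inf_cent (P_norm_A h) h.PU
    SA₀ := S_norm_A₀ h
    DS := hDQ.trans h.QS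
    mul := by
      intro a ha b hb
      rw [mem_inf, mem_inf, mem_inf, h.mul_mem_iff (Ag_le_S ha) (Ag_le_S hb)]
      exact ⟨fun h1 => ⟨fun h2 => ⟨hb, h1.2.1 h2.2⟩, fun h2 => ⟨ha, h1.2.2 h2.2⟩⟩, fun h1 => ⟨mul_mem ha hb,
        fun h2 => (h1.1 ⟨ha, h2⟩).2, fun h2 => (h1.2 ⟨hb, h2⟩).2⟩⟩
    ne := by
      obtain ⟨b, hb, hb2⟩ := SetLike.not_le_iff_exists.1 hB2
      exact ⟨b, hBA hb, fun h1 => hb2 (mem_inf.1 h1).2⟩
    ne' := by
      obtain ⟨b, hb, hb2⟩ := SetLike.not_le_iff_exists.1 hl.ne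
      refine ⟨b, mem_inf.2 ⟨hBA hb.1, hb.2⟩, fun h1 => hb2 ?_⟩
      exact Subgroup.centralizer_le (h.line_le_U hg) (mem_inf.1 h1).2
    tv := tv h hB hB2 hg hgV hl
    ker := by
      intro d hd hfix m hm
      have h1 := mem_cent_of_fix h hB hB2 hg hgV hl (h.QS (hDQ hd)) hfix
      have h2 : d ∈ centralizer (U : Set G) := cent_of_line h hB hB2 hg' hgV' (h.QS (hDQ hd)) h1
        (cj_cent (inf_le_left.trans hBV) hd)
      have hmP := h.SP (Ag_le_S hm)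
      refine mem_inf.2 ⟨mul_mem (inv_mem hm) (conj_mem (P_norm_A h) (h.SP (h.QS (hDQ hd))) hm), ?_⟩
      have h3 : m⁻¹ * d * m ∈ centralizer (U : Set G) := conj_mem' (norm_cent h.PU) hmP h2
      have e : m⁻¹ * (d * m * d⁻¹) = m⁻¹ * d * m * d⁻¹ := by group
      rw [e]
      exact mul_mem h3 (inv_mem h2)
    max := h.max
    mv := not_norm_A₀ h hB hB2 hg hgV hl }

end

/-- The conclusions of THEOREM LOC. -/
structure Concl (S P R Z V W U : Subgroup G) : Prop where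
  eq : U = W
  cardV : Nat.card V = 16
  cardZ : Nat.card Z = 4
  inf_R : V ⊓ centralizer (R : Set G) = Z
  inf_S : V ⊓ centralizer (S : Set G) = Z
  idx : (centralizer (V : Set G)).relIndex S = 2
  gen : ∃ x ∈ P, P ≤ S ⊔ cj x S ∧ Z ⊓ cj x Z = ⊥
  fix : ∀ a ∈ S ⊓ centralizer (V : Set G), a ∉ centralizer (U : Set G) → ∀ u ∈ U, a * u = u * a → u ∈ V
  ratio : (centralizer (U : Set G)).relIndex (S ⊓ centralizer (V : Set G)) ≤ V.relIndex U

section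

variable {S M P P₂ Q₂ E R Z V W U : Subgroup G} (h : Hyp S M P P₂ Q₂ E R Z V W U)
include h

/-- **THEOREM LOC.** -/
theorem loc [Finite G] (hff : ∃ A, A ≤ S ∧ Off U A) : Concl S P R Z V W U := by
  obtain ⟨B, hB, hB2⟩ := exists_MO h hff
  obtain ⟨g, hg, hgV, hne⟩ := exists_line h hB hB2
  have hl := lin h hB hB2 hg hne
  obtain ⟨hDQ, hDV, hDU, hDH⟩ := conj_facts h hB hB2 hg hgV hl
  have T := tvInst h hB hB2 hg hgV hl
  obtain ⟨M, hM, hSM, hmax, hMl, hlM, x, hx, hxM, hx1, hall, hker⟩ := T.main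
  have hBV := MO_cent h hB
  have hBA := B_le h hB hB2
  -- `|S : C_S(V)| = 2`
  have hfix : ∀ s ∈ S, (∀ m ∈ Ag S V U, lm (Ag S V U ⊓ Q₂) x (s * m * s⁻¹) = lm (Ag S V U ⊓ Q₂) x m) →
      s ∈ centralizer (V : Set G) := by
    intro s hs hsx
    refine mem_cent_of_fix h hB hB2 hg hgV hl hs fun y hy m hm => ?_
    have hsm := T.conjA' (h.SP hs) hm
    rcases hall y hy with h1 | h1 | h1
    · rw [h1 _ hsm, h1 _ hm, T.lm_S hs]
    · rw [h1 _ hsm, h1 _ hm, hsx m hm]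
    · rw [h1 _ hsm, h1 _ hm, hsx m hm, T.lm_S hs]
  have hmove : ∀ s ∈ S, s ∉ centralizer (V : Set G) → ∀ m ∈ Ag S V U,
      lm (Ag S V U ⊓ Q₂) x (s * m * s⁻¹) = lm (Ag S V U ⊓ Q₂) 1 m + lm (Ag S V U ⊓ Q₂) x m := by
    intro s hs hsV
    rcases hall (s⁻¹ * x) (mul_mem (inv_mem (h.SP hs)) hx) with h1 | h1 | h1
    · exfalso
      obtain ⟨m, hm, hm1⟩ := hx1
      apply hm1
      have h2 := h1 _ (T.conjA (h.SP hs) hm)
      rw [Tv.lm_conj] at h2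
      have e : s * (s⁻¹ * m * s) * s⁻¹ = m := by group
      rw [e] at h2
      rw [h2, ← T.lm_S hs, e]
    · exfalso
      refine hsV (hfix s hs fun m hm => ?_)
      rw [← Tv.lm_conj]
      exact h1 m hm
    · intro m hm
      rw [← Tv.lm_conj]
      exact h1 m hm
  have hS2 : ∀ s ∈ S, ∀ s' ∈ S, s ∉ centralizer (V : Set G) → s' ∉ centralizer (V : Set G) →
      s⁻¹ * s' ∈ centralizer (V : Set G) := by
    intro s hs s' hs' hsV hsV'
    refine hfix _ (mul_mem (inv_mem hs) hs') fun m hm => ?_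
    have hm' := T.conjA' (h.SP hs') hm
    have hm'' := T.conjA (h.SP hs) hm'
    have h1 := hmove s hs hsV _ hm''
    have h2 := hmove s' hs' hsV' _ hm
    have e1 : s * (s⁻¹ * (s' * m * s'⁻¹) * s) * s⁻¹ = s' * m * s'⁻¹ := by group
    have e2 : s⁻¹ * s' * m * (s⁻¹ * s')⁻¹ = s⁻¹ * (s' * m * s'⁻¹) * s := by group
    have h3 : lm (Ag S V U ⊓ Q₂) 1 (s⁻¹ * (s' * m * s'⁻¹) * s) = lm (Ag S V U ⊓ Q₂) 1 m := by
      rw [← T.lm_S hs, e1, T.lm_S hs']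
    rw [e1, h2, h3] at h1
    rw [e2]
    exact (add_left_cancel h1).symm
  obtain ⟨d, hd, hdV⟩ := SetLike.not_le_iff_exists.1 hDV
  have hdS : d ∈ S := h.QS (hDQ hd)
  have hidx : (centralizer (V : Set G)).relIndex S = 2 := relIndex_eq_two_of ⟨d, hdS, hdV⟩ hS2
  -- `|V : H| = 4`
  have hB₀2 : cidx (B ⊓ Q₂) (cj g V) = 2 := by
    refine relIndex_eq_two_of (SetLike.not_le_iff_exists.1 hl.ne) fun a ha b hb ha2 hb2 => ?_
    have hLU := h.line_le_U hg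
    have haA : a ∈ Ag S V U := hBA ha.1
    have hbA : b ∈ Ag S V U := hBA hb.1
    have ha0 : a ∈ Ag S V U ⊓ Q₂ := mem_inf.2 ⟨haA, ha.2⟩
    have hb0 : b ∈ Ag S V U ⊓ Q₂ := mem_inf.2 ⟨hbA, hb.2⟩
    have key : ∀ c ∈ Ag S V U ⊓ Q₂, c ∉ centralizer ((cj g V : Subgroup G) : Set G) →
        lm (Ag S V U ⊓ Q₂) x c = 1 := by
      intro c hc hc2
      refine (z2 _).resolve_left fun h1 => hc2 ?_
      exact Subgroup.centralizer_le hLU (mem_inf.1 (hker c hc.1 ((Tv.lm_one c).2 hc) h1)).2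
    have hai : (a⁻¹ : G) ∉ centralizer ((cj g V : Subgroup G) : Set G) := fun h1 => ha2 (inv_mem_iff.1 h1)
    have h1 := key _ (inv_mem ha0) hai
    have h2 := key _ hb0 hb2
    have h3 : a⁻¹ * b ∈ Ag S V U ⊓ Q₂ := mul_mem (inv_mem ha0) hb0
    have h4 : lm (Ag S V U ⊓ Q₂) x (a⁻¹ * b) = 0 := by
      rw [T.lm_mul hx (inv_mem haA) hbA, h1, h2]; decide
    exact Subgroup.centralizer_le hLU (mem_inf.1 (hker _ h3.1 ((Tv.lm_one _).2 h3) h4)).2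
  have hVH : (V ⊓ centralizer (R : Set G)).relIndex V = 4 := by
    rw [relIndex_eq h hB hB2 hg hgV hl, hl.two, hB₀2]
  have hDl : U ≤ V ⊔ (U ⊓ centralizer ((cj g⁻¹ (B ⊓ Q₂) : Subgroup G) : Set G)) := by
    have h1 := cj_mono g⁻¹ hl.sup
    rw [cj_eq_of h.P₂U (inv_mem hg), cj, Subgroup.map_sup] at h1
    refine h1.trans (sup_le ((cj_inv_cj g V).le.trans le_sup_left) (le_trans (Eq.le ?_) le_sup_right))
    change cj g⁻¹ _ = _
    rw [ChoiceBase.cj_inf, cj_eq_of h.P₂U (inv_mem hg), cj_centralizer]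
  -- `C_U(A) = V`
  have hCA : ∀ u ∈ U, (∀ a ∈ Ag S V U, a * u = u * a) → u ∈ V := by
    intro u hu hua
    obtain ⟨v, hv, c, hc, rfl⟩ := mem_sup_of_le_norm (norm_of_forall fun a ha x hx => by
      rw [h.comm a (h.VU ha) x hx.1, mul_inv_cancel_right]; exact hx) (hDl hu)
    have hcA : ∀ a ∈ Ag S V U, a * c = c * a := by
      intro a ha
      have h1 := mem_centralizer_iff.1 (Ag_le_cent ha) v hv
      have h2 := hua a ha
      rw [← mul_assoc, ← h1, mul_assoc, mul_assoc, mul_right_inj] at h2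
      exact h2
    refine mul_mem hv (h.ZV (h.cen c hc.1 (mem_centralizer_iff.2 fun s hs => ?_)))
    by_cases hsV : s ∈ centralizer (V : Set G)
    · exact hcA s (cs_le h hB hB2 ⟨hs, hsV⟩)
    · have h1 := hcA _ (cs_le h hB hB2 (mem_inf.2 ⟨S.mul_mem (inv_mem hdS) hs, hS2 d hdS s hs hdV hsV⟩))
      have h2 := mem_centralizer_iff.1 hc.2 d hd
      calc s * c = d * ((d⁻¹ * s) * c) := by group
        _ = d * c * (d⁻¹ * s) := by rw [h1]; group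
        _ = c * d * (d⁻¹ * s) := by rw [h2]
        _ = c * s := by group
  -- `U = W`
  have hUW : U ≤ W := by
    intro u hu
    obtain ⟨l, hll, c, hc, rfl⟩ := mem_sup_of_le_norm (norm_of_forall fun a ha x hx => by
      rw [h.comm a (h.line_le_U hg ha) x hx.1, mul_inv_cancel_right]; exact hx) (hl.sup hu)
    have hcB := hl.fix hc
    refine mul_mem (h.line_le hg hll) (h.VW (hCA c hc.1 fun a ha => ?_))
    have h1 : ∀ a ∈ Ag S V U ⊓ Q₂, a * c = c * a := by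
      intro a ha
      obtain ⟨b, hb, hba⟩ := surj_of_inj (A := B ⊓ Q₂) (B := Ag S V U ⊓ Q₂)
        (H := centralizer ((cj g V : Subgroup G) : Set G)) (K := centralizer ((cj g V : Subgroup G) : Set G))
        (fun x => x) (fun x hx => inf_le_inf_right _ hBA hx) (fun _ _ _ _ h1 => h1)
        (A₀_cidx h hB hB2 hg hgV hl) a ha
      have hkA : b⁻¹ * a ∈ Ag S V U := mul_mem (inv_mem (hBA hb.1)) ha.1
      have hkU := cent_of_line h hB hB2 hg hgV (Ag_le_S hkA) (Ag_le_cent hkA) hba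
      have h2 := mem_centralizer_iff.1 hkU c hc.1
      have h3 := mem_centralizer_iff.1 hcB b hb.1
      calc a * c = b * ((b⁻¹ * a) * c) := by group
        _ = b * (c * (b⁻¹ * a)) := by rw [h2]
        _ = (b * c) * (b⁻¹ * a) := by group
        _ = (c * b) * (b⁻¹ * a) := by rw [h3]
        _ = c * a := by group
    by_cases ha2 : a ∈ Q₂
    · exact h1 a ⟨ha, ha2⟩
    · obtain ⟨t, ht, ht2⟩ := SetLike.not_le_iff_exists.1 hB2
      have h4 : t⁻¹ * a ∈ Ag S V U ⊓ Q₂ := by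
        refine mem_inf.2 ⟨mul_mem (inv_mem (hBA ht)) ha, ?_⟩
        rw [h.mul_mem_iff (inv_mem (hB.le ht)) (Ag_le_S ha), inv_mem_iff]
        exact ⟨fun h9 => absurd h9 ht2, fun h9 => absurd h9 ha2⟩
      have h2 := h1 _ h4
      have h3 := mem_centralizer_iff.1 hcB t ht
      calc a * c = t * ((t⁻¹ * a) * c) := by group
        _ = t * (c * (t⁻¹ * a)) := by rw [h2]
        _ = (t * c) * (t⁻¹ * a) := by group
        _ = (c * t) * (t⁻¹ * a) := by rw [h3]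
        _ = c * a := by group
  -- (B)
  have hfixB : ∀ a ∈ S ⊓ centralizer (V : Set G), a ∉ centralizer (U : Set G) → ∀ u ∈ U, a * u = u * a →
      u ∈ V := by
    intro a ha haU u hu hau
    have haA := cs_le h hB hB2 ha
    obtain ⟨y, hy, hya⟩ : ∃ y ∈ P, y⁻¹ * a * y ∉ Ag S V U ⊓ Q₂ := by
      by_contra hcon
      push Not at hcon
      exact haU (ker_le h hB hB2 hg hgV hl haA hcon)
    have hyA : y⁻¹ * a * y ∈ Ag S V U := conj_mem' (P_norm_A h) hy haA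
    have hyQ : y⁻¹ * a * y ∉ Q₂ := fun h1 => hya (mem_inf.2 ⟨hyA, h1⟩)
    have huy : y⁻¹ * u * y ∈ U := conj_mem' h.PU hy hu
    obtain ⟨v, hv, l, hll, hvl⟩ := exists_mul h hB hB2 hg hgV (hUW huy)
    have hlU := h.line_le_U hg hll
    have h1 : (y⁻¹ * a * y) * (v * l) * (y⁻¹ * a * y)⁻¹ * (v * l) = 1 := by
      rw [hvl]
      have e : y⁻¹ * a * y * (y⁻¹ * u * y) * (y⁻¹ * a * y)⁻¹ * (y⁻¹ * u * y) =
          y⁻¹ * ((a * u) * a⁻¹ * u) * y := by group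
      rw [e, hau, mul_inv_cancel_right, h.sq u hu, mul_one, inv_mul_cancel]
    rw [c_line h hyA hv hlU] at h1
    have h2 := (exists_w h hB hB2 hg hgV hyA hyQ).1 l hll (by rw [h1]; exact one_mem _)
    have h3 : y⁻¹ * u * y ∈ V := by rw [← hvl]; exact mul_mem hv h2.1
    have h4 := conj_mem h.PV hy h3
    have e : y * (y⁻¹ * u * y) * y⁻¹ = u := by group
    rwa [e] at h4
  -- (C)
  have hratio : (centralizer (U : Set G)).relIndex (S ⊓ centralizer (V : Set G)) ≤ V.relIndex U := by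
    have hAeq : S ⊓ centralizer (V : Set G) = Ag S V U :=
      le_antisymm (cs_le h hB hB2) (le_inf Ag_le_S Ag_le_cent)
    have h1 : (Ag S V U ⊓ centralizer (U : Set G)).relIndex (Ag S V U ⊓ Q₂) ≤ 2 :=
      (A₀_card h hB hB2 hg hgV hl).trans hB₀2.le
    have h2 := relIndex_mul_relIndex (Ag S V U ⊓ centralizer (U : Set G)) (Ag S V U ⊓ Q₂) (Ag S V U)
      (fun a ha => T.NA₀ ha) inf_le_left
    rw [inf_relIndex_left, inf_relIndex_left, relIndex_two h Ag_le_S fun h3 => hB2 (hBA.trans h3)] at h2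
    rw [hAeq, ← h2]
    have h3 : V.relIndex (cj g V) ≤ V.relIndex U := relIndex_le_of_le_right (h.line_le_U hg) (rel_ne _ _)
    have h4 : (V ⊓ centralizer (R : Set G)).relIndex (cj g V) ≤ V.relIndex (cj g V) := by
      rw [← inf_relIndex_right V (cj g V)]
      refine relIndex_le_of_le_left ?_ (rel_ne _ _)
      rintro x ⟨hx1, hx2⟩
      exact mem_H h (not_le_of h hB.le hBV hB2) (one_mem _) hg (by rwa [inv_one, one_mul])
        (by rwa [cj_one]) hx2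
    rw [relIndex_H h hg, hVH] at h4
    omega
  -- `C_V(d) = H`
  have hVd : ∀ v ∈ V, d * v = v * d → v ∈ V ⊓ centralizer (R : Set G) := by
    intro v hv hdv
    rw [← hDH]
    refine mem_inf.2 ⟨hv, mem_centralizer_iff.2 fun d' hd' => ?_⟩
    by_cases hd'V : d' ∈ centralizer (V : Set G)
    · exact (mem_centralizer_iff.1 hd'V v hv).symm
    · have h1 := mem_centralizer_iff.1 (hS2 d hdS d' (h.QS (hDQ hd')) hdV hd'V) v hv
      have e : d' = d * (d⁻¹ * d') := by group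
      calc d' * v = d * ((d⁻¹ * d') * v) := by group
        _ = d * v * (d⁻¹ * d') := by rw [← h1]; group
        _ = v * d * (d⁻¹ * d') := by rw [hdv]
        _ = v * d' := by group
  have hHd : ∀ v ∈ V ⊓ centralizer (R : Set G), d * v = v * d := by
    intro v hv
    rw [← hDH] at hv
    exact mem_centralizer_iff.1 hv.2 d hd
  have hHS : V ⊓ centralizer (R : Set G) ≤ centralizer (S : Set G) := by
    intro v hv
    refine mem_centralizer_iff.2 fun s hs => ?_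
    by_cases hsV : s ∈ centralizer (V : Set G)
    · exact (mem_centralizer_iff.1 hsV v hv.1).symm
    · have h1 := mem_centralizer_iff.1 (hS2 d hdS s hs hdV hsV) v hv.1
      calc s * v = d * ((d⁻¹ * s) * v) := by group
        _ = d * v * (d⁻¹ * s) := by rw [← h1]; group
        _ = v * d * (d⁻¹ * s) := by rw [hHd v hv]
        _ = v * s := by group
  have hHZ : V ⊓ centralizer (R : Set G) = Z :=
    le_antisymm (fun v hv => h.cen v (h.VU hv.1) (hHS hv)) h.Z_le_H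
  have hSZ : V ⊓ centralizer (S : Set G) = Z := by
    apply le_antisymm
    · rintro v ⟨hv, hv2⟩
      exact h.cen v (h.VU hv) hv2
    · rw [← hHZ]
      exact le_inf inf_le_left hHS
  rw [hHZ] at hVH hVd hDU hHd
  -- `4 ≤ |Z|`
  have hcard1 : 4 ≤ Nat.card Z := by
    rw [← hVH, ← relIndex_bot_left (H := Z)]
    refine relIndex_le_of_inj (fun v => d * v * d⁻¹ * v) (fun v hv => hDU d hd v (h.VU hv)) ?_
    intro v hv w hw h1
    rw [mem_bot] at h1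
    have hvU := h.VU hv
    have hwU := h.VU hw
    have h2 : d * v * d⁻¹ * v = d * w * d⁻¹ * w := (inv_mul_eq_one.1 h1)
    refine hVd _ (mul_mem (inv_mem hv) hw) ?_
    have hdw : d * w * d⁻¹ ∈ U := conj_mem h.PU (h.SP hdS) hwU
    have hdv : d * v * d⁻¹ ∈ U := conj_mem h.PU (h.SP hdS) hvU
    have h3 : d * (v⁻¹ * w) * d⁻¹ = v⁻¹ * w := by
      have e1 : v⁻¹ = v := inv_U h hvU
      have e2 : w⁻¹ = w := inv_U h hwU
      have e3 : (d * v * d⁻¹)⁻¹ = d * v * d⁻¹ := inv_U h hdv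
      have h4 : d * w * d⁻¹ = d * v * d⁻¹ * v * w := by
        calc d * w * d⁻¹ = d * w * d⁻¹ * w * w⁻¹ := by group
          _ = d * v * d⁻¹ * v * w := by rw [← h2, e2]
      calc d * (v⁻¹ * w) * d⁻¹ = (d * v * d⁻¹)⁻¹ * (d * w * d⁻¹) := by group
        _ = (d * v * d⁻¹)⁻¹ * (d * v * d⁻¹ * v * w) := by rw [h4]
        _ = v * w := by group
        _ = v⁻¹ * w := by rw [e1]
    exact mul_inv_eq_iff_eq_mul.1 h3
  -- `Z ∩ Z^x = 1`
  have hgen : P ≤ S ⊔ cj x S := T.gen hmax hMl hlM hx hxM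
  have hZx : Z ⊓ cj x Z = ⊥ := by
    rw [eq_bot_iff]
    rintro v ⟨hv, hv2⟩
    have hvV := h.ZV hv
    refine mem_bot.2 (h.free v hvV ?_)
    have h1 : Z ≤ centralizer (S : Set G) := by rw [← hSZ]; exact inf_le_right
    have h2 : P ≤ centralizer ({v} : Set G) := by
      refine hgen.trans (sup_le ?_ ?_)
      · intro s hs
        exact mem_centralizer_singleton_iff.2 (mem_centralizer_iff.1 (h1 hv) s hs)
      · intro s hs
        have h3 : cj x Z ≤ centralizer ((cj x S : Subgroup G) : Set G) := cj_cent h1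
        exact mem_centralizer_singleton_iff.2 (mem_centralizer_iff.1 (h3 hv2) s hs)
    exact mem_centralizer_iff.2 fun e he => mem_centralizer_singleton_iff.1 (h2 (h.EP he))
  have hcard2 : Nat.card Z ≤ 4 := by
    have hxZV : cj x Z ≤ V := cj_le_of h.PV hx h.ZV
    have h1 : (cj x Z).relIndex Z = Nat.card Z := by
      rw [← inf_relIndex_right, inf_comm, hZx, relIndex_bot_left]
    have h2 : (cj x Z).relIndex V = 4 := by
      have h3 : (cj x Z).relIndex (cj x V) = Z.relIndex V :=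
        relIndex_map_map_of_injective _ _ (MulAut.conj x).injective
      rw [cj_eq_of h.PV hx] at h3
      rw [h3, hVH]
    rw [← h1, ← h2]
    exact relIndex_le_of_le_right h.ZV (rel_ne _ _)
  have hcardZ : Nat.card Z = 4 := le_antisymm hcard2 hcard1
  have hcardV : Nat.card V = 16 := by
    have h1 := relIndex_mul_relIndex ⊥ Z V bot_le h.ZV
    rw [relIndex_bot_left, relIndex_bot_left, hcardZ, hVH] at h1
    omega
  exact ⟨le_antisymm hUW h.WU, hcardV, hcardZ, hHZ, hSZ, hidx, ⟨x, hx, hgen, hZx⟩, hfixB, hratio⟩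

end

end Cfsg.Agent.Omega.NO3b.Loc.Main
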