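import Cfsg.Agent.Omega.NO3b.Loc.Orbit

/-!
# THEOREM LOC, part 6: `W = V V^g`, the group `A = C_S(V) ∩ C(U/V)` (#18263 (b))

`B ≰ Q₂` a minimal offender on `U`, `B₀ = B ∩ Q₂`, `H = C_V(R)`, `L = V^g`, `g ∈ P₂ - N(V)`.

* `Ag S V U` : `A`; `B_le` : `B ≤ A`; `M_norm_A`; `em` : `A` acts quadratically on `U`;
* `W_le_sup` : `W = V V^g`;
* `surj_of_inj` : a counting lemma; `exists_w` : `V = [m₀, L] H` for `m₀ ∈ A - Q₂`;
* `c_mul`, `c_line`, `c_congr`, `c_inj` : the commutators `[w, a] = a w a⁻¹ w`, `a ∈ A`, `w ∈ U`.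
-/

set_option autoImplicit false

namespace Cfsg.Agent.Omega.NO3b.Loc.Mod

open Subgroup Cfsg.Agent.ZN Cfsg.Agent.ZN.ChoiceBase Cfsg.Agent.Omega.NO3b.Ineq Cfsg.Agent.Omega.NO3b.Gen
open Cfsg.Agent.Omega.NO3b.CTwo Cfsg.Agent.Omega.NO3b.Loc.Base Cfsg.Agent.Omega.NO3b.Loc.Off
open Cfsg.Agent.Omega.NO3b.Loc.NotCent Cfsg.Agent.Omega.NO3b.Loc.Line Cfsg.Agent.Omega.NO3b.Loc.Orbit
open scoped commutatorElement

variable {G : Type*} [Group G]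

/-- A counting lemma: an injective map `A/H → B/K` with `|B : K| ≤ |A : H|` is surjective. -/
theorem surj_of_inj [Finite G] {A B H K : Subgroup G} (φ : G → G) (hφ : ∀ a ∈ A, φ a ∈ B)
    (hinj : ∀ a ∈ A, ∀ a' ∈ A, (φ a)⁻¹ * φ a' ∈ K → a⁻¹ * a' ∈ H) (hc : K.relIndex B ≤ H.relIndex A) :
    ∀ b ∈ B, ∃ a ∈ A, (φ a)⁻¹ * b ∈ K := by
  classical
  let F : (A ⧸ H.subgroupOf A) → (B ⧸ K.subgroupOf B) := fun q =>
    QuotientGroup.mk ⟨φ (q.out : A), hφ _ (q.out : A).2⟩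
  have hF : Function.Injective F := by
    intro q q' hqq
    have h1 := QuotientGroup.eq.1 hqq
    have h2 : (φ (q.out : A))⁻¹ * φ (q'.out : A) ∈ K := h1
    have h3 := hinj _ (q.out : A).2 _ (q'.out : A).2 h2
    have h4 : (QuotientGroup.mk (q.out : A) : A ⧸ H.subgroupOf A) = QuotientGroup.mk (q'.out : A) :=
      QuotientGroup.eq.2 h3
    rwa [QuotientGroup.out_eq', QuotientGroup.out_eq'] at h4
  have hb := hF.bijective_of_nat_card_le hc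
  intro b hb'
  obtain ⟨q, hq⟩ := hb.2 (QuotientGroup.mk ⟨b, hb'⟩)
  refine ⟨(q.out : A), (q.out : A).2, ?_⟩
  have h1 := QuotientGroup.eq.1 hq
  exact h1

/-- `C_S(V) ∩ C(U / V)` -/
def Ag (S V U : Subgroup G) : Subgroup G where
  carrier := {a | a ∈ S ∧ a ∈ centralizer (V : Set G) ∧ ∀ w ∈ U, a * w * a⁻¹ * w⁻¹ ∈ V}
  one_mem' := ⟨one_mem _, one_mem _, fun w _ => by
    have e : (1 : G) * w * 1⁻¹ * w⁻¹ = 1 := by group
    rw [e]; exact one_mem _⟩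
  mul_mem' := by
    rintro a b ⟨ha, ha2, ha3⟩ ⟨hb, hb2, hb3⟩
    refine ⟨mul_mem ha hb, mul_mem ha2 hb2, fun w hw => ?_⟩
    have h1 : a * (b * w * b⁻¹ * w⁻¹) * a⁻¹ = b * w * b⁻¹ * w⁻¹ := by
      rw [← mem_centralizer_iff.1 ha2 _ (hb3 w hw), mul_inv_cancel_right]
    have e : a * b * w * (a * b)⁻¹ * w⁻¹ = (a * (b * w * b⁻¹ * w⁻¹) * a⁻¹) * (a * w * a⁻¹ * w⁻¹) := by group
    rw [e, h1]
    exact mul_mem (hb3 w hw) (ha3 w hw)
  inv_mem' := by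
    rintro a ⟨ha, ha2, ha3⟩
    refine ⟨inv_mem ha, inv_mem ha2, fun w hw => ?_⟩
    have h1 := inv_mem (ha3 w hw)
    have h2 : a⁻¹ * (a * w * a⁻¹ * w⁻¹)⁻¹ * a = (a * w * a⁻¹ * w⁻¹)⁻¹ := by
      have h3 := mem_centralizer_iff.1 (inv_mem ha2) _ h1
      rw [← h3, inv_mul_cancel_right]
    have e : a⁻¹ * w * a⁻¹⁻¹ * w⁻¹ = a⁻¹ * (a * w * a⁻¹ * w⁻¹)⁻¹ * a := by group
    rw [e, h2]
    exact h1

section

variable {S M P P₂ Q₂ E R Z V W U : Subgroup G} (h : Hyp S M P P₂ Q₂ E R Z V W U)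
include h

theorem inv_U {w : G} (hw : w ∈ U) : w⁻¹ = w := inv_eq_of_mul_eq_one_left (h.sq w hw)

variable {B : Subgroup G}

omit h in
theorem Ag_le_S : Ag S V U ≤ S := fun _ ha => ha.1

omit h in
theorem Ag_le_cent : Ag S V U ≤ centralizer (V : Set G) := fun _ ha => ha.2.1

theorem Ag_mem {a w : G} (ha : a ∈ Ag S V U) (hw : w ∈ U) : a * w * a⁻¹ * w ∈ V := by
  have h1 := ha.2.2 w hw
  rwa [inv_U h hw] at h1

theorem M_norm_A : M ≤ normalizer ((Ag S V U : Subgroup G) : Set G) := by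
  refine norm_of_forall fun p hp a ha => ?_
  have h1 : p * a * p⁻¹ ∈ S ⊓ centralizer (V : Set G) := conj_mem h.MQ hp ⟨ha.1, ha.2.1⟩
  refine ⟨h1.1, h1.2, fun w hw => ?_⟩
  have h2 := conj_mem h.MV hp (ha.2.2 _ (conj_mem' h.MU hp hw))
  have e : p * (a * (p⁻¹ * w * p) * a⁻¹ * (p⁻¹ * w * p)⁻¹) * p⁻¹ = p * a * p⁻¹ * w * (p * a * p⁻¹)⁻¹ * w⁻¹ := by
    group
  rwa [e] at h2

theorem P_norm_A : P ≤ normalizer ((Ag S V U : Subgroup G) : Set G) := h.PM.trans (M_norm_A h)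

/-- `A` acts quadratically on `U`. -/
theorem em : EM U (Ag S V U) :=
  EM.of_act h.sq h.comm h.VU Ag_le_cent fun _ ha _ hw => Ag_mem h ha hw

/-- `[w, a]` is additive in `a ∈ A` -/
theorem c_mul {a b w : G} (ha : a ∈ Ag S V U) (hb : b ∈ Ag S V U) (hw : w ∈ U) :
    a * b * w * (a * b)⁻¹ * w = (a * w * a⁻¹ * w) * (b * w * b⁻¹ * w) := by
  have h1 := Ag_mem h hb hw
  have h2 := Ag_mem h ha hw
  have h3 : b * w * b⁻¹ = b * w * b⁻¹ * w * w := by rw [mul_assoc (b * w * b⁻¹), h.sq w hw, mul_one]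
  have h4 : a * (b * w * b⁻¹ * w) * a⁻¹ = b * w * b⁻¹ * w := by
    rw [← mem_centralizer_iff.1 (Ag_le_cent ha) _ h1, mul_inv_cancel_right]
  calc a * b * w * (a * b)⁻¹ * w = a * (b * w * b⁻¹) * a⁻¹ * w := by group
    _ = a * (b * w * b⁻¹ * w * w) * a⁻¹ * w := by rw [← h3]
    _ = (a * (b * w * b⁻¹ * w) * a⁻¹) * (a * w * a⁻¹ * w) := by group
    _ = (b * w * b⁻¹ * w) * (a * w * a⁻¹ * w) := by rw [h4]
    _ = _ := h.comm _ (h.VU h1) _ (h.VU h2)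

/-- `[v l, a] = [l, a]` -/
theorem c_line {a v l : G} (ha : a ∈ Ag S V U) (hv : v ∈ V) (hl : l ∈ U) :
    a * (v * l) * a⁻¹ * (v * l) = a * l * a⁻¹ * l := by
  have hvU := h.VU hv
  have h1 : a * v * a⁻¹ = v := by
    rw [← mem_centralizer_iff.1 (Ag_le_cent ha) v hv, mul_inv_cancel_right]
  have hal : a * l * a⁻¹ ∈ U := conj_mem h.P₂U (h.SP₂ (Ag_le_S ha)) hl
  calc a * (v * l) * a⁻¹ * (v * l) = (a * v * a⁻¹) * (a * l * a⁻¹) * (v * l) := by group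
    _ = v * (a * l * a⁻¹) * (v * l) := by rw [h1]
    _ = (a * l * a⁻¹ * v) * (v * l) := by rw [h.comm _ hal v hvU]
    _ = (a * l * a⁻¹) * (v * v) * l := by group
    _ = _ := by rw [h.sq v hvU, mul_one]

omit h in
theorem c_inj {a b : G} (hab : ∀ w ∈ U, a * w * a⁻¹ * w = b * w * b⁻¹ * w) :
    a⁻¹ * b ∈ centralizer (U : Set G) := by
  refine mem_centralizer_iff.2 fun w hw => ?_
  have h1 : a * w * a⁻¹ = b * w * b⁻¹ := mul_right_cancel (hab w hw)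
  have h2 : a⁻¹ * b * w * (a⁻¹ * b)⁻¹ = w := by
    calc a⁻¹ * b * w * (a⁻¹ * b)⁻¹ = a⁻¹ * (b * w * b⁻¹) * a := by group
      _ = a⁻¹ * (a * w * a⁻¹) * a := by rw [h1]
      _ = w := by group
  exact (mul_inv_eq_iff_eq_mul.1 h2).symm

omit h in
theorem c_congr {a b : G} (hab : a⁻¹ * b ∈ centralizer (U : Set G)) {w : G} (hw : w ∈ U) :
    b * w * b⁻¹ * w = a * w * a⁻¹ * w := by
  have h1 := mem_centralizer_iff.1 hab w hw
  have h2 : b * w * b⁻¹ = a * w * a⁻¹ := by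
    calc b * w * b⁻¹ = a * ((a⁻¹ * b) * w) * (a⁻¹ * b)⁻¹ * a⁻¹ := by group
      _ = a * (w * (a⁻¹ * b)) * (a⁻¹ * b)⁻¹ * a⁻¹ := by rw [h1]
      _ = _ := by group
  rw [h2]

/-- the conjugate of `B` which contains an element `t ∉ Q₂` with `[U, t] ≤ V` -/
theorem exists_t [Finite G] (hB : MO S U B) (hB2 : ¬ B ≤ Q₂) :
    ∃ x ∈ M, ∃ t ∈ cj x B, t ∉ Q₂ ∧ ∀ w ∈ U, t * w * t⁻¹ * w ∈ V := by
  obtain ⟨x, hx, β, hβ, hxβ⟩ := exists_x h hB hB2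
  obtain ⟨g, hg, hgV, hne⟩ := exists_line h hB hB2
  have hl := lin h hB hB2 hg hne
  have hxM := KS_le h hx
  refine ⟨x, hxM, x * β * x⁻¹, ?_, hxβ, fun w hw => ?_⟩
  · rw [mem_cj]
    have e : x⁻¹ * (x * β * x⁻¹) * x = β := by group
    rw [e]; exact hβ.1
  · have h1 := (comm_mem h hB hB2 hg hgV hl hβ (conj_mem' h.MU hxM hw)).1
    have h2 := conj_mem h.MV hxM h1
    have e : x * (β * (x⁻¹ * w * x) * β⁻¹ * (x⁻¹ * w * x)) * x⁻¹ = x * β * x⁻¹ * w * (x * β * x⁻¹)⁻¹ * w := by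
      group
    rwa [e] at h2

/-- `B ≤ A` -/
theorem B_le [Finite G] (hB : MO S U B) (hB2 : ¬ B ≤ Q₂) : B ≤ Ag S V U := by
  obtain ⟨x, hx, t, ht, ht2, htV⟩ := exists_t h hB hB2
  have hB' := MO_M h hB hx
  have hB2' : ¬ cj x B ≤ Q₂ := fun h1 => ht2 (h1 ht)
  obtain ⟨g, hg, hgV, hne⟩ := exists_line h hB' hB2'
  have hl := lin h hB' hB2' hg hne
  have hBV := MO_cent h hB'
  have hmem : ∀ a ∈ cj x B, (∀ w ∈ U, a * w * a⁻¹ * w ∈ V) → a ∈ Ag S V U := fun a ha haV =>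
    ⟨hB'.le ha, hBV ha, fun w hw => by rw [inv_U h hw]; exact haV w hw⟩
  have hQ : ∀ a ∈ cj x B ⊓ Q₂, a ∈ Ag S V U := fun a ha =>
    hmem a ha.1 fun w hw => (comm_mem h hB' hB2' hg hgV hl ha hw).1
  have htA := hmem t ht htV
  have h1 : cj x B ≤ Ag S V U := by
    intro b hb
    by_cases hb2 : b ∈ Q₂
    · exact hQ b ⟨hb, hb2⟩
    · have h8 : t⁻¹ * b ∈ cj x B ⊓ Q₂ := by
        refine mem_inf.2 ⟨mul_mem (inv_mem ht) hb, ?_⟩
        rw [h.mul_mem_iff (inv_mem (hB'.le ht)) (hB'.le hb), inv_mem_iff]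
        exact ⟨fun h9 => absurd h9 ht2, fun h9 => absurd h9 hb2⟩
      have h9 := mul_mem htA (hQ _ h8)
      rwa [mul_inv_cancel_left] at h9
  have h2 := cj_mono x⁻¹ h1
  rwa [cj_inv_cj, cj_eq_of (M_norm_A h) (inv_mem hx)] at h2

/-- `W = V V^g` -/
theorem W_le_sup [Finite G] (hB : MO S U B) (hB2 : ¬ B ≤ Q₂) {g : G} (hg : g ∈ P₂)
    (hgV : g ∉ normalizer (V : Set G)) : W ≤ V ⊔ cj g V := by
  obtain ⟨t, htB, ht2⟩ := SetLike.not_le_iff_exists.1 hB2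
  have htA := B_le h hB hB2 htB
  have ht := Ag_le_S htA
  have htV : ∀ w ∈ U, t * w * t⁻¹ * w ∈ V := fun w hw => Ag_mem h htA hw
  have hKU : V ⊔ cj g V ≤ U := sup_le h.VU (h.line_le_U hg)
  -- an element which acts trivially on `U / V` or `U / V^g` normalises `V V^g`
  have key : ∀ s : G, (∀ w ∈ U, s * w * s⁻¹ * w ∈ V ⊔ cj g V) →
      s ∈ normalizer ((V ⊔ cj g V : Subgroup G) : Set G) := by
    intro s hs
    have h1 : ∀ w ∈ V ⊔ cj g V, s * w * s⁻¹ ∈ V ⊔ cj g V := by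
      intro w hw
      have h2 := mul_mem (hs w (hKU hw)) hw
      rwa [mul_assoc, h.sq w (hKU hw), mul_one] at h2
    refine Cfsg.Agent.MinSimple.VModule.mem_normalizer_of_map_le ?_
    rintro _ ⟨w, hw, rfl⟩
    exact h1 w hw
  have hQ₂K : Q₂ ≤ normalizer ((V ⊔ cj g V : Subgroup G) : Set G) := by
    refine norm_of_forall fun q hq x hx => ?_
    have h1 : V ⊔ cj g V ≤ (V ⊔ cj g V).comap (MulAut.conj q).toMonoidHom := by
      refine sup_le (fun v hv => ?_) (fun v hv => ?_)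
      · exact mem_sup_left (conj_mem h.SV (h.QS hq) hv)
      · exact mem_sup_right (conj_mem (h.Q₂_norm hg) hq hv)
    exact h1 hx
  have h1 : S ≤ normalizer ((V ⊔ cj g V : Subgroup G) : Set G) :=
    (h.S_le ht ht2).trans (sup_le ((zpowers_le).2 (key t fun w hw => mem_sup_left (htV w hw))) hQ₂K)
  have h2 : cj g S ≤ normalizer ((V ⊔ cj g V : Subgroup G) : Set G) := by
    have h3 := cj_mono g (h.S_le ht ht2)
    refine h3.trans ?_
    rw [cj, Subgroup.map_sup]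
    refine sup_le ?_ ?_
    · rw [MonoidHom.map_zpowers, zpowers_le]
      refine key _ fun w hw => mem_sup_right ?_
      rw [mem_cj]
      have h4 := htV _ (conj_mem' h.P₂U hg hw)
      have e : g⁻¹ * ((MulAut.conj g).toMonoidHom t * w * ((MulAut.conj g).toMonoidHom t)⁻¹ * w) * g =
          t * (g⁻¹ * w * g) * t⁻¹ * (g⁻¹ * w * g) := by
        change g⁻¹ * (g * t * g⁻¹ * w * (g * t * g⁻¹)⁻¹ * w) * g = _
        group
      rwa [e]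
    · exact (cj_eq_of h.PQ₂ hg).le.trans hQ₂K
  exact h.W_gen _ le_sup_left ((h.gen g hg hgV).trans (sup_le h1 h2))

theorem exists_mul [Finite G] (hB : MO S U B) (hB2 : ¬ B ≤ Q₂) {g : G} (hg : g ∈ P₂)
    (hgV : g ∉ normalizer (V : Set G)) {w : G} (hw : w ∈ W) : ∃ v ∈ V, ∃ l ∈ cj g V, v * l = w := by
  refine mem_sup_of_le_norm ?_ (W_le_sup h hB hB2 hg hgV hw)
  refine norm_of_forall fun a ha x hx => ?_
  rw [h.comm a (h.VU ha) x (h.line_le_U hg hx), mul_inv_cancel_right]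
  exact hx

/-- `V = [m₀, V^g] H` for `m₀ ∈ A - Q₂`. -/
theorem exists_w [Finite G] (hB : MO S U B) (hB2 : ¬ B ≤ Q₂) {g : G} (hg : g ∈ P₂)
    (hgV : g ∉ normalizer (V : Set G)) {m : G} (hm : m ∈ Ag S V U) (hm2 : m ∉ Q₂) :
    (∀ w ∈ cj g V, m * w * m⁻¹ * w ∈ V ⊓ centralizer (R : Set G) → w ∈ V ⊓ centralizer (R : Set G)) ∧
    ∀ v ∈ V, ∃ w ∈ cj g V, (m * w * m⁻¹ * w)⁻¹ * v ∈ V ⊓ centralizer (R : Set G) := by
  have hLU := h.line_le_U hg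
  have hQ := not_le_of h hB.le (MO_cent h hB) hB2
  have hmS := Ag_le_S hm
  have hmP := h.SP₂ hmS
  have h1 : ∀ w ∈ cj g V, m * w * m⁻¹ * w ∈ V ⊓ centralizer (R : Set G) → w ∈ V ⊓ centralizer (R : Set G) := by
    intro w hw hw2
    -- `m w m⁻¹ ∈ V^g ∩ V^{mg}`
    have h2 : m * w * m⁻¹ ∈ cj g V := by
      have h3 := mul_mem (h.H_le hg hw2) hw
      rwa [mul_assoc, h.sq w (hLU hw), mul_one] at h3
    have h3 : m * w * m⁻¹ ∈ cj (m * g) V := by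
      rw [← cj_cj, mem_cj]
      have e : m⁻¹ * (m * w * m⁻¹) * m = w := by group
      rw [e]; exact hw
    have h4 : g⁻¹ * (m * g) ∉ normalizer (V : Set G) := by
      intro h8
      apply h.not_norm hmS hm2 hg hgV
      rw [← cj_normalizer, mem_cj]
      have e : g⁻¹ * m * g = g⁻¹ * (m * g) := by group
      rwa [e]
    have h5 := mem_H h hQ hg (mul_mem hmP hg) h4 h2 h3
    have h6 := conj_mem' h.P₂_norm_H hmP h5
    have e : m⁻¹ * (m * w * m⁻¹) * m = w := by group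
    rwa [e] at h6
  refine ⟨h1, ?_⟩
  refine surj_of_inj (A := cj g V) (B := V) (H := V ⊓ centralizer (R : Set G))
    (K := V ⊓ centralizer (R : Set G)) (fun w => m * w * m⁻¹ * w) (fun w hw => Ag_mem h hm (hLU hw)) ?_
    (relIndex_H h hg).ge
  intro w hw w' hw' h2
  refine h1 _ (mul_mem (inv_mem hw) hw') ?_
  have hwU := hLU hw
  have hwU' := hLU hw'
  have hmw : m * w * m⁻¹ ∈ U := conj_mem h.P₂U hmP hwU
  have e1 : w⁻¹ = w := inv_U h hwU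
  have e2 : (m * w * m⁻¹ * w)⁻¹ = m * w * m⁻¹ * w := inv_U h (mul_mem hmw hwU)
  have hmw' : m * w' * m⁻¹ ∈ U := conj_mem h.P₂U hmP hwU'
  have e3 : m * (w⁻¹ * w') * m⁻¹ * (w⁻¹ * w') = (m * w * m⁻¹ * w)⁻¹ * (m * w' * m⁻¹ * w') := by
    rw [e2, e1]
    calc m * (w * w') * m⁻¹ * (w * w') = (m * w * m⁻¹) * (m * w' * m⁻¹ * w) * w' := by group
      _ = (m * w * m⁻¹) * (w * (m * w' * m⁻¹)) * w' := by rw [h.comm _ hmw' w hwU]
      _ = _ := by group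
  rw [e3]
  exact h2

end

end Cfsg.Agent.Omega.NO3b.Loc.Mod
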