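import Cfsg.Agent.Omega.NO3b.Loc.Off
import Cfsg.Agent.Lib.CoprimeAbelian

/-!
# THEOREM LOC (helper768, #15138 (C)), part 3: `B ∩ Q₂` does not centralise `W`

Otherwise `|V : H| = 2` (`H = C_V(R)`), `O = [Q₂, R]` centralises `H`, so `W` (`V` is not FF), `Q₂` centralises
`[W, R]` and `C_{[W, R]}(S) ≤ Z ≤ C(R)`, against coprime action.
-/

set_option autoImplicit false

namespace Cfsg.Agent.Omega.NO3b.Loc.NotCent

open Subgroup Cfsg.Agent.ZN Cfsg.Agent.ZN.ChoiceBase Cfsg.Agent.Omega.NO3b.Ineq Cfsg.Agent.Omega.NO3b.Gen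
open Cfsg.Agent.Omega.NO3b.CTwo Cfsg.Agent.Omega.NO3b.Loc.Base Cfsg.Agent.Omega.NO3b.Loc.Off
open scoped commutatorElement

variable {G : Type*} [Group G]

theorem norm_commutator {A B C : Subgroup G} (h1 : A ≤ normalizer (B : Set G)) (h2 : A ≤ normalizer (C : Set G)) :
    A ≤ normalizer ((⁅B, C⁆ : Subgroup G) : Set G) := Sit.norm_commutator h1 h2

section

variable {S M P P₂ Q₂ E R Z V W U : Subgroup G} (h : Hyp S M P P₂ Q₂ E R Z V W U)
include h

theorem not_le_cent [Finite G] {B : Subgroup G} (hB : MO S U B) (hB2 : ¬ B ≤ Q₂) :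
    ¬ B ⊓ Q₂ ≤ centralizer (W : Set G) := by
  intro hc
  have hBV := MO_cent h hB
  have hHn : P₂ ≤ normalizer ((V ⊓ centralizer (R : Set G) : Subgroup G) : Set G) := h.P₂_norm_H
  obtain ⟨g, hg, hgV⟩ := h.exists_g
  have hSP := h.SP₂
  -- `|V : H| = 2`
  have h1 : cidx B W ≤ 2 := by
    have h2 : (B ⊓ Q₂).relIndex B = 2 := by rw [inf_relIndex_left]; exact relIndex_two h hB.le hB2
    rw [← h2]
    exact relIndex_le_of_le_left hc (by rw [h2]; norm_num)
  have h2 : cidx W B ≤ 2 := (hB.best h.WU).trans h1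
  have h3 : (V ⊓ centralizer (R : Set G)).relIndex V ≤ 2 := by
    rw [← relIndex_H h hg]
    calc (V ⊓ centralizer (R : Set G)).relIndex (cj g V)
        ≤ (cj g V ⊓ centralizer (B : Set G)).relIndex (cj g V) :=
          relIndex_le_of_le_left (fun x hx => mem_H_of_cent h hB.le hBV hB2 hg hgV hx.1 hx.2) (rel_ne _ _)
      _ = cidx (cj g V) B := cidx_inf _ _
      _ ≤ cidx W B := cidx_mono_left (h.line_le hg) B
      _ ≤ 2 := h2
  have h4 : (V ⊓ centralizer (R : Set G)).relIndex V = 2 := by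
    have h5 : (V ⊓ centralizer (R : Set G)).relIndex V ≠ 1 := fun h6 =>
      not_cent h ((relIndex_eq_one.1 h6).trans inf_le_right)
    have h6 : (V ⊓ centralizer (R : Set G)).relIndex V ≠ 0 := rel_ne _ _
    omega
  have hmul : ∀ a ∈ V, ∀ b ∈ V, (a * b ∈ V ⊓ centralizer (R : Set G) ↔
      (a ∈ V ⊓ centralizer (R : Set G) ↔ b ∈ V ⊓ centralizer (R : Set G))) := by
    intro a ha b hb
    have h5 : ((V ⊓ centralizer (R : Set G)).subgroupOf V).index = 2 := h4
    exact Subgroup.mul_mem_iff_of_index_two h5 (a := ⟨a, ha⟩) (b := ⟨b, hb⟩)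
  set H : Subgroup G := V ⊓ centralizer (R : Set G) with hH
  have hHV : H ≤ V := inf_le_left
  -- `[V, S] ≤ H`
  have h5 : ∀ s ∈ S, ∀ v ∈ V, s * v * s⁻¹ * v ∈ H := by
    intro s hs v hv
    rw [hmul _ (conj_mem h.SV hs hv) v hv]
    exact ⟨fun h6 => by
      have h7 := conj_mem' (hSP.trans hHn) hs h6
      have e : s⁻¹ * (s * v * s⁻¹) * s = v := by group
      rwa [e] at h7, fun h6 => conj_mem (hSP.trans hHn) hs h6⟩
  -- `[W, Q₂] ≤ H`
  have h6 : ∀ q ∈ Q₂, ∀ w ∈ W, q * w * q⁻¹ * w ∈ H := by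
    let K : Subgroup G :=
      { carrier := {w | w ∈ W ∧ ∀ q ∈ Q₂, q * w * q⁻¹ * w ∈ H}
        one_mem' := ⟨one_mem _, fun q _ => by
          have e : q * 1 * q⁻¹ * 1 = 1 := by group
          rw [e]; exact one_mem _⟩
        mul_mem' := by
          rintro u w ⟨hu, hu2⟩ ⟨hw, hw2⟩
          refine ⟨mul_mem hu hw, fun q hq => ?_⟩
          have hq' : q ∈ normalizer (W : Set G) := h.P₂W (hSP (h.QS hq))
          have hqw : q * w * q⁻¹ ∈ W := (mem_normalizer_iff.1 hq' w).1 hw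
          have e : q * (u * w) * q⁻¹ * (u * w) = (q * u * q⁻¹ * u) * (q * w * q⁻¹ * w) := by
            have e1 : q * w * q⁻¹ * u = u * (q * w * q⁻¹) := h.comm _ (h.WU hqw) _ (h.WU hu)
            calc q * (u * w) * q⁻¹ * (u * w) = q * u * q⁻¹ * (q * w * q⁻¹ * u) * w := by group
              _ = q * u * q⁻¹ * (u * (q * w * q⁻¹)) * w := by rw [e1]
              _ = _ := by group
          rw [e]
          exact mul_mem (hu2 q hq) (hw2 q hq)
        inv_mem' := by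
          rintro w ⟨hw, hw2⟩
          refine ⟨inv_mem hw, fun q hq => ?_⟩
          have e : w⁻¹ = w := inv_eq_of_mul_eq_one_left (h.sq _ (h.WU hw))
          rw [e]
          exact hw2 q hq }
    have hK : W ≤ K := by
      refine h.W_gen K (fun v hv => ⟨h.VW hv, fun q hq => h5 q (h.QS hq) v hv⟩) ?_
      refine norm_of_forall fun x hx w hw => ⟨conj_mem h.P₂W hx hw.1, fun q hq => ?_⟩
      have h7 := hw.2 _ (conj_mem' h.PQ₂ hx hq)
      have h8 := conj_mem hHn hx h7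
      have e : x * (x⁻¹ * q * x * w * (x⁻¹ * q * x)⁻¹ * w) * x⁻¹ =
          q * (x * w * x⁻¹) * q⁻¹ * (x * w * x⁻¹) := by group
      rwa [e] at h8
    exact fun q hq w hw => (hK hw).2 q hq
  -- `O = [Q₂, R]`
  set O : Subgroup G := ⁅Q₂, R⁆ with hO
  have hOQ : O ≤ Q₂ := Sit.commutator_le_of_norm (h.R_le.trans h.PQ₂)
  have hOS : O ≤ S := hOQ.trans h.QS
  have hOn : P₂ ≤ normalizer (O : Set G) := norm_commutator h.PQ₂ h.PR
  have hRH : ∀ r ∈ R, ∀ x ∈ H, r * x = x * r := fun r hr x hx => mem_centralizer_iff.1 hx.2 r hr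
  have hOH : O ≤ centralizer (H : Set G) := by
    rw [hO, commutator_le]
    intro q hq r hr
    rw [mem_centralizer_iff]
    intro x hx
    have h7 : q⁻¹ * x * q ∈ H := conj_mem' (h.QS.trans (hSP.trans hHn)) hq hx
    have e1 : r⁻¹ * x * r = x := by
      rw [mul_assoc, ← hRH r hr x hx]; group
    have e2 : r * (q⁻¹ * x * q) * r⁻¹ = q⁻¹ * x * q := by
      rw [hRH r hr _ h7]; group
    have e3 : q * r * q⁻¹ * r⁻¹ * x * (q * r * q⁻¹ * r⁻¹)⁻¹ = x := by
      calc q * r * q⁻¹ * r⁻¹ * x * (q * r * q⁻¹ * r⁻¹)⁻¹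
          = q * (r * (q⁻¹ * (r⁻¹ * x * r) * q) * r⁻¹) * q⁻¹ := by group
        _ = q * (q⁻¹ * x * q) * q⁻¹ := by rw [e1, e2]
        _ = x := by group
    rw [commutatorElement_def]
    exact (mul_inv_eq_iff_eq_mul.1 e3).symm
  have hOV : O ≤ centralizer (V : Set G) := by
    by_contra hcon
    have hVc : ∀ v ∈ V, ∀ w ∈ V, v * w = w * v := fun v hv w hw => h.comm v (h.VU hv) w (h.VU hw)
    have hVs : ∀ v ∈ V, v * v = 1 := fun v hv => h.sq v (h.VU hv)
    have hEM : EM V O := EM.of_act hVs hVc hHV hOH fun o ho v hv => h5 o (hOS ho) v hv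
    have h7 := h.nf O hOS hEM hcon
    have h8 : cidx V O ≤ 2 := by
      rw [← h4]
      exact relIndex_le_of_le_left (cent_symm hOH) (rel_ne _ _)
    have h9 : cidx O V ≠ 1 := fun h10 => hcon (cidx_eq_one_iff.1 h10)
    have h10 := cidx_pos O V
    omega
  -- `O` centralises `W`
  have hOW : W ≤ centralizer (O : Set G) := by
    have h7 : W ≤ W ⊓ centralizer (O : Set G) :=
      h.W_gen _ (le_inf h.VW (cent_symm hOV)) (Sit.norm_inf_cent h.P₂W hOn)
    exact h7.trans inf_le_right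
  -- `Q₂` centralises `[W, R]`
  have hX : (⁅⁅W, R⁆, Q₂⁆ : Subgroup G) = ⊥ := by
    refine commutator_commutator_eq_bot_of_rotate ?_ ?_
    · rw [commutator_comm R Q₂, commutator_eq_bot_iff_le_centralizer]
      exact cent_symm hOW
    · rw [eq_bot_iff]
      have h7 : (⁅Q₂, W⁆ : Subgroup G) ≤ H := by
        rw [commutator_le]
        intro q hq w hw
        have e : w⁻¹ = w := inv_eq_of_mul_eq_one_left (h.sq _ (h.WU hw))
        rw [commutatorElement_def, e]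
        exact h6 q hq w hw
      refine (commutator_mono h7 le_rfl).trans ?_
      rw [le_bot_iff, commutator_eq_bot_iff_le_centralizer]
      exact inf_le_right
  have hXc : (⁅W, R⁆ : Subgroup G) ≤ centralizer (Q₂ : Set G) := commutator_eq_bot_iff_le_centralizer.1 hX
  have hXW : (⁅W, R⁆ : Subgroup G) ≤ W := Sit.commutator_le_of_norm (h.R_le.trans h.P₂W)
  have hXn : P₂ ≤ normalizer ((⁅W, R⁆ : Subgroup G) : Set G) := norm_commutator h.P₂W h.PR
  obtain ⟨ρ, hρ, hodd, hRρ⟩ := h.cyc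
  have hρn : zpowers ρ ≤ P₂ := (zpowers_le).2 (h.R_le hρ)
  -- `[W, R, R] = 1`
  have hX1 : (⁅⁅W, R⁆, R⁆ : Subgroup G) = ⊥ := by
    by_contra hne
    have hn1 : P₂ ≤ normalizer ((⁅⁅W, R⁆, R⁆ : Subgroup G) : Set G) := norm_commutator hXn h.PR
    have hle : (⁅⁅W, R⁆, R⁆ : Subgroup G) ≤ ⁅W, R⁆ := Sit.commutator_le_of_norm (h.R_le.trans hXn)
    have : Fact (Nat.Prime 2) := ⟨Nat.prime_two⟩
    have h7 := Cfsg.Agent.PLocal.OffenderStep.inf_centralizer_ne_bot (p := 2) (⁅⁅W, R⁆, R⁆ : Subgroup G) S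
      (h.isPU.to_le ((hle.trans hXW).trans h.WU)) h.two (hSP.trans hn1) hne
    apply h7
    rw [eq_bot_iff]
    rintro c ⟨hc1, hc2⟩
    have hcU : c ∈ U := h.WU (hXW (hle hc1))
    have hcZ : c ∈ Z := h.cen c hcU hc2
    have hcR : ∀ r ∈ R, r * c = c * r := fun r hr => (mem_centralizer_iff.1 (h.PZ (h.R_le hr)) c hcZ).symm
    -- `[W, R, R] ≤ [[W, R], ⟨ρ⟩]`
    have h8 : (⁅⁅W, R⁆, R⁆ : Subgroup G) ≤ ⁅⁅W, R⁆, zpowers ρ⁆ := by
      rw [commutator_le]
      intro x hx r hr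
      obtain ⟨a, ha, q, hq, rfl⟩ := mem_sup_of_le_norm (hρn.trans h.PQ₂) (hRρ hr)
      have e1 : q * x⁻¹ * q⁻¹ = x⁻¹ := by
        rw [mem_centralizer_iff.1 (hXc (inv_mem hx)) q hq, mul_inv_cancel_right]
      have e2 : ⁅x, a * q⁆ = ⁅x, a⁆ := by
        rw [commutatorElement_def, commutatorElement_def]
        calc x * (a * q) * x⁻¹ * (a * q)⁻¹ = x * a * (q * x⁻¹ * q⁻¹) * a⁻¹ := by group
          _ = _ := by rw [e1]
      rw [e2]
      exact commutator_mem_commutator hx ha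
    have hab : ∀ x ∈ (⁅W, R⁆ : Subgroup G), ∀ y ∈ (⁅W, R⁆ : Subgroup G), x * y = y * x := fun x hx y hy =>
      h.comm x (h.WU (hXW hx)) y (h.WU (hXW hy))
    have hcop : (Nat.card (zpowers ρ)).Coprime (Nat.card (⁅W, R⁆ : Subgroup G)) := by
      have h9 : IsPGroup 2 (⁅W, R⁆ : Subgroup G) := h.isPU.to_le (hXW.trans h.WU)
      obtain ⟨n, hn⟩ := IsPGroup.iff_card.1 h9
      rw [hn, Nat.card_zpowers]
      exact Nat.Coprime.pow_right n (Nat.coprime_two_right.2 hodd)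
    have h9 := Cfsg.Agent.Lib.CoprimeAbelian.inf_commutator_eq_bot (zpowers ρ) (⁅W, R⁆ : Subgroup G) hab
      (hρn.trans hXn) hcop
    rw [← h9]
    refine ⟨⟨hle hc1, mem_centralizer_iff.2 fun y hy => ?_⟩, h8 hc1⟩
    exact hcR y ((zpowers_le).2 hρ hy)
  -- `R` centralises `W`
  have hRW : R ≤ centralizer (W : Set G) := by
    have h7 : (⁅W, R⁆ : Subgroup G) ≤ centralizer (R : Set G) := commutator_eq_bot_iff_le_centralizer.1 hX1
    refine h.R_odd.trans ((closure_le _).2 ?_)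
    rintro x ⟨hx, ho⟩
    refine mem_centralizer_iff.2 fun w hw => ?_
    have h8 : ⁅w, x⁆ ∈ (⁅W, R⁆ : Subgroup G) := commutator_mem_commutator hw hx
    refine Cfsg.Agent.Lib.CoprimeStab.commute_of_commutator_commute (H := W) ?_ (hXW h8) ?_
    · have h9 : IsPGroup 2 W := h.isPU.to_le h.WU
      obtain ⟨n, hn⟩ := IsPGroup.iff_card.1 h9
      rw [hn]
      exact Nat.Coprime.pow_right n (Nat.coprime_two_right.2 ho)
    · exact (mem_centralizer_iff.1 (h7 h8) x hx).symm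
  exact not_cent h (h.VW.trans (cent_symm hRW))

end

end Cfsg.Agent.Omega.NO3b.Loc.NotCent
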