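import Cfsg.Agent.Omega.NO3b.Loc.Base
import Cfsg.Agent.PLocal.OffenderStep

/-!
# THEOREM LOC (helper768, #15138 (C)), part 2: minimal offenders and the lines of `P₂`

* `MO.cent` : `B ≤ C(V)`; `exists_MO` : a minimal offender `B ≰ Q₂`;
* `gen1`, `gen2` : `R ≤ ⟨B, Q₁^g⟩`, `R ≤ ⟨Q₁^g, Q₁^h⟩`, `Q₁ = C_S(V)`;
* `mem_H` : two different lines of `P₂` meet in `H = C_V(R)`;
* `not_le_cent` : `B ∩ Q₂` does not centralise `W`.
-/

set_option autoImplicit false

namespace Cfsg.Agent.Omega.NO3b.Loc.Off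

open Subgroup Cfsg.Agent.ZN Cfsg.Agent.ZN.ChoiceBase Cfsg.Agent.Omega.NO3b.Ineq Cfsg.Agent.Omega.NO3b.Gen
open Cfsg.Agent.Omega.NO3b.CTwo Cfsg.Agent.Omega.NO3b.Loc.Base
open scoped commutatorElement

variable {G : Type*} [Group G]

theorem norm_sSup {A : Subgroup G} {s : Set (Subgroup G)} (h : ∀ a ∈ A, ∀ B ∈ s, cj a B ∈ s) :
    A ≤ normalizer ((sSup s : Subgroup G) : Set G) := by
  refine norm_of_forall fun a ha x hx => ?_
  have h1 : sSup s ≤ (sSup s).comap (MulAut.conj a).toMonoidHom := by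
    refine sSup_le fun B hB y hy => ?_
    have h2 : cj a B ≤ sSup s := le_sSup (h a ha B hB)
    exact h2 ⟨y, hy, rfl⟩
  exact h1 hx

section

variable {S M P P₂ Q₂ E R Z V W U : Subgroup G} (h : Hyp S M P P₂ Q₂ E R Z V W U)
include h

theorem MO_cent [Finite G] {B : Subgroup G} (hB : MO S U B) : B ≤ centralizer (V : Set G) := by
  by_contra hc
  have h1 := h.nf B hB.le (hB.off.toEM.mono h.VU le_rfl) hc
  exact absurd (hB.best h.VU) (not_le.2 h1)

theorem MO_M [Finite G] {B : Subgroup G} (hB : MO S U B) {x : G} (hx : x ∈ M) : MO S U (cj x B) := by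
  refine hB.cj (h.MU hx) ?_
  have h1 : B ≤ S ⊓ centralizer (V : Set G) := le_inf hB.le (MO_cent h hB)
  exact (cj_le_of h.MQ hx h1).trans inf_le_left

theorem MO_P [Finite G] {B : Subgroup G} (hB : MO S U B) {x : G} (hx : x ∈ P) : MO S U (cj x B) :=
  MO_M h hB (h.PM hx)

theorem exists_MO [Finite G] (hff : ∃ A, A ≤ S ∧ Off U A) : ∃ B, MO S U B ∧ ¬ B ≤ Q₂ := by
  classical
  obtain ⟨B, hB⟩ : ∃ B, MO S U B := by
    let s : Set (Subgroup G) := {A | A ≤ S ∧ Off U A}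
    obtain ⟨B, hB, hmin⟩ := Set.exists_min_image s (fun A => Nat.card A) (Set.toFinite s) hff
    exact ⟨B, hB.1, hB.2, fun A hA hO => hmin A ⟨hA, hO⟩⟩
  by_contra hcon
  push Not at hcon
  set N : Subgroup G := sSup {A | MO S U A} with hN
  have hP₂ : P₂ ≤ normalizer (N : Set G) := norm_sSup fun a ha A hA =>
    MO.cj hA (h.P₂U ha) ((cj_le_of h.PQ₂ ha (hcon A hA)).trans h.QS)
  have hM : M ≤ normalizer (N : Set G) := norm_sSup fun a ha A hA => MO_M h hA ha
  have hMV : N ≤ centralizer (V : Set G) := sSup_le fun A hA => MO_cent h hA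
  have hUM : U ≤ U ⊓ centralizer (N : Set G) :=
    h.U_gen _ (le_inf (h.ZV.trans h.VU) (h.ZV.trans (cent_symm hMV))) (Sit.norm_inf_cent h.MU hM)
      (Sit.norm_inf_cent h.P₂U hP₂)
  apply hB.off.ne
  have h1 : B ≤ N := le_sSup hB
  exact h1.trans (cent_symm (hUM.trans inf_le_right))

theorem not_le_of {B : Subgroup G} (hB : B ≤ S) (hBV : B ≤ centralizer (V : Set G)) (hB2 : ¬ B ≤ Q₂) :
    ¬ S ⊓ centralizer (V : Set G) ≤ Q₂ := fun h1 => hB2 ((le_inf hB hBV).trans h1)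

theorem gen1 [Finite G] {B : Subgroup G} (hB : B ≤ S) (hBV : B ≤ centralizer (V : Set G)) (hB2 : ¬ B ≤ Q₂) {g : G}
    (hg : g ∈ P₂) (hgV : g ∉ normalizer (V : Set G)) : R ≤ B ⊔ cj g (S ⊓ centralizer (V : Set G)) := by
  have hSQ₂ : S ≤ normalizer (Q₂ : Set G) := h.SP₂.trans h.PQ₂
  have hQ1 : S ≤ (S ⊓ centralizer (V : Set G)) ⊔ Q₂ := h.S_le_sup inf_le_left (not_le_of h hB hBV hB2)
  refine le_sup_of_le (h.two.to_le hB) h.isPQ₂ (hB.trans hSQ₂) ?_ ?_ h.R_odd ?_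
  · have h1 := cj_norm (g := g) ((inf_le_left : S ⊓ centralizer (V : Set G) ≤ S).trans hSQ₂)
    rwa [cj_eq_of h.PQ₂ hg] at h1
  · have h1 := cj_norm (g := g) (h.QS.trans (h.SP.trans h.PQ))
    rwa [cj_eq_of h.PQ₂ hg] at h1
  · refine h.R_le.trans ((h.gen g hg hgV).trans (sup_le ?_ ?_))
    · exact (h.S_le_sup hB hB2).trans (sup_le (le_sup_left.trans le_sup_left) le_sup_right)
    · have h1 := cj_mono g hQ1
      rw [cj, cj, Subgroup.map_sup] at h1
      have h2 : Subgroup.map (MulAut.conj g).toMonoidHom Q₂ = Q₂ := cj_eq_of h.PQ₂ hg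
      rw [h2] at h1
      exact h1.trans (sup_le (le_sup_right.trans le_sup_left) le_sup_right)

theorem gen2 [Finite G] (hQ : ¬ S ⊓ centralizer (V : Set G) ≤ Q₂) {g k : G} (hg : g ∈ P₂) (hk : k ∈ P₂)
    (hgk : g⁻¹ * k ∉ normalizer (V : Set G)) :
    R ≤ cj g (S ⊓ centralizer (V : Set G)) ⊔ cj k (S ⊓ centralizer (V : Set G)) := by
  have h1 := gen1 h (B := S ⊓ centralizer (V : Set G)) inf_le_left inf_le_right hQ
    (mul_mem (inv_mem hg) hk) hgk
  have h2 := cj_mono g h1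
  rw [cj_eq_of h.PR hg, cj, Subgroup.map_sup] at h2
  have h3 : Subgroup.map (MulAut.conj g).toMonoidHom (cj (g⁻¹ * k) (S ⊓ centralizer (V : Set G))) =
      cj k (S ⊓ centralizer (V : Set G)) := by
    change cj g (cj (g⁻¹ * k) _) = _
    rw [cj_cj, mul_inv_cancel_left]
  rwa [h3] at h2

/-- Two different lines of `P₂` meet in `H`. -/
theorem mem_H [Finite G] (hQ : ¬ S ⊓ centralizer (V : Set G) ≤ Q₂) {g k : G} (hg : g ∈ P₂) (hk : k ∈ P₂)
    (hgk : g⁻¹ * k ∉ normalizer (V : Set G)) {x : G} (hx : x ∈ cj g V) (hx2 : x ∈ cj k V) :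
    x ∈ V ⊓ centralizer (R : Set G) := by
  rw [← h.cj_inf hg]
  refine ⟨hx, ?_⟩
  have h1 : R ≤ centralizer ({x} : Set G) := by
    refine (gen2 h hQ hg hk hgk).trans (sup_le ?_ ?_)
    · intro y hy
      have h2 := cj_cent (g := g) (inf_le_right : S ⊓ centralizer (V : Set G) ≤ centralizer (V : Set G)) hy
      exact mem_centralizer_singleton_iff.2 ((mem_centralizer_iff.1 h2 x hx).symm)
    · intro y hy
      have h2 := cj_cent (g := k) (inf_le_right : S ⊓ centralizer (V : Set G) ≤ centralizer (V : Set G)) hy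
      exact mem_centralizer_singleton_iff.2 ((mem_centralizer_iff.1 h2 x hx2).symm)
  exact mem_centralizer_iff.2 fun r hr => mem_centralizer_singleton_iff.1 (h1 hr)

/-- What is centralised by `B` in another line lies in `H`. -/
theorem mem_H_of_cent [Finite G] {B : Subgroup G} (hB : B ≤ S) (hBV : B ≤ centralizer (V : Set G))
    (hB2 : ¬ B ≤ Q₂) {g : G} (hg : g ∈ P₂) (hgV : g ∉ normalizer (V : Set G)) {x : G} (hx : x ∈ cj g V)
    (hx2 : x ∈ centralizer (B : Set G)) : x ∈ V ⊓ centralizer (R : Set G) := by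
  rw [← h.cj_inf hg]
  refine ⟨hx, ?_⟩
  have h1 : R ≤ centralizer ({x} : Set G) := by
    refine (gen1 h hB hBV hB2 hg hgV).trans (sup_le ?_ ?_)
    · intro y hy
      exact mem_centralizer_singleton_iff.2 (mem_centralizer_iff.1 hx2 y hy)
    · intro y hy
      have h2 := cj_cent (g := g) (inf_le_right : S ⊓ centralizer (V : Set G) ≤ centralizer (V : Set G)) hy
      exact mem_centralizer_singleton_iff.2 ((mem_centralizer_iff.1 h2 x hx).symm)
  exact mem_centralizer_iff.2 fun r hr => mem_centralizer_singleton_iff.1 (h1 hr)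

theorem relIndex_H {g : G} (hg : g ∈ P₂) :
    (V ⊓ centralizer (R : Set G)).relIndex (cj g V) = (V ⊓ centralizer (R : Set G)).relIndex V := by
  have h1 : (cj g (V ⊓ centralizer (R : Set G))).relIndex (cj g V) =
      (V ⊓ centralizer (R : Set G)).relIndex V :=
    relIndex_map_map_of_injective _ _ (MulAut.conj g).injective
  rwa [cj_eq_of h.P₂_norm_H hg] at h1

/-- `R` does not centralise `V`. -/
theorem not_cent : ¬ V ≤ centralizer (R : Set G) := by
  intro h1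
  exact h.nV (h.RS.trans (sup_le ((cent_symm h1).trans (centralizer_le_normalizer _)) h.SV))

theorem relIndex_two {B : Subgroup G} (hB : B ≤ S) (hB2 : ¬ B ≤ Q₂) : Q₂.relIndex B = 2 := by
  obtain ⟨s, hs, hs2⟩ := SetLike.not_le_iff_exists.1 hB2
  change (Q₂.subgroupOf B).index = 2
  rw [Subgroup.index_eq_two_iff]
  refine ⟨⟨s, hs⟩, fun b => ?_⟩
  rw [mem_subgroupOf, mem_subgroupOf]
  have h1 := h.mul_mem_iff (hB b.2) (hB hs)
  change Xor' ((b : G) * s ∈ Q₂) ((b : G) ∈ Q₂)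
  rw [h1]
  by_cases hb : (b : G) ∈ Q₂
  · exact Or.inr ⟨hb, fun h2 => hs2 (h2.1 hb)⟩
  · exact Or.inl ⟨⟨fun h2 => absurd h2 hb, fun h2 => absurd h2 hs2⟩, hb⟩

end

end Cfsg.Agent.Omega.NO3b.Loc.Off
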