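import Cfsg.Agent.Omega.NO3b.Loc.Line
import Cfsg.Agent.Lib.Cores
import Cfsg.Agent.MinSimple.VModule

/-!
# THEOREM LOC in the w.c. frame (#18263), step (a)

* `exists_x` : some `x ∈ K_V S` has `B₀^x ≰ Q₂`.

Otherwise `[U, D] ≤ Y₀ := ⋂ H^y`, `y ∈ K_V S`; `E` normalises all `Y₀^{sm}`; `D^m ≤ S` as in `princ`; the groups
`E ∩ C(U / Y₀^{sm}) ∩ C(Y₀^{sm})`, `s ∈ S`, are normal in `E`, act on `U` as 2-groups and generate `E`.
-/

set_option autoImplicit false

namespace Cfsg.Agent.Omega.NO3b.Loc.Orbit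

open Subgroup Cfsg Cfsg.Agent.ZN Cfsg.Agent.ZN.ChoiceBase Cfsg.Agent.Omega.NO3b.Ineq Cfsg.Agent.Omega.NO3b.Gen
open Cfsg.Agent.Omega.NO3b.CTwo Cfsg.Agent.Omega.NO3b.Loc.Base Cfsg.Agent.Omega.NO3b.Loc.Off
open Cfsg.Agent.Omega.NO3b.Loc.NotCent Cfsg.Agent.Omega.NO3b.Loc.Line
open scoped commutatorElement

variable {G : Type*} [Group G]

theorem norm_inf {A B C : Subgroup G} (h1 : A ≤ normalizer (B : Set G)) (h2 : A ≤ normalizer (C : Set G)) :
    A ≤ normalizer ((B ⊓ C : Subgroup G) : Set G) :=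
  norm_of_forall fun _ ha _ hx => mem_inf.2 ⟨conj_mem h1 ha hx.1, conj_mem h2 ha hx.2⟩

/-- Normal subgroups of `E` which act on `U` as 2-groups generate one. -/
theorem pow_mem_of_iSup [Finite G] {E U : Subgroup G} (hEU : E ≤ normalizer (U : Set G)) {ι : Type*}
    {N : ι → Subgroup G} (hN : ∀ i, N i ≤ E) (hn : ∀ i, E ≤ normalizer (N i : Set G))
    (h2 : ∀ i, ∀ x ∈ N i, ∃ k, x ^ 2 ^ k ∈ centralizer (U : Set G)) {x : G} (hx : x ∈ ⨆ i, N i) :
    ∃ k, x ^ 2 ^ k ∈ centralizer (U : Set G) := by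
  have hEC : E ≤ normalizer ((centralizer (U : Set G) : Subgroup G) : Set G) := by
    have h5 := Sit.norm_inf_cent (T := E) (A := ⊤) (B := U) (fun p _ => by
      rw [mem_normalizer_iff]; intro y; simp) hEU
    rwa [top_inf_eq] at h5
  have hnorm : ((centralizer (U : Set G)).subgroupOf E).Normal := normal_subgroupOf_of_le_normalizer hEC
  let π := QuotientGroup.mk' ((centralizer (U : Set G)).subgroupOf E)
  have hπ : ∀ s : E, π s = 1 ↔ (s : G) ∈ centralizer (U : Set G) := fun s => by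
    rw [QuotientGroup.mk'_apply, QuotientGroup.eq_one_iff]; rfl
  set C := pCore 2 (E ⧸ (centralizer (U : Set G)).subgroupOf E) with hC
  have h3 : (⨆ i, N i) ≤ (C.comap π).map E.subtype := by
    refine iSup_le fun i => ?_
    have h4 : ((N i).subgroupOf E).map π ≤ C := by
      refine Lib.Cores.le_pCore ?_ ?_
      · exact (normal_subgroupOf_of_le_normalizer (hn i)).map π (QuotientGroup.mk'_surjective _)
      · rintro ⟨_, s, hs, rfl⟩
        obtain ⟨k, hk⟩ := h2 i s hs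
        refine ⟨k, Subtype.ext ?_⟩
        change (π s) ^ 2 ^ k = 1
        rw [← map_pow, hπ]
        exact hk
    have h5 := Subgroup.map_mono (f := E.subtype) (Subgroup.map_le_iff_le_comap.1 h4)
    rwa [subgroupOf_map_subtype, inf_eq_left.mpr (hN i)] at h5
  obtain ⟨y, hy, rfl⟩ := h3 hx
  obtain ⟨k, hk⟩ := Lib.Cores.pCore_isPGroup 2 (⟨π y, hy⟩ : C)
  refine ⟨k, ?_⟩
  have h6 : (π y) ^ 2 ^ k = 1 := congrArg Subtype.val hk
  rw [← map_pow, hπ] at h6
  exact h6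

section

variable {S M P P₂ Q₂ E R Z V W U : Subgroup G} (h : Hyp S M P P₂ Q₂ E R Z V W U)
include h

/-- `A` normalises `C_M(U / Y)` -/
theorem norm_KV {A Y : Subgroup G} (hA : A ≤ M) (hAY : A ≤ normalizer (Y : Set G)) :
    A ≤ normalizer (KV M Y U h.sq h.comm h.MU : Set G) := by
  refine norm_of_forall fun p hp x hx => ⟨mul_mem (mul_mem (hA hp) hx.1) (inv_mem (hA hp)), fun w hw => ?_⟩
  have h4 := hx.2 _ (conj_mem' h.MU (hA hp) hw)
  have h5 := conj_mem hAY hp h4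
  have e : p * (x * (p⁻¹ * w * p) * x⁻¹ * (p⁻¹ * w * p)) * p⁻¹ =
      p * x * p⁻¹ * w * (p * x * p⁻¹)⁻¹ * w := by group
  rwa [e] at h5

/-- The group `C_M(U / Y) ∩ C(Y)` acts on `U` as a group of exponent 2. -/
theorem sq_mem {Y : Subgroup G} (hY : Y ≤ U) {x : G}
    (hx : x ∈ KV M Y U h.sq h.comm h.MU ⊓ centralizer (Y : Set G)) : x ^ 2 ∈ centralizer (U : Set G) := by
  refine mem_centralizer_iff.2 fun w hw => ?_
  have h1 := hx.1.2 w hw
  set c := x * w * x⁻¹ * w with hc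
  have h2 : x * w * x⁻¹ = c * w := by rw [hc, mul_assoc (x * w * x⁻¹), h.sq w hw, mul_one]
  have h3 : x * c * x⁻¹ = c := by rw [← mem_centralizer_iff.1 hx.2 c h1, mul_inv_cancel_right]
  have h4 : x ^ 2 * w * (x ^ 2)⁻¹ = w := by
    calc x ^ 2 * w * (x ^ 2)⁻¹ = x * (x * w * x⁻¹) * x⁻¹ := by rw [pow_two]; group
      _ = x * (c * w) * x⁻¹ := by rw [h2]
      _ = (x * c * x⁻¹) * (x * w * x⁻¹) := by group
      _ = c * (c * w) := by rw [h3, h2]
      _ = w := by rw [← mul_assoc, h.sq c (hY h1), one_mul]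
  exact (mul_inv_eq_iff_eq_mul.1 h4).symm

/-- **(a)** some `x ∈ K_V S` has `B₀^x ≰ Q₂`. -/
theorem exists_x [Finite G] {B : Subgroup G} (hB : MO S U B) (hB2 : ¬ B ≤ Q₂) :
    ∃ x ∈ KV M V U h.sq h.comm h.MU ⊔ S, ∃ β ∈ B ⊓ Q₂, x * β * x⁻¹ ∉ Q₂ := by
  by_contra hcon
  push Not at hcon
  obtain ⟨g, hg, hgV, hne⟩ := exists_line h hB hB2
  have hl := lin h hB hB2 hg hne
  obtain ⟨hDQ, hDV, -, hDH⟩ := conj_facts h hB hB2 hg hgV hl
  have hEK := E_le_KV h hB hB2 hg hgV hl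
  set KS : Subgroup G := KV M V U h.sq h.comm h.MU ⊔ S with hKS
  have hKSM : KS ≤ M := KS_le h
  have hKSW : KS ≤ normalizer (W : Set G) := KS_norm_W h
  -- `B^y ≰ Q₂`
  have hBy : ∀ y ∈ KS, ¬ cj y B ≤ Q₂ := by
    intro y hy h1
    have hMy := MO_M h hB (hKSM hy)
    have h2 : W ≤ centralizer ((cj y B : Subgroup G) : Set G) := by
      refine W_le h fun z hz => cent_symm ?_
      have h3 : MO S U (cj z⁻¹ (cj y B)) :=
        hMy.cj (h.P₂U (inv_mem hz)) ((cj_le_of h.PQ₂ (inv_mem hz) h1).trans h.QS)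
      have h4 := cj_cent (g := z) (MO_cent h h3)
      rwa [cj_cj_inv] at h4
    have h5 := cj_cent (g := y⁻¹) (cent_symm h2)
    rw [cj_inv_cj, cj_eq_of hKSW (inv_mem hy)] at h5
    exact not_le_cent h hB hB2 (inf_le_left.trans h5)
  -- `[U, B₀^y] ≤ H`
  have hx : ∀ x ∈ KS, ∀ β ∈ B ⊓ Q₂, ∀ w ∈ U, x * (β * w * β⁻¹ * w) * x⁻¹ ∈ V ⊓ centralizer (R : Set G) := by
    intro x hx β hβ w hw
    have hB' := MO_M h hB (hKSM hx)
    have hB2' := hBy x hx
    obtain ⟨g', hg', hgV', hne'⟩ := exists_line h hB' hB2'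
    have hl' := lin h hB' hB2' hg' hne'
    have hβ' : x * β * x⁻¹ ∈ cj x B ⊓ Q₂ := by
      refine mem_inf.2 ⟨?_, hcon x hx β hβ⟩
      rw [mem_cj]
      have e : x⁻¹ * (x * β * x⁻¹) * x = β := by group
      rw [e]; exact hβ.1
    have h5 := comm_mem h hB' hB2' hg' hgV' hl' hβ' (conj_mem h.MU (hKSM hx) hw)
    have e : x * β * x⁻¹ * (x * w * x⁻¹) * (x * β * x⁻¹)⁻¹ * (x * w * x⁻¹) =
        x * (β * w * β⁻¹ * w) * x⁻¹ := by group
    rwa [e] at h5
  -- `Y = ⋂ H^x`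
  let Y : Subgroup G :=
    { carrier := {v | v ∈ V ∧ ∀ x ∈ KS, x * v * x⁻¹ ∈ V ⊓ centralizer (R : Set G)}
      one_mem' := ⟨one_mem _, fun x _ => by rw [mul_one, mul_inv_cancel]; exact one_mem _⟩
      mul_mem' := by
        rintro u v ⟨hu, hu2⟩ ⟨hv, hv2⟩
        refine ⟨mul_mem hu hv, fun x hx => ?_⟩
        have e : x * (u * v) * x⁻¹ = (x * u * x⁻¹) * (x * v * x⁻¹) := by group
        rw [e]; exact mul_mem (hu2 x hx) (hv2 x hx)
      inv_mem' := by
        rintro v ⟨hv, hv2⟩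
        refine ⟨inv_mem hv, fun x hx => ?_⟩
        have e : x * v⁻¹ * x⁻¹ = (x * v * x⁻¹)⁻¹ := by group
        rw [e]; exact inv_mem (hv2 x hx) }
  have hYV : Y ≤ V := fun v hv => hv.1
  have hYH : Y ≤ V ⊓ centralizer (R : Set G) := fun v hv => by
    have := hv.2 1 (one_mem _)
    rwa [inv_one, mul_one, one_mul] at this
  have hKY : KS ≤ normalizer (Y : Set G) := by
    refine norm_of_forall fun p hp v hv => ⟨conj_mem h.MV (hKSM hp) hv.1, fun x hx => ?_⟩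
    have h5 := hv.2 _ (mul_mem hx hp)
    have e : x * p * v * (x * p)⁻¹ = x * (p * v * p⁻¹) * x⁻¹ := by group
    rwa [e] at h5
  have hP₂Y : P₂ ≤ normalizer (Y : Set G) := by
    refine h.RS.trans (sup_le ?_ (le_sup_right.trans hKY))
    refine le_trans ?_ (centralizer_le_normalizer _)
    exact cent_symm (hYH.trans inf_le_right)
  set D : Subgroup G := cj g⁻¹ (B ⊓ Q₂) with hD
  have hDU : ∀ d ∈ D, ∀ w ∈ U, d * w * d⁻¹ * w ∈ Y := by
    intro d hd w hw
    have hd' := mem_cj.1 hd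
    rw [inv_inv] at hd'
    have hw' := conj_mem h.P₂U hg hw
    have h1 : g * d * g⁻¹ * (g * w * g⁻¹) * (g * d * g⁻¹)⁻¹ * (g * w * g⁻¹) ∈ Y :=
      ⟨(comm_mem h hB hB2 hg hgV hl hd' hw').1, fun x hx' => hx x hx' _ hd' _ hw'⟩
    have h2 := conj_mem' hP₂Y hg h1
    have e : g⁻¹ * (g * d * g⁻¹ * (g * w * g⁻¹) * (g * d * g⁻¹)⁻¹ * (g * w * g⁻¹)) * g =
        d * w * d⁻¹ * w := by group
    rwa [e] at h2
  have hDY : D ≤ centralizer (Y : Set G) := by
    refine cent_symm (hYH.trans ?_)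
    rw [← hDH]
    exact inf_le_right
  obtain ⟨m, hm, hmS, hprin⟩ := h.princ D (hDQ.trans h.QS) hDV
  -- the groups `Y_s`
  have hEY : ∀ a ∈ M, E ≤ normalizer ((cj a Y : Subgroup G) : Set G) := by
    intro a ha
    refine hEK.trans ?_
    have h1 := cj_norm (g := a) ((le_sup_left : KV M V U h.sq h.comm h.MU ≤ KS).trans hKY)
    rwa [cj_eq_of (M_norm_KV h) ha] at h1
  let C : G → Subgroup G := fun a => KV M (cj a Y) U h.sq h.comm h.MU ⊓ centralizer ((cj a Y : Subgroup G) : Set G)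
  have hYU : ∀ a ∈ M, cj a Y ≤ U := fun a ha => (cj_le_of h.MV ha hYV).trans h.VU
  have hEC : ∀ a ∈ M, E ≤ normalizer (C a : Set G) := fun a ha =>
    Sit.norm_inf_cent (norm_KV h h.EM (hEY a ha)) (hEY a ha)
  have hCcj : ∀ a ∈ M, ∀ b ∈ M, ∀ x ∈ C b, a * x * a⁻¹ ∈ C (a * b) := by
    intro a ha b hb x hx
    refine mem_inf.2 ⟨⟨mul_mem (mul_mem ha hx.1.1) (inv_mem ha), fun w hw => ?_⟩, ?_⟩
    · have h1 := hx.1.2 _ (conj_mem' h.MU ha hw)
      rw [← cj_cj, mem_cj]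
      have e : a⁻¹ * (a * x * a⁻¹ * w * (a * x * a⁻¹)⁻¹ * w) * a =
          x * (a⁻¹ * w * a) * x⁻¹ * (a⁻¹ * w * a) := by group
      rwa [e]
    · rw [← cj_cj, ← cj_centralizer, mem_cj]
      have e : a⁻¹ * (a * x * a⁻¹) * a = x := by group
      rw [e]; exact hx.2
  have hDC : ∀ a ∈ M, ∀ d ∈ cj a D, d ∈ C a := by
    intro a ha d hd
    have hd' := mem_cj.1 hd
    have h0 : a⁻¹ * d * a ∈ C 1 := by
      refine mem_inf.2 ⟨⟨h.SM (h.QS (hDQ hd')), fun w hw => ?_⟩, ?_⟩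
      · rw [cj_one]; exact hDU _ hd' w hw
      · rw [cj_one]; exact hDY hd'
    have h1 := hCcj a ha 1 (one_mem _) _ h0
    have e : a * (a⁻¹ * d * a) * a⁻¹ = d := by group
    rwa [e, mul_one] at h1
  have hsmM : ∀ s : S, (s : G) * m ∈ M := fun s => mul_mem (h.SM s.2) hm
  -- `O₁`
  set O : Subgroup G := ⨆ s : S, E ⊓ C (s * m) with hO
  have hOE : O ≤ E := iSup_le fun s => inf_le_left
  have hEO : E ≤ normalizer (O : Set G) := by
    intro e he
    refine Cfsg.Agent.MinSimple.VModule.mem_normalizer_of_map_le ?_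
    rw [hO, Subgroup.map_iSup]
    refine iSup_le fun s => le_trans (Eq.le ?_) (le_iSup (fun s : S => E ⊓ C (s * m)) s)
    exact cj_eq_of_mem_normalizer ((norm_inf le_normalizer (hEC _ (hsmM s))) he)
  have hSO : S ≤ normalizer (O : Set G) := by
    intro t ht
    refine Cfsg.Agent.MinSimple.VModule.mem_normalizer_of_map_le ?_
    rw [hO, Subgroup.map_iSup]
    refine iSup_le fun s => ?_
    refine le_trans ?_ (le_iSup (fun s : S => E ⊓ C (s * m)) (⟨t, ht⟩ * s))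
    rintro _ ⟨x, hx, rfl⟩
    refine mem_inf.2 ⟨?_, ?_⟩
    · exact conj_mem (h.SP.trans h.E_nor) ht hx.1
    · have h1 := hCcj t (h.SM ht) _ (hsmM s) x hx.2
      have e : (((⟨t, ht⟩ : S) * s : S) : G) * m = t * (s * m) := by
        rw [Subgroup.coe_mul, mul_assoc]
      rw [e]
      exact h1
  have hPO : P ≤ normalizer (O : Set G) := h.PE.trans (sup_le hEO hSO)
  -- `[E, D^s] ≤ O`
  have hED : ∀ s : S, ∀ e ∈ E, ∀ d ∈ cj (s * m) D, e * d * e⁻¹ * d⁻¹ ∈ O := by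
    intro s e he d hd
    have hdS : d ∈ S := by
      rw [← cj_cj] at hd
      have h1 := cj_mono (s : G) hmS hd
      rwa [cj_eq_of_mem_normalizer (Subgroup.le_normalizer s.2)] at h1
    refine (le_iSup (fun s : S => E ⊓ C (s * m)) s) (mem_inf.2 ⟨?_, ?_⟩)
    · have h1 := conj_mem (h.SP.trans h.E_nor) hdS (inv_mem he)
      have e1 : e * d * e⁻¹ * d⁻¹ = e * (d * e⁻¹ * d⁻¹) := by group
      rw [e1]
      exact mul_mem he h1
    · have h1 := hDC _ (hsmM s) d hd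
      exact mul_mem (conj_mem (hEC _ (hsmM s)) he h1) (inv_mem h1)
  -- `K = O D^*`
  set K : Subgroup G := O ⊔ ⨆ s : S, cj (s * m) D with hK
  have hDS : (⨆ s : S, cj (s * m) D) ≤ S := by
    refine iSup_le fun s => ?_
    rw [← cj_cj]
    have h1 := cj_mono (s : G) hmS
    rwa [cj_eq_of_mem_normalizer (Subgroup.le_normalizer s.2)] at h1
  have hSK : S ≤ normalizer (K : Set G) := by
    intro t ht
    refine Cfsg.Agent.MinSimple.VModule.mem_normalizer_of_map_le ?_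
    rw [hK, Subgroup.map_sup]
    refine sup_le ?_ ?_
    · exact (cj_eq_of_mem_normalizer (hSO ht)).le.trans le_sup_left
    · rw [Subgroup.map_iSup]
      refine iSup_le fun s => ?_
      refine le_trans ?_ (le_trans (le_iSup (fun s : S => cj (s * m) D) (⟨t, ht⟩ * s)) le_sup_right)
      change cj t (cj (s * m) D) ≤ _
      rw [cj_cj, Subgroup.coe_mul, mul_assoc]
  have hEK' : E ≤ normalizer (K : Set G) := by
    intro e he
    refine Cfsg.Agent.MinSimple.VModule.mem_normalizer_of_map_le ?_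
    rw [hK, Subgroup.map_sup]
    refine sup_le ?_ ?_
    · exact (cj_eq_of_mem_normalizer (hEO he)).le.trans le_sup_left
    · rw [Subgroup.map_iSup]
      refine iSup_le fun s => ?_
      rintro _ ⟨d, hd, rfl⟩
      have h1 := hED s e he d hd
      have h2 : e * d * e⁻¹ = (e * d * e⁻¹ * d⁻¹) * d := by group
      change e * d * e⁻¹ ∈ _
      rw [h2]
      exact mul_mem (mem_sup_left h1) (mem_sup_right (le_iSup (fun s : S => cj (s * m) D) s hd))
  have hEle : E ≤ K := by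
    refine hprin K (h.PE.trans (sup_le hEK' hSK)) ?_
    refine le_trans ?_ (le_trans (le_iSup (fun s : S => cj (s * m) D) 1) le_sup_right)
    rw [OneMemClass.coe_one, one_mul]
  have hEO' : E ≤ O := by
    refine h.E_odd.trans ((closure_le _).2 ?_)
    rintro x ⟨hx, ho⟩
    refine mem_of_odd h.two hSO ?_ ho
    exact (hEle.trans (sup_le le_sup_right (hDS.trans le_sup_left))) hx
  -- `E` acts on `U` as a 2-group
  have hEU : E ≤ centralizer (U : Set G) := by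
    refine h.E_odd.trans ((closure_le _).2 ?_)
    rintro x ⟨hx, ho⟩
    obtain ⟨k, hk⟩ := pow_mem_of_iSup (h.EM.trans h.MU) (N := fun s : S => E ⊓ C (s * m))
      (fun s => inf_le_left) (fun s => norm_inf le_normalizer (hEC _ (hsmM s)))
      (fun s x hx => ⟨1, by rw [pow_one]; exact sq_mem h (hYU _ (hsmM s)) hx.2⟩) (hEO' hx)
    have hcop : Nat.Coprime (2 ^ k) (orderOf x) := Nat.Coprime.pow_left k (Nat.coprime_two_left.2 ho)
    obtain ⟨j, hj⟩ := exists_pow_eq_self_of_coprime hcop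
    rw [SetLike.mem_coe, ← hj]
    exact pow_mem hk j
  apply h.nV
  have hV : V ≤ ⊥ := fun v hv => mem_bot.2 (h.free v hv (cent_symm hEU (h.VU hv)))
  rw [le_bot_iff.1 hV]
  intro p _
  rw [mem_normalizer_iff]
  intro y
  simp

end

end Cfsg.Agent.Omega.NO3b.Loc.Orbit
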