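import Cfsg.Agent.Omega.NO3b.Loc.Main

/-!
# THEOREM LOC (helper768, #15138 (C)), part 9: `|P : C_P(V)| = 6`

`P` permutes the three forms `λ^x`; the kernel is `C_P(V)`. Here `S` is a Sylow 2-subgroup of `P` and `E` contains
the elements of odd order of `P`.

* `Six.idxP` : `|P : C_P(V)| = 6`.
-/

set_option autoImplicit false

namespace Cfsg.Agent.Omega.NO3b.Loc.Six

open Subgroup Cfsg.Agent.ZN Cfsg.Agent.ZN.ChoiceBase Cfsg.Agent.Omega.NO3b.Ineq Cfsg.Agent.Omega.NO3b.Gen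
open Cfsg.Agent.Omega.NO3b.CTwo Cfsg.Agent.Omega.NO3b.Loc.Base Cfsg.Agent.Omega.NO3b.Loc.Off
open Cfsg.Agent.Omega.NO3b.Loc.NotCent Cfsg.Agent.Omega.NO3b.Loc.Line Cfsg.Agent.Omega.NO3b.Loc.Mod
open Cfsg.Agent.Omega.NO3b.Loc.Cent Cfsg.Agent.Omega.NO3b.Loc.Tv Cfsg.Agent.Omega.NO3b.Loc.Main
open scoped commutatorElement

variable {G : Type*} [Group G]

theorem relIndex_eq_three {P M : Subgroup G} {x z : G} (hx : x ∈ P) (hz : z ∈ P) (hxM : x ∉ M)
    (hzM : z ∉ M) (hxz : x⁻¹ * z ∉ M) (hall : ∀ y ∈ P, y ∈ M ∨ x⁻¹ * y ∈ M ∨ z⁻¹ * y ∈ M) :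
    M.relIndex P = 3 := by
  change Nat.card (P ⧸ M.subgroupOf P) = 3
  rw [← Set.ncard_univ, Set.ncard_eq_three]
  have key : ∀ a b : P, ((a : P ⧸ M.subgroupOf P) = (b : P ⧸ M.subgroupOf P)) ↔
      (a : G)⁻¹ * (b : G) ∈ M := fun a b => by
    rw [QuotientGroup.eq, mem_subgroupOf]
    rfl
  refine ⟨((1 : P) : P ⧸ M.subgroupOf P), ((⟨x, hx⟩ : P) : P ⧸ M.subgroupOf P),
    ((⟨z, hz⟩ : P) : P ⧸ M.subgroupOf P), ?_, ?_, ?_, ?_⟩
  · intro h1
    have h2 := (key _ _).1 h1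
    rw [OneMemClass.coe_one, inv_one, one_mul] at h2
    exact hxM h2
  · intro h1
    have h2 := (key _ _).1 h1
    rw [OneMemClass.coe_one, inv_one, one_mul] at h2
    exact hzM h2
  · intro h1
    exact hxz ((key _ _).1 h1)
  · rw [eq_comm, Set.eq_univ_iff_forall]
    intro q
    induction q using QuotientGroup.induction_on with
    | H y =>
      rw [Set.mem_insert_iff, Set.mem_insert_iff, Set.mem_singleton_iff]
      rcases hall y y.2 with h1 | h1 | h1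
      · left
        refine ((key _ _).2 ?_).symm
        rw [OneMemClass.coe_one, inv_one, one_mul]
        exact h1
      · right; left
        exact ((key _ _).2 h1).symm
      · right; right
        exact ((key _ _).2 h1).symm

/-- decomposition of an element into its 2-part and its odd part -/
theorem exists_parts [Finite G] (k : G) : ∃ a b : ℤ, k = k ^ a * k ^ b ∧ (∃ n, (k ^ a) ^ 2 ^ n = 1) ∧
    Odd (orderOf (k ^ b)) := by
  obtain ⟨n, m, hm, hnm⟩ := Nat.exists_eq_two_pow_mul_odd (n := orderOf k) (orderOf_pos k).ne'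
  have hcop : IsCoprime (m : ℤ) ((2 : ℤ) ^ n) := by
    have h1 : Nat.Coprime m (2 ^ n) := Nat.Coprime.pow_right n (Nat.coprime_two_right.2 hm)
    have h2 := Nat.isCoprime_iff_coprime.2 h1
    rwa [Nat.cast_pow, Nat.cast_ofNat] at h2
  obtain ⟨u, v, huv⟩ := hcop
  refine ⟨u * m, v * 2 ^ n, ?_, ⟨n, ?_⟩, ?_⟩
  · rw [← zpow_add, huv, zpow_one]
  · rw [← zpow_natCast, ← zpow_mul]
    have e : u * (m : ℤ) * ((2 ^ n : ℕ) : ℤ) = (orderOf k : ℤ) * u := by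
      rw [hnm]; push_cast; ring
    rw [e, zpow_mul, zpow_natCast, pow_orderOf_eq_one, one_zpow]
  · refine hm.of_dvd_nat (orderOf_dvd_of_pow_eq_one ?_)
    rw [← zpow_natCast, ← zpow_mul]
    have e : v * 2 ^ n * (m : ℤ) = (orderOf k : ℤ) * v := by
      rw [hnm]; push_cast; ring
    rw [e, zpow_mul, zpow_natCast, pow_orderOf_eq_one, one_zpow]

section

variable {S M P P₂ Q₂ E R Z V W U : Subgroup G} (h : Hyp S M P P₂ Q₂ E R Z V W U)
include h

/-- **`|P : C_P(V)| = 6`**. -/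
theorem idxP [Finite G] (hff : ∃ A, A ≤ S ∧ Off U A) (hodd : ∀ x ∈ P, Odd (orderOf x) → x ∈ E)
    (hsyl : ∀ x ∈ P, (∃ k, x ^ 2 ^ k = 1) → ∃ p ∈ P, p * x * p⁻¹ ∈ S) :
    (centralizer (V : Set G)).relIndex P = 6 := by
  have hL := loc h hff
  obtain ⟨B, hB, hB2⟩ := exists_MO h hff
  obtain ⟨g, hg, hgV, hne⟩ := exists_line h hB hB2
  have hl := lin h hB hB2 hg hne
  obtain ⟨hDQ, hDV, hDU, hDH⟩ := conj_facts h hB hB2 hg hgV hl
  have hEU : ∀ e ∈ E, ∀ w ∈ U, e * w * e⁻¹ * w ∈ V := fun e he => (E_le_KV h hB hB2 hg hgV hl he).2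
  have T := tvInst h hB hB2 hg hgV hl
  obtain ⟨M, hM, hSM, hmax, hMl, hlM, x, hx, hxM, hx1, hall, hker⟩ := T.main
  have hBA := B_le h hB hB2
  have hLU : cj g V ≤ U := h.line_le_U hg
  obtain ⟨m₀, hm₀, hm₀2⟩ := SetLike.not_le_iff_exists.1 hB2
  have hm₀A : m₀ ∈ Ag S V U := hBA hm₀
  obtain ⟨d, hd, hdV⟩ := SetLike.not_le_iff_exists.1 hDV
  have hdS : d ∈ S := h.QS (hDQ hd)
  have hPC : P ≤ normalizer ((P ⊓ centralizer (V : Set G) : Subgroup G) : Set G) :=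
    Sit.norm_inf_cent le_normalizer h.PV
  -- `K`
  let K : Subgroup G :=
    { carrier := {p | p ∈ P ∧ ∀ x ∈ P, ∀ m ∈ Ag S V U, lm (Ag S V U ⊓ Q₂) x (p * m * p⁻¹) =
        lm (Ag S V U ⊓ Q₂) x m}
      one_mem' := ⟨one_mem _, fun x _ m _ => by rw [one_mul, inv_one, mul_one]⟩
      mul_mem' := by
        rintro p q ⟨hp, hp2⟩ ⟨hq, hq2⟩
        refine ⟨mul_mem hp hq, fun x hx m hm => ?_⟩
        have e : p * q * m * (p * q)⁻¹ = p * (q * m * q⁻¹) * p⁻¹ := by group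
        rw [e, hp2 x hx _ (conj_mem (P_norm_A h) hq hm), hq2 x hx m hm]
      inv_mem' := by
        rintro p ⟨hp, hp2⟩
        refine ⟨inv_mem hp, fun x hx m hm => ?_⟩
        have h1 := hp2 x hx _ (conj_mem' (P_norm_A h) hp hm)
        have e : p * (p⁻¹ * m * p) * p⁻¹ = m := by group
        rw [e] at h1
        rw [inv_inv, h1] }
  have hKn : P ≤ normalizer (K : Set G) := by
    refine norm_of_forall fun y hy p hp => ⟨mul_mem (mul_mem hy hp.1) (inv_mem hy), fun x hx m hm => ?_⟩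
    have h1 := hp.2 _ (mul_mem (inv_mem hy) hx) _ (conj_mem' (P_norm_A h) hy hm)
    rw [Tv.lm_conj, Tv.lm_conj] at h1
    have e1 : y * (p * (y⁻¹ * m * y) * p⁻¹) * y⁻¹ = y * p * y⁻¹ * m * (y * p * y⁻¹)⁻¹ := by group
    have e2 : y * (y⁻¹ * m * y) * y⁻¹ = m := by group
    rwa [e1, e2] at h1
  have hKS : ∀ s ∈ S, s ∈ K → s ∈ centralizer (V : Set G) := fun s hs hsK =>
    mem_cent_of_fix h hB hB2 hg hgV hl hs hsK.2
  -- (a) `C_P(V) ≤ K`
  have hA₀ : ∀ m ∈ Ag S V U, (m ∈ Ag S V U ⊓ Q₂ ↔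
      ∀ w ∈ U, m * w * m⁻¹ * w ∈ V ⊓ centralizer (R : Set G)) := by
    intro m hm
    refine ⟨fun h1 w hw => A₀_mem h hB hB2 h1 hw, fun h1 => mem_inf.2 ⟨hm, ?_⟩⟩
    by_contra hm2
    have h2 := (exists_w h hB hB2 hg hgV hm hm2).1
    have h3 : cj g V ≤ V ⊓ centralizer (R : Set G) := fun w hw => h2 w hw (h1 w (hLU hw))
    have h4 : (V ⊓ centralizer (R : Set G)).relIndex (cj g V) = 1 := relIndex_eq_one.2 h3
    rw [relIndex_H h hg, relIndex_eq_one] at h4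
    exact not_cent h (h4.trans inf_le_right)
  have hCK1 : ∀ c ∈ P, c ∈ centralizer (V : Set G) → ∀ m ∈ Ag S V U,
      lm (Ag S V U ⊓ Q₂) 1 (c * m * c⁻¹) = lm (Ag S V U ⊓ Q₂) 1 m := by
    intro c hc hcV m hm
    have hcm := T.conjA' hc hm
    have hcv : ∀ v ∈ V, c * v * c⁻¹ = v := fun v hv => by
      rw [← mem_centralizer_iff.1 hcV v hv, mul_inv_cancel_right]
    apply eq_of_zero_iff
    rw [Tv.lm_one, Tv.lm_one, hA₀ _ hcm, hA₀ _ hm]
    constructor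
    · intro h1 w hw
      have h2 := h1 _ (conj_mem h.PU hc hw)
      have e : c * m * c⁻¹ * (c * w * c⁻¹) * (c * m * c⁻¹)⁻¹ * (c * w * c⁻¹) = c * (m * w * m⁻¹ * w) * c⁻¹ := by
        group
      rwa [e, hcv _ (Ag_mem h hm hw)] at h2
    · intro h1 w hw
      have hw' := conj_mem' h.PU hc hw
      have h2 := h1 _ hw'
      have e : c * m * c⁻¹ * w * (c * m * c⁻¹)⁻¹ * w =
          c * (m * (c⁻¹ * w * c) * m⁻¹ * (c⁻¹ * w * c)) * c⁻¹ := by group
      rw [e, hcv _ (Ag_mem h hm hw')]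
      exact h2
  have hCK : P ⊓ centralizer (V : Set G) ≤ K := by
    intro c hc
    refine ⟨hc.1, fun y hy m hm => ?_⟩
    have h1 := conj_mem' hPC hy hc
    have h2 := hCK1 _ h1.1 h1.2 _ (T.conjA hy hm)
    have e1 : lm (Ag S V U ⊓ Q₂) 1 (y⁻¹ * c * y * (y⁻¹ * m * y) * (y⁻¹ * c * y)⁻¹) =
        lm (Ag S V U ⊓ Q₂) y (c * m * c⁻¹) := by
      unfold lm
      have e : (1 : G)⁻¹ * (y⁻¹ * c * y * (y⁻¹ * m * y) * (y⁻¹ * c * y)⁻¹) * 1 = y⁻¹ * (c * m * c⁻¹) * y := by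
        group
      rw [e]
    have e2 : lm (Ag S V U ⊓ Q₂) 1 (y⁻¹ * m * y) = lm (Ag S V U ⊓ Q₂) y m := by
      unfold lm
      have e : (1 : G)⁻¹ * (y⁻¹ * m * y) * 1 = y⁻¹ * m * y := by group
      rw [e]
    rwa [e1, e2] at h2
  -- (b) `K ∩ E ≤ C(V)`
  have hVZ : Z.relIndex V = 4 := by
    have h1 := relIndex_mul_relIndex ⊥ Z V bot_le h.ZV
    rw [relIndex_bot_left, relIndex_bot_left, hL.cardZ, hL.cardV] at h1
    omega
  have hHZ := hL.inf_R
  have hdZ : ∀ v ∈ Z, d * v = v * d := by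
    intro v hv
    rw [← hHZ, ← hDH] at hv
    exact mem_centralizer_iff.1 hv.2 d hd
  have hVd : ∀ v ∈ V, d * v = v * d → v ∈ Z := by
    intro v hv hdv
    rw [← hL.inf_S]
    refine mem_inf.2 ⟨hv, mem_centralizer_iff.2 fun s hs => ?_⟩
    by_cases hsV : s ∈ centralizer (V : Set G)
    · exact (mem_centralizer_iff.1 hsV v hv).symm
    · have h0 : ((centralizer (V : Set G)).subgroupOf S).index = 2 := hL.idx
      have h1 := Subgroup.mul_mem_iff_of_index_two h0 (a := ⟨d, hdS⟩⁻¹) (b := ⟨s, hs⟩)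
      have h2 : d⁻¹ * s ∈ centralizer (V : Set G) := by
        have h3 : (⟨d, hdS⟩⁻¹ * ⟨s, hs⟩ : S) ∈ (centralizer (V : Set G)).subgroupOf S := by
          rw [h1, inv_mem_iff]
          exact ⟨fun h4 => absurd h4 hdV, fun h4 => absurd h4 hsV⟩
        exact h3
      have h3 := mem_centralizer_iff.1 h2 v hv
      calc s * v = d * ((d⁻¹ * s) * v) := by group
        _ = d * v * (d⁻¹ * s) := by rw [← h3]; group
        _ = v * d * (d⁻¹ * s) := by rw [hdv]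
        _ = v * s := by group
  have hsurj : ∀ z ∈ Z, ∃ v ∈ V, (d * v * d⁻¹ * v)⁻¹ * z ∈ (⊥ : Subgroup G) := by
    refine surj_of_inj (H := Z) (fun v => d * v * d⁻¹ * v) (fun v hv => by
      rw [← hHZ]; exact hDU d hd v (h.VU hv)) ?_ (by rw [relIndex_bot_left, hL.cardZ, hVZ])
    intro v hv w hw h1
    rw [mem_bot] at h1
    have hvU := h.VU hv
    have hwU := h.VU hw
    have h2 : d * v * d⁻¹ * v = d * w * d⁻¹ * w := inv_mul_eq_one.1 h1
    refine hVd _ (mul_mem (inv_mem hv) hw) ?_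
    have hdv : d * v * d⁻¹ ∈ U := conj_mem h.PU (h.SP hdS) hvU
    have h3 : d * (v⁻¹ * w) * d⁻¹ = v⁻¹ * w := by
      have e1 : v⁻¹ = v := inv_U h hvU
      have e2 : w⁻¹ = w := inv_U h hwU
      have h4 : d * w * d⁻¹ = d * v * d⁻¹ * v * w := by
        calc d * w * d⁻¹ = d * w * d⁻¹ * w * w⁻¹ := by group
          _ = d * v * d⁻¹ * v * w := by rw [← h2, e2]
      calc d * (v⁻¹ * w) * d⁻¹ = (d * v * d⁻¹)⁻¹ * (d * w * d⁻¹) := by group
        _ = (d * v * d⁻¹)⁻¹ * (d * v * d⁻¹ * v * w) := by rw [h4]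
        _ = v * w := by group
        _ = v⁻¹ * w := by rw [e1]
    exact mul_inv_eq_iff_eq_mul.1 h3
  have hKE : ∀ k ∈ K, k ∈ E → k ∈ centralizer (V : Set G) := by
    intro k hk hkE
    have hkP := hk.1
    -- `k` centralises `[w, m]`
    have key : ∀ m ∈ Ag S V U, ∀ w ∈ U, k * (m * w * m⁻¹ * w) * k⁻¹ = m * w * m⁻¹ * w := by
      intro m hm w hw
      have hkm := T.conjA' hkP hm
      have h1 : m⁻¹ * (k * m * k⁻¹) ∈ Ag S V U ⊓ centralizer (U : Set G) := by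
        have h2 : ∀ y ∈ P, lm (Ag S V U ⊓ Q₂) y (m⁻¹ * (k * m * k⁻¹)) = 0 := by
          intro y hy
          have h3 := T.lm_mul hy hm (mul_mem (inv_mem hm) hkm)
          rw [mul_inv_cancel_left, hk.2 y hy m hm] at h3
          have : ∀ a b : ZMod 2, a = a + b → b = 0 := by decide
          exact this _ _ h3
        exact hker _ (mul_mem (inv_mem hm) hkm) (h2 1 (one_mem _)) (h2 x hx)
      have hkw : k * w * k⁻¹ ∈ U := conj_mem h.PU hkP hw
      have h2 := c_congr (mem_inf.1 h1).2 hkw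
      have h3 := hEU k hkE w hw
      have e1 : k * (m * w * m⁻¹ * w) * k⁻¹ = k * m * k⁻¹ * (k * w * k⁻¹) * (k * m * k⁻¹)⁻¹ * (k * w * k⁻¹) := by
        group
      have e2 : k * w * k⁻¹ = k * w * k⁻¹ * w * w := by
        rw [mul_assoc (k * w * k⁻¹), h.sq w hw, mul_one]
      rw [e1, h2, e2, c_line h hm h3 hw]
    -- `k` centralises `Z`
    have hVw : ∀ v ∈ V, ∃ m ∈ Ag S V U, ∃ w ∈ U, (m * w * m⁻¹ * w)⁻¹ * v ∈ Z := by
      intro v hv
      obtain ⟨w, hw, hwv⟩ := (exists_w h hB hB2 hg hgV hm₀A hm₀2).2 v hv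
      rw [hHZ] at hwv
      exact ⟨m₀, hm₀A, w, hLU hw, hwv⟩
    have hkZ : ∀ z ∈ Z, k * z * k⁻¹ = z := by
      intro z hz
      obtain ⟨v, hv, hvz⟩ := hsurj z hz
      rw [mem_bot, inv_mul_eq_one] at hvz
      obtain ⟨m, hm, w, hw, hwv⟩ := hVw v hv
      set y := m * w * m⁻¹ * w with hy
      have hyU : y ∈ U := h.VU (Ag_mem h hm hw)
      have hzU : y⁻¹ * v ∈ U := h.VU (h.ZV hwv)
      have e1 : d * (y⁻¹ * v) * d⁻¹ = y⁻¹ * v := by
        rw [hdZ _ hwv, mul_inv_cancel_right]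
      have hdy : d * y * d⁻¹ ∈ U := conj_mem h.PU (h.SP hdS) hyU
      have e2 : z = (d * y * d⁻¹) * y := by
        rw [← hvz]
        calc d * v * d⁻¹ * v = (d * y * d⁻¹) * (d * (y⁻¹ * v) * d⁻¹) * (y * (y⁻¹ * v)) := by group
          _ = (d * y * d⁻¹) * (y⁻¹ * v) * (y * (y⁻¹ * v)) := by rw [e1]
          _ = (d * y * d⁻¹) * (y⁻¹ * v) * ((y⁻¹ * v) * y) := by rw [h.comm y hyU _ hzU]
          _ = (d * y * d⁻¹) * ((y⁻¹ * v) * (y⁻¹ * v)) * y := by group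
          _ = _ := by rw [h.sq _ hzU, mul_one]
      have e3 : d * y * d⁻¹ = (d * m * d⁻¹) * (d * w * d⁻¹) * (d * m * d⁻¹)⁻¹ * (d * w * d⁻¹) := by
        rw [hy]; group
      have h1 := key _ (T.conjA' (h.SP hdS) hm) _ (conj_mem h.PU (h.SP hdS) hw)
      have h2 := key m hm w hw
      rw [e2]
      calc k * (d * y * d⁻¹ * y) * k⁻¹ = (k * (d * y * d⁻¹) * k⁻¹) * (k * y * k⁻¹) := by group
        _ = (d * y * d⁻¹) * y := by rw [e3, h1, h2]
    refine mem_centralizer_iff.2 fun v hv => ?_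
    obtain ⟨m, hm, w, hw, hwv⟩ := hVw v hv
    have h1 := key m hm w hw
    have h2 := hkZ _ hwv
    have h3 : k * v * k⁻¹ = v := by
      calc k * v * k⁻¹ = (k * (m * w * m⁻¹ * w) * k⁻¹) * (k * ((m * w * m⁻¹ * w)⁻¹ * v) * k⁻¹) := by group
        _ = (m * w * m⁻¹ * w) * ((m * w * m⁻¹ * w)⁻¹ * v) := by rw [h1, h2]
        _ = v := by group
    exact (mul_inv_eq_iff_eq_mul.1 h3).symm
  -- `K = C_P(V)`
  have hKC : K ≤ centralizer (V : Set G) := by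
    intro k hk
    obtain ⟨a, b, hab, ⟨n, hn⟩, hb⟩ := exists_parts k
    have h1 : k ^ b ∈ centralizer (V : Set G) :=
      hKE _ (zpow_mem hk b) (hodd _ (zpow_mem hk.1 b) hb)
    have h2 : k ^ a ∈ centralizer (V : Set G) := by
      obtain ⟨p, hp, hpS⟩ := hsyl _ (zpow_mem hk.1 a) ⟨n, hn⟩
      have h3 := hKS _ hpS (conj_mem hKn hp (zpow_mem hk a))
      have h4 : p * k ^ a * p⁻¹ ∈ P ⊓ centralizer (V : Set G) :=
        mem_inf.2 ⟨mul_mem (mul_mem hp (zpow_mem hk.1 a)) (inv_mem hp), h3⟩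
      have h5 := conj_mem' hPC hp h4
      have e : p⁻¹ * (p * k ^ a * p⁻¹) * p = k ^ a := by group
      rw [e] at h5
      exact h5.2
    rw [hab]
    exact mul_mem h2 h1
  have hKeq : K = P ⊓ centralizer (V : Set G) := le_antisymm (fun k hk => mem_inf.2 ⟨hk.1, hKC hk⟩) hCK
  -- `|M : K| = 2`
  have hKM : K ≤ M := by
    intro k hk
    rw [← inv_mem_iff]
    refine hlM _ (inv_mem hk.1) fun m hm => ?_
    have h1 := hk.2 1 (one_mem _) m hm
    rwa [← Tv.lm_conj, mul_one] at h1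
  have hM1 : ∀ a ∈ M, ∀ m ∈ Ag S V U, lm (Ag S V U ⊓ Q₂) 1 (a * m * a⁻¹) = lm (Ag S V U ⊓ Q₂) 1 m := by
    intro a ha m hm
    rw [← Tv.lm_conj, mul_one]
    exact hMl _ (inv_mem ha) m hm
  have hfix : ∀ a ∈ M, (∀ m ∈ Ag S V U, lm (Ag S V U ⊓ Q₂) x (a * m * a⁻¹) = lm (Ag S V U ⊓ Q₂) x m) →
      a ∈ K := by
    intro a ha hax
    refine ⟨hM.le ha, fun y hy m hm => ?_⟩
    have ham := T.conjA' (hM.le ha) hm
    rcases hall y hy with h1 | h1 | h1
    · rw [h1 _ ham, h1 _ hm, hM1 a ha m hm]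
    · rw [h1 _ ham, h1 _ hm, hax m hm]
    · rw [h1 _ ham, h1 _ hm, hax m hm, hM1 a ha m hm]
  have hmove : ∀ a ∈ M, a ∉ K → ∀ m ∈ Ag S V U,
      lm (Ag S V U ⊓ Q₂) x (a * m * a⁻¹) = lm (Ag S V U ⊓ Q₂) 1 m + lm (Ag S V U ⊓ Q₂) x m := by
    intro a ha haK
    rcases hall (a⁻¹ * x) (mul_mem (inv_mem (hM.le ha)) hx) with h1 | h1 | h1
    · exfalso
      have h2 := hlM _ (mul_mem (inv_mem (hM.le ha)) hx) h1
      have h3 := mul_mem ha h2
      rw [mul_inv_cancel_left] at h3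
      exact hxM h3
    · exfalso
      refine haK (hfix a ha fun m hm => ?_)
      rw [← Tv.lm_conj]
      exact h1 m hm
    · intro m hm
      rw [← Tv.lm_conj]
      exact h1 m hm
  have hidx2 : K.relIndex M = 2 := by
    refine relIndex_eq_two_of ⟨d, hSM hdS, fun h1 => hdV (hKS d hdS h1)⟩ fun a ha b hb haK hbK => ?_
    refine hfix _ (mul_mem (inv_mem ha) hb) fun m hm => ?_
    have hm' := T.conjA' (hM.le hb) hm
    have hm'' := T.conjA (hM.le ha) hm'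
    have h1 := hmove a ha haK _ hm''
    have h2 := hmove b hb hbK _ hm
    have e1 : a * (a⁻¹ * (b * m * b⁻¹) * a) * a⁻¹ = b * m * b⁻¹ := by group
    have e2 : a⁻¹ * b * m * (a⁻¹ * b)⁻¹ = a⁻¹ * (b * m * b⁻¹) * a := by group
    have h3 : lm (Ag S V U ⊓ Q₂) 1 (a⁻¹ * (b * m * b⁻¹) * a) = lm (Ag S V U ⊓ Q₂) 1 m := by
      rw [← hM1 a ha _ hm'', e1, hM1 b hb _ hm]
    rw [e1, h2, h3] at h1
    rw [e2]
    exact (add_left_cancel h1).symm
  -- `|P : M| = 3`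
  have hMn : ∀ y ∈ P, y ∈ normalizer ((Ag S V U ⊓ Q₂ : Subgroup G) : Set G) → y ∈ M := by
    intro y hy hy2
    refine hlM y hy fun m hm => ?_
    apply eq_of_zero_iff
    rw [Tv.lm_one, lm_eq_zero]
    have h1 := (mem_normalizer_iff.1 (inv_mem hy2) m)
    rw [inv_inv] at h1
    exact h1.symm
  have hcos : ∀ y ∈ P, ∀ z ∈ P, (∀ m ∈ Ag S V U, lm (Ag S V U ⊓ Q₂) y m = lm (Ag S V U ⊓ Q₂) z m) →
      z⁻¹ * y ∈ M := fun y hy z hz hyz =>
    hMn _ (mul_mem (inv_mem hz) hy) (T.mem_norm hz hy fun m hm => (hyz m hm).symm)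
  obtain ⟨z, hz, hzx⟩ := T.add (one_mem P) hx (by
    obtain ⟨m, hm, hm1⟩ := hx1
    exact ⟨m, hm, Ne.symm hm1⟩)
  have hidx3 : M.relIndex P = 3 := by
    refine relIndex_eq_three hx hz hxM ?_ ?_ ?_
    · intro hzM
      obtain ⟨m, hm, hm1⟩ := T.exists_one hx
      have h1 := hMl z hzM m hm
      rw [hzx m hm, hm1] at h1
      have : ∀ a : ZMod 2, a + 1 ≠ a := by decide
      exact this _ h1
    · intro hxz
      obtain ⟨m, hm, hm1⟩ := T.exists_one (one_mem P)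
      -- `λ^z = λ^x`
      have h1 : lm (Ag S V U ⊓ Q₂) z m = lm (Ag S V U ⊓ Q₂) x m := by
        have h2 := hMl _ hxz _ (T.conjA hx hm)
        have e1 : lm (Ag S V U ⊓ Q₂) (x⁻¹ * z) (x⁻¹ * m * x) = lm (Ag S V U ⊓ Q₂) z m := by
          unfold lm
          have e : (x⁻¹ * z)⁻¹ * (x⁻¹ * m * x) * (x⁻¹ * z) = z⁻¹ * m * z := by group
          rw [e]
        have e2 : lm (Ag S V U ⊓ Q₂) 1 (x⁻¹ * m * x) = lm (Ag S V U ⊓ Q₂) x m := by
          unfold lm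
          have e : (1 : G)⁻¹ * (x⁻¹ * m * x) * 1 = x⁻¹ * m * x := by group
          rw [e]
        rwa [e1, e2] at h2
      rw [hzx m hm, hm1] at h1
      have : ∀ a : ZMod 2, 1 + a ≠ a := by decide
      exact this _ h1
    · intro y hy
      rcases hall y hy with h1 | h1 | h1
      · exact Or.inl (hlM y hy h1)
      · exact Or.inr (Or.inl (hcos y hy x hx h1))
      · exact Or.inr (Or.inr (hcos y hy z hz fun m hm => (h1 m hm).trans (hzx m hm).symm))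
  have h6 := relIndex_mul_relIndex K M P hKM hM.le
  rw [hidx2, hidx3] at h6
  rw [hKeq, inf_relIndex_left] at h6
  omega

end

end Cfsg.Agent.Omega.NO3b.Loc.Six
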